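import Cfsg.Agent.Fusion92.FocalTheorem
import Cfsg.Agent.Lib.Fusion.Constrained
import Cfsg.Agent.ConjFunctor.TransferControl

/-! The focal subgroup is proper when `p ≥ 5` and the automizer of the Sylow subgroup is a `p`-group. -/

set_option autoImplicit false

namespace Cfsg.Agent.LocalEven62

open Cfsg Cfsg.Agent.Fusion
open Cfsg.FusionSystem (normalizerIn centralizerIn)

universe u

variable {p : ℕ} [Fact p.Prime]

/-- The normalizer system of a subgroup has that subgroup as a normal subgroup. -/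
theorem isNormal_normalizerSystem_self {Ω : Type u} [Group Ω] {S V : Subgroup Ω}
    {F : FusionSystem S} (hV : V ≤ S) : (normalizerSystem F V hV).IsNormal V := by
  refine Fusion.isNormal_iff.mpr ⟨le_normalizerIn hV, fun P f hf => ?_⟩
  obtain ⟨-, hPN, -, f', hf', he, hfV⟩ :=
    (IsNormalizerSystem.isMap_iff (isNormalizerSystem_normalizerSystem V hV)).mp hf
  have hsub : P ⊔ V ≤ normalizerIn S V := sup_le hPN (le_normalizerIn hV)
  exact ⟨f', (IsNormalizerSystem.isMap_iff (isNormalizerSystem_normalizerSystem V hV)).mpr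
    ⟨hf', hsub, fun x hx => map_mem_normalizer hf' le_sup_right hfV hx (hsub hx).2,
      f', hf'.mono (sup_le le_rfl le_sup_right), fun _ _ => rfl, hfV⟩, he, hfV⟩

theorem conj_eq_of_normal {Ω : Type u} [Group Ω] {S : Subgroup Ω} [Finite S] {F : FusionSystem S}
    {Q R : Subgroup Ω} (hQ : F.IsNormal Q) (h : F.IsConj Q R) : R = Q := by
  obtain ⟨f, hf⟩ := Fusion.isConj_iff.mp h
  obtain ⟨hQS, hext⟩ := Fusion.isNormal_iff.mp hQ
  obtain ⟨f', -, he, hQ'⟩ := hext Q f hf.isMap
  apply SetLike.coe_injective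
  exact hf.2.symm.trans ((Set.image_congr fun x hx => (he hx).symm).trans hQ')

/-- A `p`-group `Aut_F(S)` gives a proper focal subgroup for `p ≥ 5`. -/
theorem focal_lt_of_autGroup_isPGroup (hp : 5 ≤ p) {Ω : Type u} [Group Ω] {S : Subgroup Ω}
    [Finite S] (hS : IsPGroup p S) {F : FusionSystem S} (hF : F.IsSaturated p) (hS1 : S ≠ ⊥)
    (haut : IsPGroup p ↥(F.autGroup S)) : F.focalSubgroup < S := by
  let W : ∀ (Q : Type u) [Group Q], Subgroup Q := fun Q _ => kInfLower Q
  have hW : IsCharPFunctor.{u} p W := (ConjFunctor.KInf.isCharPFunctor p).1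
  have hinv : Fusion92.IsInvariantW p W := fun Q R _ _ _ hQ φ => hW.2 Q R hQ φ
  set V := (W ↥S).map S.subtype with hVdef
  have hVS : V ≤ S := Subgroup.map_subtype_le _
  have hNS : normalizerIn S V = S := inf_eq_left.mpr (Fusion92.le_normalizer_map_W hinv hS)
  have hC : ∀ (G : Type u) [Group G] [Finite G] (P : Sylow p G),
      Subgroup.centralizer ((pCore p G : Subgroup G) : Set G) ≤ pCore p G →
      pCore p G ⊓ commutator G = pCore p G ⊓ (commutator ↥(Subgroup.normalizer
        (((W ↥(P : Subgroup G)).map (P : Subgroup G).subtype : Subgroup G) : Set G))).map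
        (Subgroup.normalizer
          (((W ↥(P : Subgroup G)).map (P : Subgroup G).subtype : Subgroup G) : Set G)).subtype := by
    intro G _ _ P _
    have h := ConjFunctor.inf_commutator_eq_of_controls hW
      (ConjFunctor.kInf_controlsTransfer hp G) P
    have hO : pCore p G ≤ (P : Subgroup G) := Thompson.pCore_le_sylow P
    rw [Subgroup.map_subtype_commutator, ← inf_eq_left.mpr hO, inf_assoc, inf_assoc]
    exact congrArg (pCore p G ⊓ ·) h
  have hVfn : F.IsFullyNormalized V := ⟨hVS, fun R _ => by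
    rw [hNS]; exact Subgroup.card_le_of_le (normalizerIn_le S R)⟩
  let N := normalizerSystem F V hVS
  haveI : Finite (normalizerIn S V) := Fusion.finite_of_le (normalizerIn_le S V)
  have hNp : IsPGroup p (normalizerIn S V) := hS.to_le (normalizerIn_le S V)
  refine lt_of_le_of_ne focal_le fun hfoc => ?_
  have hle : F.focalSubgroup ≤ N.focalSubgroup :=
    Fusion92.focal_le_normalizer_focal hW.1 hinv hC _ rfl hS F hF N
      (isNormalizerSystem_normalizerSystem V hVS)
  have hcons : N.IsConstrained p := by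
    refine ⟨normalizerSystem_isSaturated hS hF hVfn, V, isNormal_normalizerSystem_self hVS,
      le_normalizerIn hVS, fun R hR => ?_⟩
    rw [conj_eq_of_normal (isNormal_normalizerSystem_self hVS) hR]
    rintro c ⟨hcS, hcC⟩
    refine ⟨⟨c, hNS.le hcS⟩, (ConjFunctor.KInf.centralizer_kInf_le hS).1 ?_, rfl⟩
    exact Subgroup.mem_centralizer_iff.mpr fun y hy =>
      Subtype.ext (Subgroup.mem_centralizer_iff.mp hcC y ⟨y, hy, rfl⟩)
  obtain ⟨L, hLg, ι, hLfin, ⟨hinj, hreal⟩, ⟨T, hT⟩, -⟩ := Fusion.exists_model hNp hcons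
  haveI := hLfin
  refine ConjFunctor.not_le_commutator_of_controls hW (G := L)
    (fun H _ _ _ => ConjFunctor.kInf_controlsTransfer hp H) L (ConjFunctor.isSec_refl L) T ?_ ?_ ?_
  · intro hb
    refine hS1 ((Subgroup.eq_bot_iff_forall _).mpr fun x hx => ?_)
    have h1 : ι ⟨x, hNS.ge hx⟩ ∈ (T : Subgroup L) := hT.ge ⟨_, rfl⟩
    rw [hb, Subgroup.mem_bot, ← map_one ι] at h1
    exact congrArg Subtype.val (hinj h1)
  · intro g hg hgp
    have hgi : ∀ x : ↥(normalizerIn S V), g * ι x * g⁻¹ ∈ ι.range := fun x =>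
      hT.le (ConjFunctor.conj_mem_of_nrm hg (hT.ge ⟨x, rfl⟩))
    choose c hc using hgi
    let φ : ↥(normalizerIn S V) →* Ω :=
      { toFun := fun x => c x
        map_one' := congrArg Subtype.val (hinj (show ι (c 1) = ι 1 by simp [hc]))
        map_mul' := fun x y => congrArg Subtype.val
          (hinj (show ι (c (x * y)) = ι (c x * c y) by simp [hc, mul_assoc])) }
    have hφN : φ ∈ N.Hom (normalizerIn S V) :=
      (hreal _ le_rfl φ (fun x => (c x).2)).mpr ⟨g, fun x => hc x⟩
    have hf0 : IsMap F (normalizerIn S V) (extFun φ) :=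
      ((IsNormalizerSystem.isMap_iff (isNormalizerSystem_normalizerSystem V hVS)).mp
        (isMap_extFun hφN)).1
    have hfS : IsMap F S (extFun φ) := hf0.mono hNS.ge
    obtain ⟨Q, hQ⟩ := hfS.exists_image
    have hQS : Q = S := Subgroup.eq_of_le_of_card_ge hQ.cod_le hQ.card_eq.le
    rw [hQS] at hQ
    obtain ⟨α, hα, hαe⟩ := hQ.exists_aut
    obtain ⟨k, hk⟩ := haut ⟨α, hα⟩
    have hk' : α ^ p ^ k = 1 := congrArg Subtype.val hk
    have key : ∀ n : ℕ, ∀ x : ↥(normalizerIn S V), ∀ y : ↥(normalizerIn S V),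
        ((α ^ n) ⟨x, hNS.le x.2⟩ : Ω) = y → ι y = g ^ n * ι x * (g ^ n)⁻¹ := by
      intro n
      induction n with
      | zero =>
        intro x y h
        rw [show y = x from Subtype.ext h.symm]
        simp
      | succ n ih =>
        intro x y h
        rw [pow_succ, MulAut.mul_apply] at h
        have h1 : ((α ⟨x, hNS.le x.2⟩ : ↥S) : Ω) = c x := by
          rw [← autFun_coe α, hαe (hNS.le x.2)]
          exact extFun_coe φ x
        rw [show α ⟨x, hNS.le x.2⟩ = ⟨c x, hNS.le (c x).2⟩ from Subtype.ext h1] at h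
        rw [ih (c x) y h, hc, pow_succ]
        group
    have hgpk : g ^ p ^ k ∈ Subgroup.centralizer ((T : Subgroup L) : Set L) := by
      refine Subgroup.mem_centralizer_iff.mpr fun z hz => ?_
      rw [SetLike.mem_coe, hT] at hz
      obtain ⟨x, rfl⟩ := hz
      have h2 := key (p ^ k) x x (by rw [hk']; rfl)
      calc ι x * g ^ p ^ k = (g ^ p ^ k * ι x * (g ^ p ^ k)⁻¹) * g ^ p ^ k := by rw [← h2]
        _ = g ^ p ^ k * ι x := by group
    obtain ⟨m, hm⟩ := exists_pow_eq_self_of_coprime (hgp.symm.pow_left k)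
    rw [← hm]
    exact Subgroup.pow_mem _ hgpk m
  · intro z hz
    rw [hT] at hz
    obtain ⟨x, rfl⟩ := hz
    have hxN : (x : Ω) ∈ N.focalSubgroup := hle (hfoc.ge x.2.1)
    suffices h : N.focalSubgroup ≤ ((commutator L).comap ι).map (normalizerIn S V).subtype by
      obtain ⟨y, hy, hyx⟩ := h hxN
      rwa [show y = x from Subtype.ext hyx] at hy
    refine (Subgroup.closure_le _).mpr ?_
    rintro _ ⟨P, φ, a, hφ, rfl⟩
    obtain ⟨hP, hφS⟩ := N.le_of_mem hφ
    obtain ⟨g, hg⟩ := (hreal P hP φ hφS).mp hφ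
    refine ⟨(⟨a, hP a.2⟩ : ↥(normalizerIn S V))⁻¹ * ⟨φ a, hφS a⟩, ?_, rfl⟩
    rw [SetLike.mem_coe, Subgroup.mem_comap, map_mul, map_inv, hg a]
    exact Fusion92.diff_mem_commutator g _

end Cfsg.Agent.LocalEven62
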