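import Cfsg.Agent.LocalEven62.Basic
import Cfsg.Agent.Lib.PGroup.Basic

/-!
`p`-cores of subgroups, characteristic `p` in subgroup language, fixed points of `p`-groups and the
`A × B` lemma.
-/

set_option autoImplicit false

namespace Cfsg.Agent.LocalEven62

open Subgroup
open scoped commutatorElement

variable {G : Type*} [Group G] {p : ℕ}

/-! ### The `p`-core of a subgroup -/

theorem pCoreOf_le (K : Subgroup G) : pCoreOf p K ≤ K := map_subtype_le _

theorem isPGroup_pCoreOf (K : Subgroup G) : IsPGroup p ↥(pCoreOf p K) :=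
  Thompson.isPGroup_pCore.map _

theorem le_pCoreOf {R K : Subgroup G} (hR : IsPGroup p R) (hRK : R ≤ K)
    (hKR : K ≤ normalizer (R : Set G)) : R ≤ pCoreOf p K := by
  have h : R.subgroupOf K ≤ pCore p ↥K :=
    Thompson.le_pCore (normal_subgroupOf_of_le_normalizer hKR)
      (hR.of_equiv (Subgroup.subgroupOfEquivOfLe hRK).symm)
  calc R = (R.subgroupOf K).map K.subtype := by rw [subgroupOf_map_subtype, inf_eq_left.2 hRK]
    _ ≤ pCoreOf p K := map_mono h

theorem le_normalizer_pCoreOf (K : Subgroup G) :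
    K ≤ normalizer ((pCoreOf p K : Subgroup G) : Set G) := by
  refine le_normalizer_of_conj_mem fun k hk x hx => ?_
  obtain ⟨y, hy, rfl⟩ := hx
  exact ⟨⟨k, hk⟩ * y * ⟨k, hk⟩⁻¹, Thompson.instPCoreNormal.conj_mem y hy _, rfl⟩

theorem normalizer_le_normalizer_pCoreOf [Finite G] (K : Subgroup G) :
    normalizer (K : Set G) ≤ normalizer ((pCoreOf p K : Subgroup G) : Set G) := by
  intro g hg
  have hle : ∀ x ∈ pCoreOf p K, g * x * g⁻¹ ∈ pCoreOf p K := by
    intro x hx
    refine le_pCoreOf (R := (pCoreOf p K).map (MulAut.conj g).toMonoidHom)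
      ((isPGroup_pCoreOf K).map _) ?_ ?_ (conj_mem_map hx)
    · rintro y ⟨z, hz, rfl⟩
      exact conj_mem_of_mem_normalizer hg (pCoreOf_le K hz)
    · refine le_normalizer_of_conj_mem fun k hk y hy => ?_
      rw [mem_map_conj] at hy ⊢
      have hk' : g⁻¹ * k * g ∈ K := by
        have := conj_mem_of_mem_normalizer (inv_mem hg) hk
        simpa using this
      have := conj_mem_of_mem_normalizer (le_normalizer_pCoreOf K hk') hy
      simpa [mul_assoc] using this
  exact mem_normalizer_of_conj_mem hle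

theorem pCoreOf_top : pCoreOf p (⊤ : Subgroup G) = pCore p G := by
  refine le_antisymm (Thompson.le_pCore ?_ (isPGroup_pCoreOf _)) ?_
  · exact normal_of_le_normalizer (le_normalizer_pCoreOf ⊤)
  · exact le_pCoreOf Thompson.isPGroup_pCore le_top (le_normalizer_top _)

theorem subgroupOf_pCoreOf (K : Subgroup G) : (pCoreOf p K).subgroupOf K = pCore p ↥K :=
  comap_map_eq_self_of_injective K.subtype_injective _

theorem pCoreOf_eq_bot_iff (K : Subgroup G) : pCoreOf p K = ⊥ ↔ pCore p ↥K = ⊥ :=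
  map_eq_bot_iff_of_injective _ K.subtype_injective

/-- `K` has characteristic `p`. -/
def CharP (p : ℕ) (K : Subgroup G) : Prop :=
  K ⊓ centralizer ((pCoreOf p K : Subgroup G) : Set G) ≤ pCoreOf p K

theorem charP_iff {K : Subgroup G} :
    CharP p K ↔ Subgroup.centralizer (pCore p ↥K : Set ↥K) ≤ pCore p ↥K := by
  constructor
  · intro h x hx
    rw [← subgroupOf_pCoreOf (p := p) K]
    refine h ⟨x.2, Subgroup.mem_centralizer_iff.2 ?_⟩
    rintro y ⟨z, hz, rfl⟩
    exact congrArg Subtype.val (Subgroup.mem_centralizer_iff.1 hx z hz)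
  · rintro h x ⟨hxK, hx⟩
    refine ⟨⟨x, hxK⟩, h (Subgroup.mem_centralizer_iff.2 fun z hz => Subtype.ext ?_), rfl⟩
    exact Subgroup.mem_centralizer_iff.1 hx z.1 ⟨z, hz, rfl⟩

theorem charP_top_iff :
    CharP p (⊤ : Subgroup G) ↔ Subgroup.centralizer (pCore p G : Set G) ≤ pCore p G := by
  rw [CharP, pCoreOf_top, top_inf_eq]

theorem CharP.eq_one [Fact p.Prime] {K : Subgroup G} (hK : CharP p K) {x : G} (hxK : x ∈ K)
    (hx : Nat.Coprime (orderOf x) p) (hc : ∀ r ∈ pCoreOf p K, Commute x r) : x = 1 :=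
  Transfer.eq_one_of_coprime_of_mem (isPGroup_pCoreOf K)
    (hK ⟨hxK, mem_centralizer_iff_commute.2 hc⟩) hx

theorem charP_of_eq_one [Finite G] [Fact p.Prime] {K : Subgroup G}
    (h : ∀ x ∈ K, Nat.Coprime (orderOf x) p → (∀ r ∈ pCoreOf p K, Commute x r) → x = 1) :
    CharP p K := by
  refine le_pCoreOf (isPGroup_of_coprime_eq_one fun x hx hp =>
    h x hx.1 hp (mem_centralizer_iff_commute.1 hx.2)) inf_le_left ?_
  exact le_normalizer_inf le_normalizer
    ((le_normalizer_pCoreOf K).trans (normalizer_le_normalizer_centralizer _))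

/-- A subgroup `K` normalized by `L` inherits characteristic `p` from `L`. -/
theorem CharP.of_normal [Finite G] [Fact p.Prime] {K L : Subgroup G} (hL : CharP p L) (hKL : K ≤ L)
    (hLK : L ≤ normalizer (K : Set G)) : CharP p K := by
  refine charP_of_eq_one fun x hxK hx hc => hL.eq_one (hKL hxK) hx ?_
  refine commute_step hx (isPGroup_pCoreOf K) hc fun r hr => ?_
  have hrN : r ∈ normalizer (K : Set G) := hLK (pCoreOf_le L hr)
  refine le_pCoreOf (R := pCoreOf p L ⊓ K) (isPGroup_pCoreOf L).to_inf_left inf_le_right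
    (le_normalizer_inf (hKL.trans (le_normalizer_pCoreOf L)) le_normalizer)
    (Subgroup.mem_inf.2 ⟨?_, ?_⟩)
  · rw [commutatorElement_def]
    exact mul_mem (conj_mem_of_mem_normalizer (le_normalizer_pCoreOf L (hKL hxK)) hr) (inv_mem hr)
  · rw [commutatorElement_def, mul_assoc, mul_assoc, ← mul_assoc r]
    exact mul_mem hxK (conj_mem_of_mem_normalizer hrN (inv_mem hxK))

theorem CharP.of_isSubnormal [Finite G] [Fact p.Prime] (hG : CharP p (⊤ : Subgroup G))
    {K : Subgroup G} (hK : K.IsSubnormal) : CharP p K := by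
  induction hK with
  | top => exact hG
  | step H K hle _ hN ih =>
    exact ih.of_normal hle (le_normalizer_of_conj_mem fun k hk x hx =>
      hN.conj_mem ⟨x, hle hx⟩ hx ⟨k, hk⟩)

/-! ### Fixed points of `p`-groups -/

theorem isPGroup_sup [Finite G] {A B : Subgroup G} (hA : IsPGroup p A) (hB : IsPGroup p B)
    (hAB : A ≤ normalizer (B : Set G)) : IsPGroup p (A ⊔ B : Subgroup G) :=
  hA.to_sup_of_normal_right' hB hAB

/-- A `p`-group `P` acting on `p`-groups `D < R` fixes a nontrivial element of `N_R(D)` modulo `D`. -/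
theorem exists_not_mem_commutator_mem [Finite G] [Fact p.Prime] {P D R : Subgroup G}
    (hP : IsPGroup p P) (hR : IsPGroup p R) (hPR : P ≤ normalizer (R : Set G))
    (hPD : P ≤ normalizer (D : Set G)) (hDR : D < R) :
    ∃ r ∈ R, r ∉ D ∧ r ∈ normalizer (D : Set G) ∧ ∀ y ∈ P, ⁅y, r⁆ ∈ D := by
  classical
  set U : Subgroup G := R ⊓ normalizer (D : Set G) with hU
  have hDU : D ≤ U := le_inf hDR.le le_normalizer
  have hne : ¬ U ≤ D := by
    intro h
    have hlt := PGroup.lt_normalizer hR (H := D.subgroupOf R)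
      (fun h' => hDR.not_ge (subgroupOf_eq_top.1 h'))
    obtain ⟨x, hxN, hxD⟩ := SetLike.exists_of_lt hlt
    refine hxD (h ⟨x.2, mem_normalizer_of_conj_mem fun d hd => ?_⟩)
    exact conj_mem_of_mem_normalizer (H := D.subgroupOf R) hxN (x := ⟨d, hDR.le hd⟩) hd
  have hPU : P ≤ normalizer (U : Set G) :=
    le_normalizer_inf hPR (hPD.trans le_normalizer)
  set X : Subgroup G := P ⊔ U with hX
  have hXp : IsPGroup p X := isPGroup_sup hP hR.to_inf_left hPU
  have hXD : X ≤ normalizer (D : Set G) := sup_le hPD inf_le_right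
  have hXU : X ≤ normalizer (U : Set G) := sup_le hPU le_normalizer
  haveI : (D.subgroupOf X).Normal := normal_subgroupOf_of_le_normalizer hXD
  haveI : (U.subgroupOf X).Normal := normal_subgroupOf_of_le_normalizer hXU
  haveI hn : ((U.subgroupOf X).map (QuotientGroup.mk' (D.subgroupOf X))).Normal :=
    Subgroup.Normal.map inferInstance _ (QuotientGroup.mk'_surjective _)
  have hne' : (U.subgroupOf X).map (QuotientGroup.mk' (D.subgroupOf X)) ≠ ⊥ := by
    rw [Ne, Subgroup.map_eq_bot_iff, QuotientGroup.ker_mk']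
    exact fun h => hne fun x hx => h (show (⟨x, (le_sup_right : U ≤ X) hx⟩ : X) ∈ _ from hx)
  have hQ := hXp.to_quotient (D.subgroupOf X)
  have hc := PGroup.inf_center_ne_bot hQ hne'
  obtain ⟨z, hz1⟩ := (Subgroup.ne_bot_iff_exists_ne_one.1 hc)
  obtain ⟨⟨u, hu, hueq⟩, hzc⟩ := Subgroup.mem_inf.1 z.prop
  refine ⟨u.1, hu.1, fun hD => hz1 (Subtype.ext (hueq.symm.trans ((QuotientGroup.eq_one_iff u).2 hD))),
    hu.2, fun y hy => ?_⟩
  rw [← hueq] at hzc
  have h1 := Subgroup.mem_center_iff.1 hzc (QuotientGroup.mk' _ ⟨y, (le_sup_left : P ≤ X) hy⟩)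
  rw [← map_mul, ← map_mul] at h1
  have h2 : QuotientGroup.mk' (D.subgroupOf X) ⁅(⟨y, (le_sup_left : P ≤ X) hy⟩ : X), u⁆ = 1 := by
    rw [map_commutatorElement, commutatorElement_eq_one_iff_mul_comm, ← map_mul, ← map_mul]
    exact h1
  exact (QuotientGroup.eq_one_iff (N := D.subgroupOf X)
    ⁅(⟨y, (le_sup_left : P ≤ X) hy⟩ : X), u⁆).1 h2

/-- A `p`-group normalizing a nontrivial `p`-group centralizes an element of order `p` of it. -/
theorem exists_fixed [Finite G] [hp : Fact p.Prime] {P R : Subgroup G} (hP : IsPGroup p P)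
    (hR : IsPGroup p R) (hPR : P ≤ normalizer (R : Set G)) (hne : R ≠ ⊥) :
    ∃ r ∈ R, r ≠ 1 ∧ r ^ p = 1 ∧ ∀ y ∈ P, Commute y r := by
  obtain ⟨r, hrR, hr, -, hc⟩ := exists_not_mem_commutator_mem hP hR hPR
    (le_normalizer_top (⊥ : Subgroup G)) (bot_lt_iff_ne_bot.2 hne)
  rw [Subgroup.mem_bot] at hr
  obtain ⟨k, hk⟩ := hR ⟨r, hrR⟩
  have hk' : r ^ p ^ k = 1 := congrArg Subtype.val hk
  have hex : ∃ k : ℕ, r ^ p ^ k = 1 := ⟨k, hk'⟩
  classical
  have h0 : Nat.find hex ≠ 0 := fun h => hr (by simpa [h] using Nat.find_spec hex)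
  obtain ⟨m, hm⟩ := Nat.exists_eq_succ_of_ne_zero h0
  refine ⟨r ^ p ^ m, pow_mem hrR _, Nat.find_min hex (by omega), ?_,
    fun y hy => Commute.pow_right (commutatorElement_eq_one_iff_mul_comm.1
      (Subgroup.mem_bot.1 (hc y hy))) _⟩
  rw [← pow_mul, ← pow_succ]
  have := Nat.find_spec hex
  rwa [hm] at this

theorem inf_centralizer_ne_bot [Finite G] [Fact p.Prime] {P R : Subgroup G} (hP : IsPGroup p P)
    (hR : IsPGroup p R) (hPR : P ≤ normalizer (R : Set G)) (hne : R ≠ ⊥) :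
    R ⊓ centralizer (P : Set G) ≠ ⊥ := by
  obtain ⟨r, hrR, hr, -, hc⟩ := exists_fixed hP hR hPR hne
  intro h
  exact hr (Subgroup.mem_bot.1 (h ▸ ⟨hrR, mem_centralizer_iff_commute.2 fun y hy => (hc y hy).symm⟩))

/-- Thompson's `A × B` lemma. -/
theorem commute_of_AxB [Finite G] [Fact p.Prime] {P R : Subgroup G} (hP : IsPGroup p P)
    (hR : IsPGroup p R) (hPR : P ≤ normalizer (R : Set G)) {c : G} (hc : Nat.Coprime (orderOf c) p)
    (hcR : c ∈ normalizer (R : Set G)) (hcP : ∀ y ∈ P, Commute c y)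
    (h : ∀ r ∈ R, (∀ y ∈ P, Commute y r) → Commute c r) : ∀ r ∈ R, Commute c r := by
  set D : Subgroup G := R ⊓ centralizer ({c} : Set G) with hD
  have hmem : ∀ r, r ∈ D ↔ r ∈ R ∧ Commute c r := fun r => by
    rw [hD, Subgroup.mem_inf, Subgroup.mem_centralizer_singleton_iff]
    exact and_congr Iff.rfl ⟨fun h => h.symm, fun h => h.symm⟩
  by_contra hno
  have hDR : D < R := lt_of_le_of_ne inf_le_left fun he => hno fun r hr =>
    ((hmem r).1 (he.symm ▸ hr)).2
  have hPD : P ≤ normalizer (D : Set G) := le_normalizer_of_conj_mem fun y hy d hd =>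
    (hmem _).2 ⟨conj_mem_of_mem_normalizer (hPR hy) ((hmem d).1 hd).1,
      ((hcP y hy).mul_right ((hmem d).1 hd).2).mul_right (hcP y hy).inv_right⟩
  obtain ⟨r, hrR, hrD, -, hr⟩ := exists_not_mem_commutator_mem hP hR hPR hPD hDR
  set e : G := r⁻¹ * (c * r * c⁻¹) with he
  have heR : e ∈ R := mul_mem (inv_mem hrR) (conj_mem_of_mem_normalizer hcR hrR)
  have hec : Commute c e := h e heR fun y hy => by
    have hd := ((hmem _).1 (hr y hy)).2
    set d : G := ⁅y, r⁆ with hdd
    have h1 : y * r * y⁻¹ = d * r := by rw [hdd, commutatorElement_def]; group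
    have h2 : y * c = c * y := (hcP y hy).symm.eq
    have h3 : y * (c * r * c⁻¹) * y⁻¹ = d * (c * r * c⁻¹) := by
      calc y * (c * r * c⁻¹) * y⁻¹ = (y * c) * r * (y * c)⁻¹ := by group
        _ = (c * y) * r * (c * y)⁻¹ := by rw [h2]
        _ = c * (y * r * y⁻¹) * c⁻¹ := by group
        _ = (c * d) * r * c⁻¹ := by rw [h1]; group
        _ = (d * c) * r * c⁻¹ := by rw [hd.eq]
        _ = _ := by group
    show y * e = e * y
    rw [← mul_inv_eq_iff_eq_mul]
    calc y * e * y⁻¹ = (y * r * y⁻¹)⁻¹ * (y * (c * r * c⁻¹) * y⁻¹) := by rw [he]; group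
      _ = e := by rw [h3, h1, he]; group
  have hfix : Commute c r⁻¹ := by
    refine fix_of_stab (c := e⁻¹) hc ?_ hec.inv_right ?_
    · obtain ⟨k, hk⟩ := hR ⟨e⁻¹, inv_mem heR⟩
      exact ⟨k, congrArg Subtype.val hk⟩
    · rw [eq_inv_mul_iff_mul_eq]
      have : c * r * c⁻¹ = r * e := by rw [he]; group
      calc e * (c * r⁻¹ * c⁻¹) = e * (c * r * c⁻¹)⁻¹ := by group
        _ = r⁻¹ := by rw [this]; group
  exact hrD ((hmem r).2 ⟨hrR, by simpa using hfix.inv_right⟩)

/-- `p`-local subgroups of a group of characteristic `p` have characteristic `p`. -/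
theorem CharP.normalizer [Finite G] [Fact p.Prime] (hG : CharP p (⊤ : Subgroup G)) {P : Subgroup G}
    (hP : IsPGroup p P) : CharP p (Subgroup.normalizer (P : Set G)) := by
  set N : Subgroup G := Subgroup.normalizer (P : Set G)
  have hPO : P ≤ pCoreOf p N := le_pCoreOf hP le_normalizer le_rfl
  refine charP_of_eq_one fun x hxN hx hc => hG.eq_one (mem_top x) hx ?_
  have hRn : ∀ L : Subgroup G, L ≤ Subgroup.normalizer ((pCoreOf p (⊤ : Subgroup G)) : Set G) :=
    fun L => le_top.trans (le_normalizer_pCoreOf ⊤)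
  refine commute_of_AxB hP (isPGroup_pCoreOf ⊤) (hRn P) hx (hRn ⊤ (mem_top x))
    (fun y hy => hc y (hPO hy)) fun r hr hry => hc r ?_
  refine le_pCoreOf (R := pCoreOf p ⊤ ⊓ N) (isPGroup_pCoreOf ⊤).to_inf_left inf_le_right
    (le_normalizer_inf (hRn N) le_normalizer) ⟨hr, mem_normalizer_of_conj_mem fun y hy => ?_⟩
  rw [(hry y hy).symm.eq, mul_inv_cancel_right]
  exact hy

/-! ### Elements stabilizing a section -/

/-- The elements normalizing `V` and centralizing `R` modulo `V`. -/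
def stab (R V : Subgroup G) : Subgroup G where
  carrier := {g | g ∈ Subgroup.normalizer (V : Set G) ∧ ∀ r ∈ R, ⁅g, r⁆ ∈ V}
  one_mem' := ⟨one_mem _, fun r _ => by rw [commutatorElement_one_left]; exact V.one_mem⟩
  mul_mem' := by
    rintro a b ⟨ha, ha'⟩ ⟨hb, hb'⟩
    refine ⟨mul_mem ha hb, fun r hr => ?_⟩
    have : ⁅a * b, r⁆ = (a * ⁅b, r⁆ * a⁻¹) * ⁅a, r⁆ := by
      simp only [commutatorElement_def]; group
    rw [this]
    exact mul_mem (conj_mem_of_mem_normalizer ha (hb' r hr)) (ha' r hr)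
  inv_mem' := by
    rintro a ⟨ha, ha'⟩
    refine ⟨inv_mem ha, fun r hr => ?_⟩
    have : ⁅a⁻¹, r⁆ = a⁻¹ * ⁅a, r⁆⁻¹ * a⁻¹⁻¹ := by simp only [commutatorElement_def]; group
    rw [this]
    exact conj_mem_of_mem_normalizer (inv_mem ha) (inv_mem (ha' r hr))

theorem mem_stab {R V : Subgroup G} {g : G} :
    g ∈ stab R V ↔ g ∈ Subgroup.normalizer (V : Set G) ∧ ∀ r ∈ R, ⁅g, r⁆ ∈ V := Iff.rfl

theorem le_normalizer_stab {R V L : Subgroup G} (hR : L ≤ Subgroup.normalizer (R : Set G))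
    (hV : L ≤ Subgroup.normalizer (V : Set G)) :
    L ≤ Subgroup.normalizer ((stab R V : Subgroup G) : Set G) := by
  refine le_normalizer_of_conj_mem fun l hl g hg => ⟨mul_mem (mul_mem (hV hl) hg.1) (inv_mem (hV hl)), ?_⟩
  intro r hr
  have h1 : l⁻¹ * r * l ∈ R := by
    have := conj_mem_of_mem_normalizer (inv_mem (hR hl)) hr
    simpa using this
  have : ⁅l * g * l⁻¹, r⁆ = l * ⁅g, l⁻¹ * r * l⁆ * l⁻¹ := by
    simp only [commutatorElement_def]; group
  rw [this]
  exact conj_mem_of_mem_normalizer (hV hl) (hg.2 _ h1)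

/-- If `Q ≤ S` and `C` normalizes `S`, then `[C, Q] ≤ S`. -/
theorem commutator_le_of_le_normalizer {C Q S : Subgroup G} (hQ : Q ≤ S)
    (hC : C ≤ Subgroup.normalizer (S : Set G)) : ⁅C, Q⁆ ≤ S :=
  (commutator_mono le_rfl hQ).trans (le_normalizer_iff_commutator_le_right.1 hC)

end Cfsg.Agent.LocalEven62
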