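import Cfsg.Agent.LocalEven62.Action

/-!
The Frattini subgroup of a `p`-subgroup, inside the ambient group.
-/

set_option autoImplicit false

namespace Cfsg.Agent.LocalEven62

open Subgroup
open scoped commutatorElement

variable {G : Type*} [Group G] [Finite G] {p : ℕ} [Fact p.Prime]

theorem frattini_map_le_of {P D : Subgroup G} (hP : IsPGroup p P) (hc : ⁅P, P⁆ ≤ D)
    (hpow : ∀ x ∈ P, x ^ p ∈ D) : (frattini ↥P).map P.subtype ≤ D := by
  rw [map_le_iff_le_comap, PGroup.frattini_eq hP, sup_le_iff, closure_le, _root_.commutator_def,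
    commutator_le]
  refine ⟨?_, fun a _ b _ => hc (commutator_mem_commutator a.2 b.2)⟩
  rintro _ ⟨g, rfl⟩
  exact hpow g.1 g.2

theorem pow_mem_frattini_map {P : Subgroup G} (hP : IsPGroup p P) {x : G} (hx : x ∈ P) :
    x ^ p ∈ (frattini ↥P).map P.subtype :=
  ⟨⟨x, hx⟩ ^ p, PGroup.pow_mem_frattini hP _, rfl⟩

theorem commutator_le_frattini_map {P : Subgroup G} (hP : IsPGroup p P) :
    ⁅P, P⁆ ≤ (frattini ↥P).map P.subtype :=
  commutator_le.2 fun a ha b hb => ⟨⁅⟨a, ha⟩, ⟨b, hb⟩⁆, PGroup.comm_mem_frattini hP _ _, rfl⟩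

end Cfsg.Agent.LocalEven62
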