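import Mathlib.GroupTheory.Sylow
import Mathlib.GroupTheory.IsSubnormal
import Mathlib.GroupTheory.Commutator.Basic
import Cfsg.Prelude.Def_LocalStructure
import Cfsg.Agent.Lib.Thompson.Cores
import Cfsg.Agent.Lib.Transfer.Residual

/-!
Basic tools for local analysis in subgroup language: Sylow subgroups of subgroups, `O^p` of a subgroup,
stabilized chains and coprime fixed points.
-/

set_option autoImplicit false

namespace Cfsg.Agent.LocalEven62

open Subgroup
open scoped commutatorElement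

variable {G : Type*} [Group G] {p : ℕ}

/-! ### Conjugates and normalizers -/

theorem mem_map_conj {H : Subgroup G} {g y : G} :
    y ∈ H.map (MulAut.conj g).toMonoidHom ↔ g⁻¹ * y * g ∈ H := by
  constructor
  · rintro ⟨a, ha, rfl⟩
    simpa [mul_assoc] using ha
  · intro h
    exact ⟨g⁻¹ * y * g, h, by simp [mul_assoc]⟩

theorem conj_mem_map {H : Subgroup G} {g a : G} (ha : a ∈ H) :
    g * a * g⁻¹ ∈ H.map (MulAut.conj g).toMonoidHom :=
  ⟨a, ha, rfl⟩

theorem map_conj_one (H : Subgroup G) : H.map (MulAut.conj (1 : G)).toMonoidHom = H := by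
  ext y; rw [mem_map_conj]; simp

theorem map_conj_mul (H : Subgroup G) (a b : G) :
    (H.map (MulAut.conj b).toMonoidHom).map (MulAut.conj a).toMonoidHom
      = H.map (MulAut.conj (a * b)).toMonoidHom := by
  ext y; simp only [mem_map_conj]; simp [mul_assoc]

theorem map_conj_inv_cancel (H : Subgroup G) (a : G) :
    (H.map (MulAut.conj a).toMonoidHom).map (MulAut.conj a⁻¹).toMonoidHom = H := by
  rw [map_conj_mul, inv_mul_cancel, map_conj_one]

theorem map_conj_le_iff {H K : Subgroup G} {g : G} :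
    H.map (MulAut.conj g).toMonoidHom ≤ K ↔ H ≤ K.map (MulAut.conj g⁻¹).toMonoidHom := by
  constructor
  · intro h
    calc H = (H.map (MulAut.conj g).toMonoidHom).map (MulAut.conj g⁻¹).toMonoidHom :=
          (map_conj_inv_cancel H g).symm
      _ ≤ _ := map_mono h
  · intro h
    calc H.map (MulAut.conj g).toMonoidHom
        ≤ (K.map (MulAut.conj g⁻¹).toMonoidHom).map (MulAut.conj g).toMonoidHom := map_mono h
      _ = K := by rw [map_conj_mul, mul_inv_cancel, map_conj_one]

theorem mem_normalizer_iff_map {H : Subgroup G} {g : G} :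
    g ∈ normalizer (H : Set G) ↔ H.map (MulAut.conj g).toMonoidHom = H :=
  Subgroup.mem_normalizer_iff_map_conj_eq

theorem card_map_conj (H : Subgroup G) (g : G) :
    Nat.card (H.map (MulAut.conj g).toMonoidHom : Subgroup G) = Nat.card H :=
  Subgroup.card_map_of_injective (MulAut.conj g).injective

theorem conj_mem_of_mem_normalizer {H : Subgroup G} {g x : G}
    (hg : g ∈ normalizer (H : Set G)) (hx : x ∈ H) : g * x * g⁻¹ ∈ H := by
  rw [← mem_normalizer_iff_map.1 hg]
  exact conj_mem_map hx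

theorem mem_normalizer_of_conj_mem [Finite G] {H : Subgroup G} {g : G}
    (h : ∀ x ∈ H, g * x * g⁻¹ ∈ H) : g ∈ normalizer (H : Set G) := by
  rw [mem_normalizer_iff_map]
  refine eq_of_le_of_card_ge ?_ (card_map_conj H g).ge
  rintro y ⟨x, hx, rfl⟩
  exact h x hx

theorem le_normalizer_of_conj_mem {H K : Subgroup G}
    (h : ∀ k ∈ K, ∀ x ∈ H, k * x * k⁻¹ ∈ H) : K ≤ normalizer (H : Set G) :=
  Subgroup.le_normalizer_iff.2 h

theorem normal_of_le_normalizer {H : Subgroup G} (h : ⊤ ≤ normalizer (H : Set G)) : H.Normal :=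
  normalizer_eq_top_iff.1 (top_le_iff.1 h)

theorem normal_of_sup_eq_top {H A B : Subgroup G} (hA : A ≤ normalizer (H : Set G))
    (hB : B ≤ normalizer (H : Set G)) (hAB : A ⊔ B = ⊤) : H.Normal :=
  normal_of_le_normalizer (hAB ▸ sup_le hA hB)

theorem le_normalizer_inf {H K L : Subgroup G} (hH : L ≤ normalizer (H : Set G))
    (hK : L ≤ normalizer (K : Set G)) : L ≤ normalizer ((H ⊓ K : Subgroup G) : Set G) :=
  le_normalizer_of_conj_mem fun _ hl _ hx =>
    ⟨conj_mem_of_mem_normalizer (hH hl) hx.1, conj_mem_of_mem_normalizer (hK hl) hx.2⟩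

theorem mem_normalizer_of_map_le [Finite G] {H : Subgroup G} {g : G}
    (h : H.map (MulAut.conj g).toMonoidHom ≤ H) : g ∈ normalizer (H : Set G) :=
  mem_normalizer_iff_map.2 (eq_of_le_of_card_ge h (card_map_conj H g).ge)

theorem le_normalizer_sup {H K L : Subgroup G} (hH : L ≤ normalizer (H : Set G))
    (hK : L ≤ normalizer (K : Set G)) : L ≤ normalizer ((H ⊔ K : Subgroup G) : Set G) :=
  fun l hl => mem_normalizer_iff_map.2 (by
    rw [Subgroup.map_sup, mem_normalizer_iff_map.1 (hH hl), mem_normalizer_iff_map.1 (hK hl)])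

theorem le_normalizer_of_le {H K : Subgroup G} (h : H ≤ K) : H ≤ normalizer (K : Set G) :=
  h.trans le_normalizer

theorem le_normalizer_top {L : Subgroup G} (N : Subgroup G) [N.Normal] :
    L ≤ normalizer (N : Set G) := by
  rw [normalizer_eq_top]; exact le_top

theorem normalizer_le_normalizer_centralizer (V : Subgroup G) :
    normalizer (V : Set G) ≤ normalizer ((centralizer (V : Set G) : Subgroup G) : Set G) := by
  refine le_normalizer_of_conj_mem fun g hg c hc => ?_
  rw [Subgroup.mem_centralizer_iff] at hc ⊢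
  intro v hv
  have h1 : g⁻¹ * v * g ∈ V := by
    have := conj_mem_of_mem_normalizer (inv_mem hg) hv
    simpa using this
  have := hc _ h1
  calc v * (g * c * g⁻¹) = g * ((g⁻¹ * v * g) * c) * g⁻¹ := by group
    _ = g * (c * (g⁻¹ * v * g)) * g⁻¹ := by rw [this]
    _ = g * c * g⁻¹ * v := by group

theorem mem_centralizer_iff_commute {V : Subgroup G} {c : G} :
    c ∈ centralizer (V : Set G) ↔ ∀ v ∈ V, Commute c v :=
  ⟨fun h v hv => (Subgroup.mem_centralizer_iff.1 h v hv).symm,
    fun h => Subgroup.mem_centralizer_iff.2 fun v hv => (h v hv).symm⟩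

/-! ### Orders -/

theorem coprime_orderOf_pow {x : G} (hx : Nat.Coprime (orderOf x) p) (n : ℕ) :
    Nat.Coprime (orderOf (x ^ n)) p :=
  hx.coprime_dvd_left (orderOf_pow_dvd n)

theorem coprime_orderOf_map {G' : Type*} [Group G'] (f : G →* G') {x : G}
    (hx : Nat.Coprime (orderOf x) p) : Nat.Coprime (orderOf (f x)) p :=
  hx.coprime_dvd_left (orderOf_map_dvd f x)

theorem coprime_orderOf_mk {K : Subgroup G} {x : G} (hxK : x ∈ K) :
    Nat.Coprime (orderOf (⟨x, hxK⟩ : K)) p ↔ Nat.Coprime (orderOf x) p := by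
  rw [Subgroup.orderOf_mk]

/-! ### `O^p` of a subgroup -/

/-- `O^p(K)` inside the ambient group. -/
abbrev resOf (p : ℕ) (K : Subgroup G) : Subgroup G := (pResidual p ↥K).map K.subtype

theorem mem_resOf {K : Subgroup G} {x : G} (hxK : x ∈ K) (hx : Nat.Coprime (orderOf x) p) :
    x ∈ resOf p K :=
  ⟨⟨x, hxK⟩, Transfer.mem_pResidual_of_coprime ((coprime_orderOf_mk hxK).2 hx), rfl⟩

theorem resOf_le_iff {K M : Subgroup G} :
    resOf p K ≤ M ↔ ∀ x ∈ K, Nat.Coprime (orderOf x) p → x ∈ M := by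
  refine ⟨fun h x hxK hx => h (mem_resOf hxK hx), fun h => ?_⟩
  rw [resOf, map_le_iff_le_comap, Transfer.pResidual_le_iff]
  exact fun g hg => h g.1 g.2 (by rwa [orderOf_coe])

theorem resOf_eq_closure (K : Subgroup G) :
    resOf p K = closure {x : G | x ∈ K ∧ Nat.Coprime (orderOf x) p} :=
  le_antisymm (resOf_le_iff.2 fun x hxK hx => subset_closure ⟨hxK, hx⟩)
    ((closure_le _).2 fun _ hx => mem_resOf hx.1 hx.2)

theorem resOf_le (K : Subgroup G) : resOf p K ≤ K := map_subtype_le _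

theorem resOf_mono {K L : Subgroup G} (h : K ≤ L) : resOf p K ≤ resOf p L :=
  resOf_le_iff.2 fun _ hxK hx => mem_resOf (h hxK) hx

theorem resOf_top : resOf p (⊤ : Subgroup G) = pResidual p G :=
  le_antisymm (resOf_le_iff.2 fun _ _ hx => Transfer.mem_pResidual_of_coprime hx)
    (Transfer.pResidual_le_iff.2 fun _ hx => mem_resOf (mem_top _) hx)

theorem resOf_le_pResidual (K : Subgroup G) : resOf p K ≤ pResidual p G :=
  resOf_le_iff.2 fun _ _ hx => Transfer.mem_pResidual_of_coprime hx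

theorem normalizer_le_normalizer_resOf (K : Subgroup G) :
    normalizer (K : Set G) ≤ normalizer ((resOf p K : Subgroup G) : Set G) := by
  intro g hg
  rw [mem_normalizer_iff_map]
  refine le_antisymm ?_ ?_
  · rw [map_le_iff_le_comap, resOf_le_iff]
    intro x hxK hx
    exact mem_resOf (conj_mem_of_mem_normalizer hg hxK) (coprime_orderOf_map _ hx)
  · rw [resOf_le_iff]
    intro x hxK hx
    rw [mem_map_conj]
    refine mem_resOf ?_ ?_
    · have := conj_mem_of_mem_normalizer (inv_mem hg) hxK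
      simpa using this
    · have := coprime_orderOf_map (MulAut.conj g⁻¹).toMonoidHom hx
      simpa using this

theorem resOf_normal {K : Subgroup G} [hK : K.Normal] : (resOf p K).Normal :=
  normal_of_le_normalizer ((le_normalizer_top K).trans (normalizer_le_normalizer_resOf K))

theorem resOf_resOf (K : Subgroup G) : resOf p (resOf p K) = resOf p K :=
  le_antisymm (resOf_le _) (resOf_le_iff.2 fun _ hxK hx => mem_resOf (mem_resOf hxK hx) hx)

/-- A subgroup without nontrivial elements of order prime to `p` is a `p`-group. -/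
theorem isPGroup_of_coprime_eq_one [Finite G] [Fact p.Prime] {K : Subgroup G}
    (h : ∀ x ∈ K, Nat.Coprime (orderOf x) p → x = 1) : IsPGroup p K := by
  have hb : pResidual p ↥K ≤ (⊥ : Subgroup ↥K) := Transfer.pResidual_le_iff.2 fun g hg => by
    rw [Subgroup.mem_bot]
    exact Subtype.ext (h g.1 g.2 (by rwa [orderOf_coe]))
  exact (Transfer.isPGroup_quotient_of_pResidual_le hb).of_injective (QuotientGroup.mk' ⊥)
    ((MonoidHom.ker_eq_bot_iff _).1 (QuotientGroup.ker_mk' ⊥))

theorem isPGroup_iff_coprime_eq_one [Finite G] [Fact p.Prime] {K : Subgroup G} :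
    IsPGroup p K ↔ ∀ x ∈ K, Nat.Coprime (orderOf x) p → x = 1 :=
  ⟨fun hK _ hxK hx => Transfer.eq_one_of_coprime_of_mem hK hxK hx, isPGroup_of_coprime_eq_one⟩

theorem resOf_eq_bot_iff [Finite G] [Fact p.Prime] {K : Subgroup G} :
    resOf p K = ⊥ ↔ IsPGroup p K := by
  rw [eq_bot_iff, resOf_le_iff, isPGroup_iff_coprime_eq_one]
  simp only [Subgroup.mem_bot]

/-- In a subnormal subgroup of `p`-power index lie all elements of order prime to `p`. -/
theorem mem_of_isSubnormal_of_index {A : Subgroup G} (hA : A.IsSubnormal) [Finite G]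
    [hp : Fact p.Prime] :
    (∃ k, A.index = p ^ k) → ∀ x : G, Nat.Coprime (orderOf x) p → x ∈ A := by
  induction hA with
  | top => exact fun _ x _ => mem_top x
  | step H K hle _ hN ih =>
    rintro ⟨k, hk⟩ x hx
    obtain ⟨a, -, ha⟩ := (Nat.dvd_prime_pow hp.out).1 (hk ▸ index_dvd_of_le hle)
    obtain ⟨b, -, hb⟩ := (Nat.dvd_prime_pow hp.out).1 (hk ▸ relIndex_dvd_index_of_le hle)
    have hxK : x ∈ K := ih ⟨a, ha⟩ x hx
    exact Transfer.pResidual_le_of_index (G := ↥K) (N := H.subgroupOf K) hb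
      (Transfer.mem_pResidual_of_coprime ((coprime_orderOf_mk hxK).2 hx))

/-- The version inside a subgroup. -/
theorem resOf_le_of_isSubnormal_subgroupOf [Finite G] [Fact p.Prime] {A K : Subgroup G}
    (hA : (A.subgroupOf K).IsSubnormal) (hi : ∃ k, A.relIndex K = p ^ k) : resOf p K ≤ A :=
  resOf_le_iff.2 fun _ hxK hx => mem_of_isSubnormal_of_index hA hi ⟨_, hxK⟩
    ((coprime_orderOf_mk hxK).2 hx)

/-! ### Sylow subgroups of subgroups -/

/-- `S` is a Sylow `p`-subgroup of the subgroup `K`, stated inside the ambient group. -/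
structure IsSyl (p : ℕ) (S K : Subgroup G) : Prop where
  le : S ≤ K
  isPGroup : IsPGroup p S
  not_dvd : ¬ p ∣ S.relIndex K

theorem IsSyl.of_sylow_sub [Finite G] [Fact p.Prime] {K : Subgroup G} (S : Sylow p ↥K) :
    IsSyl p ((S : Subgroup ↥K).map K.subtype) K := by
  refine ⟨map_subtype_le _, S.isPGroup'.map _, ?_⟩
  rw [relIndex, subgroupOf, comap_map_eq_self_of_injective K.subtype_injective]
  exact S.not_dvd_index

theorem IsSyl.of_sylow [Finite G] [Fact p.Prime] (T : Sylow p G) :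
    IsSyl p (T : Subgroup G) ⊤ :=
  ⟨le_top, T.isPGroup', by rw [relIndex_top_right]; exact T.not_dvd_index⟩

theorem IsSyl.of_le {S K L : Subgroup G} (hS : IsSyl p S L) (hSK : S ≤ K) (hKL : K ≤ L) :
    IsSyl p S K :=
  ⟨hSK, hS.isPGroup, fun h => hS.not_dvd (h.trans (dvd_of_mul_right_eq _
    (relIndex_mul_relIndex S K L hSK hKL)))⟩

theorem IsSyl.sylow_of_le [Finite G] [Fact p.Prime] (T : Sylow p G) {K : Subgroup G}
    (h : (T : Subgroup G) ≤ K) : IsSyl p (T : Subgroup G) K :=
  (IsSyl.of_sylow T).of_le h le_top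

/-- The Sylow subgroup of `K` given by `S`. -/
noncomputable def IsSyl.toSylow [Fact p.Prime] {S K : Subgroup G} (hS : IsSyl p S K) :
    Sylow p ↥K :=
  IsPGroup.toSylow (hS.isPGroup.of_equiv (Subgroup.subgroupOfEquivOfLe hS.le).symm) hS.not_dvd

theorem IsSyl.coe_toSylow [Fact p.Prime] {S K : Subgroup G} (hS : IsSyl p S K) :
    (hS.toSylow : Subgroup ↥K) = S.subgroupOf K := rfl

theorem IsSyl.sup_resOf [Finite G] [Fact p.Prime] {S K : Subgroup G} (hS : IsSyl p S K) :
    S ⊔ resOf p K = K := by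
  have h := congrArg (map K.subtype)
    (Transfer.sup_pResidual_eq_top (G := ↥K) (H := S.subgroupOf K) hS.not_dvd)
  rwa [Subgroup.map_sup, subgroupOf_map_subtype, inf_eq_left.2 hS.le, ← MonoidHom.range_eq_map,
    range_subtype] at h

theorem IsSyl.exists_conj_le [Finite G] [Fact p.Prime] {S K R : Subgroup G} (hS : IsSyl p S K)
    (hR : IsPGroup p R) (hRK : R ≤ K) :
    ∃ k ∈ K, R.map (MulAut.conj k).toMonoidHom ≤ S := by
  obtain ⟨P, hP⟩ := (hR.of_equiv (Subgroup.subgroupOfEquivOfLe hRK).symm).exists_le_sylow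
  obtain ⟨k, hk⟩ := MulAction.exists_smul_eq ↥K P hS.toSylow
  refine ⟨k, k.2, ?_⟩
  rintro y ⟨r, hr, rfl⟩
  have h1 : k * ⟨r, hRK hr⟩ * k⁻¹ ∈ (k • P : Sylow p ↥K) :=
    Subgroup.smul_mem_pointwise_smul _ (MulAut.conj k) _ (hP (show (⟨r, hRK hr⟩ : ↥K) ∈ _ from hr))
  rw [hk] at h1
  exact h1

theorem IsSyl.exists_conj_eq [Finite G] [Fact p.Prime] {S K R : Subgroup G} (hS : IsSyl p S K)
    (hR : IsSyl p R K) : ∃ k ∈ K, R.map (MulAut.conj k).toMonoidHom = S := by
  obtain ⟨k, hkK, hk⟩ := hS.exists_conj_le hR.isPGroup hR.le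
  refine ⟨k, hkK, eq_of_le_of_card_ge hk ?_⟩
  rw [card_map_conj]
  have h1 := Sylow.card_eq_multiplicity hS.toSylow
  have h2 := Sylow.card_eq_multiplicity hR.toSylow
  rw [← Nat.card_congr (Subgroup.subgroupOfEquivOfLe hS.le).toEquiv,
    ← Nat.card_congr (Subgroup.subgroupOfEquivOfLe hR.le).toEquiv]
  exact (h1.trans h2.symm).le

theorem IsSyl.card_le [Finite G] [Fact p.Prime] {S K R : Subgroup G} (hS : IsSyl p S K)
    (hR : IsPGroup p R) (hRK : R ≤ K) : Nat.card R ≤ Nat.card S := by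
  obtain ⟨k, _, hk⟩ := hS.exists_conj_le hR hRK
  exact (card_map_conj R k).ge.trans (Nat.le_of_dvd Nat.card_pos (card_dvd_of_le hk))

theorem IsSyl.eq_of_le [Finite G] [Fact p.Prime] {S K R : Subgroup G} (hS : IsSyl p S K)
    (hR : IsPGroup p R) (hRK : R ≤ K) (hSR : S ≤ R) : S = R :=
  eq_of_le_of_card_ge hSR (hS.card_le hR hRK)

theorem IsSyl.map_conj [Finite G] [Fact p.Prime] {S K : Subgroup G} (hS : IsSyl p S K) {g : G}
    (hg : g ∈ normalizer (K : Set G)) : IsSyl p (S.map (MulAut.conj g).toMonoidHom) K := by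
  have hgK := mem_normalizer_iff_map.1 hg
  refine ⟨?_, hS.isPGroup.map _, ?_⟩
  · rw [← hgK]; exact map_mono hS.le
  · have hn := hS.not_dvd
    rwa [← relIndex_map_map_of_injective S K (f := (MulAut.conj g).toMonoidHom)
      (MulAut.conj g).injective, hgK] at hn

theorem IsSyl.inf_normal [Finite G] [Fact p.Prime] {S K N : Subgroup G} (hS : IsSyl p S K)
    (hNK : N ≤ K) (hKN : K ≤ normalizer (N : Set G)) : IsSyl p (S ⊓ N) N := by
  obtain ⟨P⟩ := (inferInstance : Nonempty (Sylow p ↥N))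
  have hP := IsSyl.of_sylow_sub P
  obtain ⟨k, hkK, hk⟩ := hS.exists_conj_le hP.isPGroup (hP.le.trans hNK)
  have hR := hP.map_conj (hKN hkK)
  rwa [← hR.eq_of_le hS.isPGroup.to_inf_left inf_le_right (le_inf hk hR.le)]

/-- A normal `p`-subgroup of `K` lies in every Sylow subgroup of `K`. -/
theorem IsSyl.normal_le [Finite G] [Fact p.Prime] {S K R : Subgroup G} (hS : IsSyl p S K)
    (hR : IsPGroup p R) (hRK : R ≤ K) (hKR : K ≤ normalizer (R : Set G)) : R ≤ S := by
  obtain ⟨k, hkK, hk⟩ := hS.exists_conj_le hR hRK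
  rwa [mem_normalizer_iff_map.1 (hKR hkK)] at hk

/-- The Frattini argument, elementwise. -/
theorem IsSyl.exists_mul [Finite G] [Fact p.Prime] {S K N : Subgroup G} (hS : IsSyl p S N)
    (hNK : N ≤ K) (hKN : K ≤ normalizer (N : Set G)) {k : G} (hk : k ∈ K) :
    ∃ a ∈ K ⊓ normalizer (S : Set G), ∃ n ∈ N, k = a * n := by
  have hS' : IsSyl p (S.map (MulAut.conj k⁻¹).toMonoidHom) N := hS.map_conj (inv_mem (hKN hk))
  obtain ⟨n, hn, hnS⟩ := hS.exists_conj_eq hS'
  rw [map_conj_mul] at hnS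
  refine ⟨k * n⁻¹, Subgroup.mem_inf.2 ⟨K.mul_mem hk (K.inv_mem (hNK hn)), ?_⟩, n, hn, by group⟩
  have h1 : n * k⁻¹ ∈ normalizer (S : Set G) := mem_normalizer_iff_map.2 hnS
  have := inv_mem h1
  simpa using this

theorem IsSyl.le_sup [Finite G] [Fact p.Prime] {S K N : Subgroup G} (hS : IsSyl p S N)
    (hNK : N ≤ K) (hKN : K ≤ normalizer (N : Set G)) :
    (K ⊓ normalizer (S : Set G)) ⊔ N = K := by
  refine le_antisymm (sup_le inf_le_left hNK) fun k hk => ?_
  obtain ⟨a, ha, n, hn, rfl⟩ := hS.exists_mul hNK hKN hk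
  exact mul_mem_sup ha hn

/-- A Sylow subgroup meets a subnormal subgroup in a Sylow subgroup of it. -/
theorem IsSyl.inf_subnormal [Finite G] [Fact p.Prime] (T : Sylow p G) {L : Subgroup G}
    (hL : L.IsSubnormal) : IsSyl p ((T : Subgroup G) ⊓ L) L := by
  induction hL with
  | top => simpa using IsSyl.of_sylow T
  | step H K hle _ hN ih =>
    have h := ih.inf_normal hle (le_normalizer_of_conj_mem fun k hk x hx => by
      exact hN.conj_mem ⟨x, hle hx⟩ hx ⟨k, hk⟩)
    rwa [inf_assoc, inf_eq_right.2 hle] at h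

/-! ### Stabilized chains and fixed points -/

/-- An element of order prime to `p` that moves `a` by a `p`-element it centralizes, fixes `a`. -/
theorem fix_of_stab [Fact p.Prime] {x a c : G} (hx : Nat.Coprime (orderOf x) p)
    (hc : ∃ k : ℕ, c ^ p ^ k = 1) (hcomm : Commute x c) (h : x * a * x⁻¹ = c * a) : Commute x a := by
  have hn : ∀ n : ℕ, x ^ n * a * (x ^ n)⁻¹ = c ^ n * a := by
    intro n
    induction n with
    | zero => simp
    | succ n ih =>
      have : x * c ^ n * x⁻¹ = c ^ n := by rw [(hcomm.pow_right n).eq]; group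
      calc x ^ (n + 1) * a * (x ^ (n + 1))⁻¹ = x * (x ^ n * a * (x ^ n)⁻¹) * x⁻¹ := by
            rw [pow_succ']; group
        _ = x * (c ^ n * a) * x⁻¹ := by rw [ih]
        _ = (x * c ^ n * x⁻¹) * (x * a * x⁻¹) := by group
        _ = c ^ (n + 1) * a := by rw [this, h, pow_succ, mul_assoc]
  have h1 : c ^ orderOf x = 1 := by simpa using hn (orderOf x)
  obtain ⟨k, hk⟩ := hc
  have : c = 1 := by
    rw [← pow_one c, ← (hx.pow_right k).gcd_eq_one]
    exact pow_gcd_eq_one.2 ⟨h1, hk⟩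
  rw [this, one_mul] at h
  exact mul_inv_eq_iff_eq_mul.1 h

/-- One step of a stabilized chain. -/
theorem le_centralizer_step [Fact p.Prime] {A B X : Subgroup G} (hX : ∀ x ∈ X, Nat.Coprime (orderOf x) p)
    (hB : IsPGroup p B) (hXB : X ≤ centralizer (B : Set G)) (hAB : ⁅A, X⁆ ≤ B) :
    X ≤ centralizer (A : Set G) := by
  intro x hx
  rw [mem_centralizer_iff_commute]
  intro a ha
  have hc : ⁅x, a⁆ ∈ B := hAB (by rw [commutator_comm]; exact commutator_mem_commutator hx ha)
  refine fix_of_stab (c := ⁅x, a⁆) (hX x hx) ?_ (mem_centralizer_iff_commute.1 (hXB hx) _ hc)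
    (by rw [commutatorElement_def]; group)
  obtain ⟨k, hk⟩ := hB ⟨_, hc⟩
  exact ⟨k, congrArg Subtype.val hk⟩

/-- Elementwise form of a step of a stabilized chain. -/
theorem commute_step [Fact p.Prime] {A B : Subgroup G} {x : G} (hx : Nat.Coprime (orderOf x) p)
    (hB : IsPGroup p B) (hxB : ∀ b ∈ B, Commute x b) (hAB : ∀ a ∈ A, ⁅x, a⁆ ∈ B) :
    ∀ a ∈ A, Commute x a := by
  intro a ha
  refine fix_of_stab (c := ⁅x, a⁆) hx ?_ (hxB _ (hAB a ha)) (by rw [commutatorElement_def]; group)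
  obtain ⟨k, hk⟩ := hB ⟨_, hAB a ha⟩
  exact ⟨k, congrArg Subtype.val hk⟩

end Cfsg.Agent.LocalEven62
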