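import Cfsg.Agent.LocalEven62.Action
import Mathlib.Algebra.BigOperators.Group.Finset.Basic

/-!
Averaging the conjugates of an element over the cosets of a subgroup centralizing it.
-/

set_option autoImplicit false

namespace Cfsg.Agent.LocalEven62

open Subgroup
open scoped commutatorElement

variable {G : Type*} [Group G] [Finite G]

/-- For `S ≤ K` and an abelian `K`-invariant `Z`, the product over `K/S` of the conjugates gives a
map from `C_Z(S)` to `C_Z(K)`. -/
theorem exists_avg {Z K S : Subgroup G} (hZ : IsMulCommutative Z)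
    (hKZ : K ≤ Subgroup.normalizer (Z : Set G)) :
    ∃ φ : G → G,
      (∀ a ∈ Z ⊓ Subgroup.centralizer (S : Set G), φ a ∈ Z ⊓ Subgroup.centralizer (K : Set G)) ∧
      (∀ a ∈ Z ⊓ Subgroup.centralizer (S : Set G), ∀ b ∈ Z ⊓ Subgroup.centralizer (S : Set G),
        φ (a * b) = φ a * φ b) ∧
      (∀ D : Subgroup G, ∀ a ∈ Z ⊓ Subgroup.centralizer (S : Set G), (∀ k ∈ K, ⁅k, a⁆ ∈ D) →
        (a ^ S.relIndex K)⁻¹ * φ a ∈ D) ∧
      (∀ t : G, t ∈ Subgroup.normalizer (K : Set G) → t ∈ Subgroup.normalizer (S : Set G) →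
        t ∈ Subgroup.normalizer (Z : Set G) → ∀ a ∈ Z ⊓ Subgroup.centralizer (S : Set G),
          φ (t * a * t⁻¹) = t * φ a * t⁻¹) := by
  classical
  letI : CommGroup ↥Z := { (inferInstance : Group ↥Z) with mul_comm := hZ.is_comm.comm }
  haveI : Fintype (↥K ⧸ S.subgroupOf K) := Fintype.ofFinite _
  set B : Subgroup G := Z ⊓ Subgroup.centralizer (S : Set G) with hB
  let cj : ↥K ⧸ S.subgroupOf K → ↥B → ↥Z := fun q a =>
    ⟨(q.out : G) * a * (q.out : G)⁻¹, conj_mem_of_mem_normalizer (hKZ q.out.2) a.2.1⟩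
  -- the value does not depend on the representative
  have hrep : ∀ (a : ↥B) (k : ↥K) (q : ↥K ⧸ S.subgroupOf K),
      (k : ↥K ⧸ S.subgroupOf K) = q → (cj q a : G) = k * a * (k : G)⁻¹ := by
    intro a k q hq
    have h1 : ((q.out : G)⁻¹ * k) ∈ S := by
      have h2 : (QuotientGroup.mk q.out : ↥K ⧸ S.subgroupOf K) = QuotientGroup.mk k := by
        rw [QuotientGroup.out_eq', hq]
      have h4 := (QuotientGroup.eq (s := S.subgroupOf K) (a := q.out) (b := k)).1 h2
      simpa [Subgroup.mem_subgroupOf] using h4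
    have h3 := mem_centralizer_iff_commute.1 a.2.2 _ h1
    show (q.out : G) * a * (q.out : G)⁻¹ = k * a * (k : G)⁻¹
    calc (q.out : G) * a * (q.out : G)⁻¹
        = q.out * ((a : G) * ((q.out : G)⁻¹ * k)) * (k : G)⁻¹ := by group
      _ = q.out * (((q.out : G)⁻¹ * k) * a) * (k : G)⁻¹ := by rw [h3.eq]
      _ = _ := by group
  let Φ : ↥B → ↥Z := fun a => ∏ q, cj q a
  refine ⟨fun a => if h : a ∈ B then (Φ ⟨a, h⟩ : G) else 1, ?_, ?_, ?_, ?_⟩
  · intro a ha
    simp only [dif_pos ha]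
    refine Subgroup.mem_inf.2 ⟨(Φ ⟨a, ha⟩).2, mem_centralizer_iff_commute.2 fun k hk => ?_⟩
    let c : ↥Z →* ↥Z :=
      { toFun := fun z => ⟨k * z * k⁻¹, conj_mem_of_mem_normalizer (hKZ hk) z.2⟩
        map_one' := by ext; simp
        map_mul' := fun x y => by ext; simp [mul_assoc] }
    have h : c (Φ ⟨a, ha⟩) = Φ ⟨a, ha⟩ := by
      rw [map_prod]
      refine Fintype.prod_bijective (fun q => (⟨k, hk⟩ : ↥K) • q) (MulAction.bijective _) _ _
        fun q => Subtype.ext ?_
      rw [hrep ⟨a, ha⟩ (⟨k, hk⟩ * q.out) _ (by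
        conv_rhs => rw [← QuotientGroup.out_eq' q]
        rfl)]
      show k * ((q.out : G) * a * (q.out : G)⁻¹) * k⁻¹ = _
      simp [mul_assoc]
    exact (mul_inv_eq_iff_eq_mul.1 (congrArg Subtype.val h)).symm
  · intro a ha b hb
    simp only [dif_pos ha, dif_pos hb, dif_pos (B.mul_mem ha hb)]
    rw [← Subgroup.coe_mul, ← Finset.prod_mul_distrib]
    refine congrArg Subtype.val (Finset.prod_congr rfl fun q _ => Subtype.ext ?_)
    simp [cj, mul_assoc]
  · intro D a ha hD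
    simp only [dif_pos ha]
    have hcard : S.relIndex K = Fintype.card (↥K ⧸ S.subgroupOf K) := by
      rw [Subgroup.relIndex, Subgroup.index_eq_card, Nat.card_eq_fintype_card]
    have h : ((⟨a, ha.1⟩ : ↥Z) ^ S.relIndex K)⁻¹ * Φ ⟨a, ha⟩ ∈ D.subgroupOf Z := by
      rw [hcard, ← Finset.card_univ, ← Finset.prod_const, ← Finset.prod_inv_distrib,
        ← Finset.prod_mul_distrib]
      refine prod_mem fun q _ => ?_
      show a⁻¹ * ((q.out : G) * a * (q.out : G)⁻¹) ∈ D
      have h1 := hD _ q.out.2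
      have h2 : a⁻¹ * ((q.out : G) * a * (q.out : G)⁻¹) = a⁻¹ * ⁅(q.out : G), a⁆ * a := by
        rw [commutatorElement_def]; group
      have h3 : ⁅(q.out : G), a⁆ ∈ Z := by
        rw [commutatorElement_def]
        exact Z.mul_mem (conj_mem_of_mem_normalizer (hKZ q.out.2) ha.1) (Z.inv_mem ha.1)
      have h4 : ⁅(q.out : G), a⁆ * a = a * ⁅(q.out : G), a⁆ :=
        congrArg Subtype.val (hZ.is_comm.comm (⟨_, h3⟩ : ↥Z) ⟨a, ha.1⟩)
      rw [h2, mul_assoc, h4, inv_mul_cancel_left]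
      exact h1
    simpa [Subgroup.mem_subgroupOf] using h
  · intro t htK htS htZ a ha
    have hta : t * a * t⁻¹ ∈ B := Subgroup.mem_inf.2 ⟨conj_mem_of_mem_normalizer htZ ha.1,
      conj_mem_of_mem_normalizer (normalizer_le_normalizer_centralizer S htS) ha.2⟩
    simp only [dif_pos ha, dif_pos hta]
    let c : ↥Z →* ↥Z :=
      { toFun := fun z => ⟨t * z * t⁻¹, conj_mem_of_mem_normalizer htZ z.2⟩
        map_one' := by ext; simp
        map_mul' := fun x y => by ext; simp [mul_assoc] }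
    suffices h : c (Φ ⟨a, ha⟩) = Φ ⟨t * a * t⁻¹, hta⟩ from (congrArg Subtype.val h).symm
    rw [map_prod]
    let e : ↥K ⧸ S.subgroupOf K → ↥K ⧸ S.subgroupOf K := fun q =>
      QuotientGroup.mk ⟨t * q.out * t⁻¹, conj_mem_of_mem_normalizer htK q.out.2⟩
    have he : Function.Injective e := by
      intro q q' hqq
      have h1 : (t * (q.out : G) * t⁻¹)⁻¹ * (t * (q'.out : G) * t⁻¹) ∈ S := by
        have h0 := (QuotientGroup.eq (s := S.subgroupOf K)
          (a := ⟨t * q.out * t⁻¹, conj_mem_of_mem_normalizer htK q.out.2⟩)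
          (b := ⟨t * q'.out * t⁻¹, conj_mem_of_mem_normalizer htK q'.out.2⟩)).1 hqq
        simpa [Subgroup.mem_subgroupOf] using h0
      have h2 : (q.out : G)⁻¹ * q'.out ∈ S := by
        have := conj_mem_of_mem_normalizer (inv_mem htS) h1
        simpa [mul_assoc] using this
      rw [← QuotientGroup.out_eq' q, ← QuotientGroup.out_eq' q']
      exact QuotientGroup.eq.2 h2
    refine Fintype.prod_bijective e (Finite.injective_iff_bijective.1 he) _ _ fun q => Subtype.ext ?_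
    rw [hrep ⟨t * a * t⁻¹, hta⟩ ⟨t * q.out * t⁻¹, conj_mem_of_mem_normalizer htK q.out.2⟩ _ rfl]
    show t * ((q.out : G) * a * (q.out : G)⁻¹) * t⁻¹ = _
    simp [mul_assoc]

/-- A power with exponent prime to `p` generates the element of a `p`-group. -/
theorem mem_of_pow_mem {p : ℕ} [hp : Fact p.Prime] {M : Subgroup G} {a : G} {m : ℕ}
    (ha : ∃ k : ℕ, a ^ p ^ k = 1) (hm : ¬ p ∣ m) (h : a ^ m ∈ M) : a ∈ M := by
  obtain ⟨k, hk⟩ := ha
  have hcop : Nat.Coprime m (p ^ k) := ((Nat.Prime.coprime_iff_not_dvd hp.out).2 hm).symm.pow_right k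
  have := Int.gcd_eq_gcd_ab (m : ℤ) ((p ^ k : ℕ) : ℤ)
  rw [Int.gcd_natCast_natCast, hcop.gcd_eq_one] at this
  have h2 : a = a ^ ((1 : ℕ) : ℤ) := by simp
  rw [h2, this, zpow_add, zpow_mul, zpow_mul, zpow_natCast, zpow_natCast, hk, one_zpow, mul_one]
  exact M.zpow_mem h _

end Cfsg.Agent.LocalEven62
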