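import Cfsg.Agent.LocalEven62.Action

/-!
`genConj B P`: the subgroup generated by the conjugates of `B` contained in `P`.
-/

set_option autoImplicit false

namespace Cfsg.Agent.LocalEven62

open Subgroup

variable {G : Type*} [Group G] {p : ℕ}

theorem mem_normalizer_map_conj {R : Subgroup G} {n a : G} (hn : n ∈ normalizer (R : Set G)) :
    a * n * a⁻¹ ∈ normalizer ((R.map (MulAut.conj a).toMonoidHom : Subgroup G) : Set G) := by
  refine mem_normalizer_iff_map.2 ?_
  rw [map_conj_mul, show a * n * a⁻¹ * a = a * n by group, ← map_conj_mul,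
    mem_normalizer_iff_map.1 hn]

/-- A subgroup of a `p`-group containing its normaliser in that group is the whole group. -/
theorem eq_of_inf_normalizer_le [Finite G] [Fact p.Prime] {P N : Subgroup G} (hP : IsPGroup p P)
    (hNP : N ≤ P) (h : P ⊓ normalizer (N : Set G) ≤ N) : N = P := by
  haveI : Group.IsNilpotent ↥P := hP.isNilpotent
  by_contra hne
  have hlt : N.subgroupOf P < ⊤ := lt_top_iff_ne_top.2 fun ht =>
    hne (le_antisymm hNP (subgroupOf_eq_top.1 ht))
  have h2 := Group.normalizerCondition_of_isNilpotent _ hlt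
  rw [← subgroupOf_normalizer_eq hNP] at h2
  exact h2.not_ge fun x hx => h ⟨x.2, hx⟩

/-- The subgroup generated by the conjugates of `B` contained in `P`. -/
def genConj (B P : Subgroup G) : Subgroup G :=
  ⨆ h : G, ⨆ _ : B.map (MulAut.conj h).toMonoidHom ≤ P, B.map (MulAut.conj h).toMonoidHom

theorem genConj_le (B P : Subgroup G) : genConj B P ≤ P := iSup₂_le fun _ h => h

theorem conj_le_genConj {B P : Subgroup G} {h : G}
    (hh : B.map (MulAut.conj h).toMonoidHom ≤ P) : B.map (MulAut.conj h).toMonoidHom ≤ genConj B P :=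
  le_iSup₂_of_le h hh le_rfl

theorem le_genConj_self {B P : Subgroup G} (hh : B ≤ P) : B ≤ genConj B P := by
  have h := conj_le_genConj (B := B) (P := P) (h := 1) (by rwa [map_conj_one])
  rwa [map_conj_one] at h

theorem genConj_mono {B P Q : Subgroup G} (h : P ≤ Q) : genConj B P ≤ genConj B Q :=
  iSup₂_le fun _ hh => conj_le_genConj (hh.trans h)

theorem genConj_idem (B P : Subgroup G) : genConj B P ≤ genConj B (genConj B P) :=
  iSup₂_le fun _ hh => conj_le_genConj (conj_le_genConj hh)

theorem map_genConj_le (B P : Subgroup G) (k : G) :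
    (genConj B P).map (MulAut.conj k).toMonoidHom ≤
      genConj B (P.map (MulAut.conj k).toMonoidHom) := by
  simp only [genConj, Subgroup.map_iSup]
  refine iSup₂_le fun h hh => ?_
  rw [map_conj_mul]
  refine le_iSup₂_of_le (k * h) ?_ le_rfl
  rw [← map_conj_mul]
  exact map_mono hh

theorem normalizer_le_normalizer_genConj [Finite G] (B P : Subgroup G) :
    normalizer (P : Set G) ≤ normalizer ((genConj B P : Subgroup G) : Set G) := fun n hn =>
  mem_normalizer_of_map_le ((map_genConj_le B P n).trans
    (genConj_mono (mem_normalizer_iff_map.1 hn).le))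

end Cfsg.Agent.LocalEven62
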