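import Cfsg.Agent.LocalEven62.Basic
import Cfsg.Agent.Lib.Components.GenFitting
import Cfsg.Agent.Lib.Components.Balance
import Cfsg.Agent.Lib.Coprime.Action
import Cfsg.Agent.Lib.Coprime.Abelian
import Cfsg.Agent.Lib.Fitting
import Cfsg.Agent.H40.Layer

/-!
`p`-groups acting on subgroups `L` of `F*` in groups with trivial `O_p`.
-/

set_option autoImplicit false

namespace Cfsg.Agent.LocalEven62

open Subgroup Cfsg
open scoped commutatorElement

variable {G : Type*} [Group G] {p : ℕ}

/-- `O_p(L) = 1` and `L = F*(L)`. -/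
def FS (p : ℕ) (L : Subgroup G) : Prop :=
  pCore p ↥L = ⊥ ∧ generalizedFittingSubgroup ↥L = ⊤

theorem generalizedFitting_inf_isSubnormal [Finite G] {K : Subgroup G} (hK : K.IsSubnormal) :
    generalizedFittingSubgroup G ⊓ K = (generalizedFittingSubgroup ↥K).map K.subtype := by
  refine le_antisymm ?_ (le_inf (Components.map_generalizedFitting_isSubnormal_le hK)
    (map_subtype_le _))
  induction hK with
  | top =>
    rw [inf_top_eq]
    have h := Components.map_generalizedFitting_equiv (Subgroup.topEquiv (G := G))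
    exact h.ge
  | step A B hle hB hn ih =>
    intro x hx
    obtain ⟨y, hy, rfl⟩ := ih ⟨hx.1, hle hx.2⟩
    haveI := hn
    have h1 : y ∈ (generalizedFittingSubgroup ↥(A.subgroupOf B)).map (A.subgroupOf B).subtype := by
      rw [← H40.generalizedFitting_inf_normal]
      exact ⟨hy, hx.2⟩
    obtain ⟨z, hz, rfl⟩ := h1
    have h2 := Components.map_generalizedFitting_equiv (Subgroup.subgroupOfEquivOfLe hle)
    exact ⟨Subgroup.subgroupOfEquivOfLe hle z, h2.le ⟨z, hz, rfl⟩, rfl⟩

theorem FS.of_equiv {G' : Type*} [Group G'] {L : Subgroup G} {L' : Subgroup G'} (e : ↥L ≃* ↥L')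
    (h : FS p L) : FS p L' := by
  refine ⟨?_, ?_⟩
  · rw [← Thompson.map_pCore_equiv e, h.1, Subgroup.map_bot]
  · rw [← Components.map_generalizedFitting_equiv e, h.2,
      Subgroup.map_top_of_surjective _ e.surjective]

/-- A subnormal subgroup inside `F*` of a group with trivial `O_p`. -/
theorem fs_of_isSubnormal [Finite G] [Fact p.Prime] (hO : pCore p G = ⊥) {L : Subgroup G}
    (hL : L.IsSubnormal) (hLF : L ≤ generalizedFittingSubgroup G) : FS p L := by
  refine ⟨?_, eq_top_iff.2 fun x _ => ?_⟩
  · have h := Thompson.map_pCore_isSubnormal_le (p := p) hL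
    rwa [hO, le_bot_iff, map_eq_bot_iff_of_injective _ L.subtype_injective] at h
  · obtain ⟨y, hy, hyx⟩ := (generalizedFitting_inf_isSubnormal hL).le ⟨hLF x.2, x.2⟩
    exact L.subtype_injective hyx ▸ hy

theorem fitting_coprime {X : Type*} [Group X] [Finite X] [Fact p.Prime] (h : pCore p X = ⊥) :
    (Nat.card ↥(fittingSubgroup X)).Coprime p := by
  refine ((Fact.out : p.Prime).coprime_iff_not_dvd.2 fun hd => ?_).symm
  set W := fittingSubgroup X
  have hWn : Group.IsNilpotent ↥W := Fitting.fitting_isNilpotent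
  let S : Sylow p ↥W := default
  haveI : (S : Subgroup ↥W).Normal := by
    have q : Group.IsNilpotent ↥W ↔ ∀ (p : ℕ) (_ : Fact p.Prime) (P : Sylow p ↥W),
        (P : Subgroup ↥W).Normal := Group.isNilpotent_of_finite_tfae.out 0 3
    exact q.1 hWn p inferInstance S
  haveI : (S : Subgroup ↥W).Characteristic := S.characteristic_of_normal inferInstance
  have h1 : (S : Subgroup ↥W).map W.subtype ≤ ⊥ := h ▸ Thompson.le_pCore
    (Thompson.map_subtype_normal_of_characteristic W _) (S.isPGroup'.map _)
  rw [le_bot_iff, Subgroup.map_eq_bot_iff_of_injective _ W.subtype_injective] at h1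
  exact S.ne_bot_of_dvd_card hd h1

theorem FS.fitting_card_coprime [Finite G] [Fact p.Prime] {L Y : Subgroup G} (hL : FS p L)
    (hY : IsPGroup p Y) :
    (Nat.card ↥Y).Coprime (Nat.card ↥((fittingSubgroup ↥L).map L.subtype)) := by
  obtain ⟨k, hk⟩ := IsPGroup.iff_card.1 hY
  rw [hk, Subgroup.card_map_of_injective L.subtype_injective]
  exact (fitting_coprime hL.1).symm.pow_left k

theorem FS.eq_layer_sup {L : Subgroup G} (hL : FS p L) :
    L = (layer ↥L).map L.subtype ⊔ (fittingSubgroup ↥L).map L.subtype := by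
  rw [← Subgroup.map_sup]
  show L = (generalizedFittingSubgroup ↥L).map L.subtype
  rw [hL.2, ← MonoidHom.range_eq_map, Subgroup.range_subtype]

theorem FS.split [Finite G] [Fact p.Prime] {L Y : Subgroup G} (hL : FS p L) (hY : IsPGroup p Y)
    (hYL : Y ≤ Subgroup.normalizer (L : Set G)) :
    ⁅L, Y⁆ ⊔ (L ⊓ Subgroup.centralizer (Y : Set G)) = L ∧ ⁅L, Y⁆ = ⁅⁅L, Y⁆, Y⁆ := by
  set D : Subgroup G := ⁅L, Y⁆
  set C : Subgroup G := L ⊓ Subgroup.centralizer (Y : Set G)
  have hDL : D ≤ L := Coprime.commutator_le_of_le_normalizer hYL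
  have hLD : L ≤ Subgroup.normalizer (D : Set G) := Subgroup.normalizer_commutator_ge_left L Y
  have hsplit : D ⊔ C = L := by
    refine le_antisymm (sup_le hDL inf_le_left) ?_
    conv_lhs => rw [hL.eq_layer_sup]
    refine sup_le ?_ ?_
    · rw [Subgroup.map_le_iff_le_comap, Components.layer_le_iff]
      intro K hK
      rw [← Subgroup.map_le_iff_le_comap]
      haveI : (D.subgroupOf L).Normal := normal_subgroupOf_of_le_normalizer hLD
      rcases Components.component_le_or_commutator_eq_bot_of_normal hK (D.subgroupOf L) with h | h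
      · exact le_sup_of_le_left ((Subgroup.map_mono h).trans
          (by rw [subgroupOf_map_subtype]; exact inf_le_left))
      · refine le_sup_of_le_right (le_inf (map_subtype_le _) ?_)
        have hKK : ⁅K.map L.subtype, K.map L.subtype⁆ = K.map L.subtype := by
          rw [← Subgroup.map_commutator, Components.component_commutator_eq_self hK]
        have hDK : ⁅D, K.map L.subtype⁆ = ⊥ := by
          have h1 : (D.subgroupOf L).map L.subtype = D := by
            rw [subgroupOf_map_subtype, inf_eq_left.2 hDL]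
          rw [Subgroup.commutator_comm, ← h1, ← Subgroup.map_commutator, h, Subgroup.map_bot]
        refine commutator_eq_bot_iff_le_centralizer.1
          (Components.commutator_eq_bot_of_perfect hKK (le_bot_iff.1 ?_))
        rw [← hDK, Subgroup.commutator_comm Y]
        exact Subgroup.commutator_mono (Subgroup.commutator_mono (map_subtype_le _) le_rfl) le_rfl
    · set LF : Subgroup G := (fittingSubgroup ↥L).map L.subtype
      have hYLF : Y ≤ Subgroup.normalizer (LF : Set G) :=
        hYL.trans (Components.normalizer_le_normalizer_map_characteristic L (fittingSubgroup ↥L))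
      have hsol : Group.IsSolvable ↥LF :=
        Coprime.isSolvable_of_isNilpotent' (Fitting.isNilpotent_map _ Fitting.fitting_isNilpotent)
      conv_lhs => rw [← Coprime.commutator_sup_centralizer Y LF hYLF (hL.fitting_card_coprime hY)
        (Or.inr hsol)]
      exact sup_le_sup (Subgroup.commutator_mono (map_subtype_le _) le_rfl)
        (inf_le_inf_right _ (map_subtype_le _))
  refine ⟨hsplit, le_antisymm (Subgroup.commutator_le.2 fun l hl y hy => ?_)
    (Subgroup.commutator_mono hDL le_rfl)⟩
  rw [← hsplit, ← SetLike.mem_coe,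
    coe_mul_of_right_le_normalizer_left D C (inf_le_left.trans hLD)] at hl
  obtain ⟨d, hd, c, hc, rfl⟩ := hl
  have hcy : Commute c y := mem_centralizer_iff_commute.1 hc.2 y hy
  have h : ⁅d * c, y⁆ = ⁅d, y⁆ := by
    calc ⁅d * c, y⁆ = d * (c * y * c⁻¹) * d⁻¹ * y⁻¹ := by
          simp [commutatorElement_def, mul_assoc]
      _ = ⁅d, y⁆ := by rw [hcy.eq, mul_inv_cancel_right]; rfl
  rw [h]
  exact Subgroup.commutator_mem_commutator hd hy

/-- Fixed points of `Q` in `L = [L, Q]` lie in the derived subgroup. -/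
theorem FS.inf_centralizer_le_derived [Finite G] [Fact p.Prime] {L Q : Subgroup G} (hL : FS p L)
    (hQ : IsPGroup p Q) (hQL : Q ≤ Subgroup.normalizer (L : Set G)) (hLQ : ⁅L, Q⁆ = L) :
    L ⊓ Subgroup.centralizer (Q : Set G) ≤ ⁅L, L⁆ := by
  set D : Subgroup G := ⁅L, L⁆
  set N : Subgroup G := Subgroup.normalizer (D : Set G)
  have hLN : L ≤ N := Subgroup.normalizer_commutator_ge_left L L
  have hQN : Q ≤ N := fun y hy => mem_normalizer_iff_map.2 (by
    rw [Subgroup.map_commutator, mem_normalizer_iff_map.1 (hQL hy)])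
  haveI : (D.subgroupOf N).Normal := normal_subgroupOf_of_le_normalizer le_rfl
  set π := QuotientGroup.mk' (D.subgroupOf N)
  set Lb := (L.subgroupOf N).map π
  set Qb := (Q.subgroupOf N).map π
  haveI hab : IsMulCommutative ↥Lb := by
    refine ⟨⟨fun a b => Subtype.ext ?_⟩⟩
    obtain ⟨a, x, hx, rfl⟩ := a
    obtain ⟨b, y, hy, rfl⟩ := b
    refine commutatorElement_eq_one_iff_mul_comm.1 ?_
    rw [← map_commutatorElement]
    exact (QuotientGroup.eq_one_iff _).2 (Subgroup.commutator_mem_commutator hx hy : ⁅(x : G), (y : G)⁆ ∈ D)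
  have hQb : Qb ≤ Subgroup.normalizer (Lb : Set (↥N ⧸ D.subgroupOf N)) := by
    refine (Subgroup.map_mono ?_).trans (Subgroup.le_normalizer_map π)
    intro y hy
    refine mem_normalizer_of_conj_mem fun x hx => ?_
    exact conj_mem_of_mem_normalizer (H := L) (hQL hy) hx
  have hcard : (Nat.card ↥Qb).Coprime (Nat.card ↥Lb) := by
    set LF : Subgroup G := (fittingSubgroup ↥L).map L.subtype
    have hle : Lb ≤ (LF.subgroupOf N).map π := by
      rw [Subgroup.map_le_iff_le_comap, Subgroup.comap_map_eq, QuotientGroup.ker_mk',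
        ← Subgroup.subgroupOf_sup ((map_subtype_le _).trans hLN) Subgroup.le_normalizer]
      refine Subgroup.comap_mono ?_
      conv_lhs => rw [hL.eq_layer_sup]
      refine sup_le (le_sup_of_le_right ?_) le_sup_left
      rw [← Components.layer_commutator_eq_self, Subgroup.map_commutator]
      exact Subgroup.commutator_mono (map_subtype_le _) (map_subtype_le _)
    refine Nat.Coprime.of_dvd (Subgroup.card_map_dvd _ π)
      ((Subgroup.card_dvd_of_le hle).trans (Subgroup.card_map_dvd _ π)) ?_
    rw [Nat.card_congr (Subgroup.subgroupOfEquivOfLe hQN).toEquiv,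
      Nat.card_congr (Subgroup.subgroupOfEquivOfLe ((map_subtype_le _).trans hLN)).toEquiv]
    exact hL.fitting_card_coprime hQ
  have hLbQ : ⁅Lb, Qb⁆ = Lb := by
    rw [← Subgroup.map_commutator]
    congr 1
    apply Subgroup.map_injective N.subtype_injective
    rw [Subgroup.map_commutator, subgroupOf_map_subtype, subgroupOf_map_subtype,
      inf_eq_left.2 hLN, inf_eq_left.2 hQN, hLQ]
  intro z hz
  have h : π ⟨z, hLN hz.1⟩ ∈ ⁅Lb, Qb⁆ ⊓ Subgroup.centralizer (Qb : Set (↥N ⧸ D.subgroupOf N)) := by
    refine ⟨hLbQ.symm ▸ ⟨⟨z, hLN hz.1⟩, hz.1, rfl⟩, mem_centralizer_iff_commute.2 ?_⟩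
    rintro _ ⟨y, hy, rfl⟩
    exact (Commute.map (show Commute (⟨z, hLN hz.1⟩ : ↥N) y from
      Subtype.ext (mem_centralizer_iff_commute.1 hz.2 (y : G) hy).eq) π)
  rw [Coprime.commutator_inf_centralizer_eq_bot Qb Lb hQb hcard, Subgroup.mem_bot] at h
  exact (QuotientGroup.eq_one_iff (N := D.subgroupOf N) (⟨z, hLN hz.1⟩ : ↥N)).1 h

end Cfsg.Agent.LocalEven62
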