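import Cfsg.Agent.LocalEven62.PReduced
import Cfsg.Agent.Lib.Solvable.Basic

/-!
`p`-closed, `p`-irreducible and `Y`-minimal groups.
-/

set_option autoImplicit false

namespace Cfsg.Agent.LocalEven62

open Subgroup
open scoped commutatorElement

variable {G : Type*} [Group G] [Finite G] {p : ℕ} [Fact p.Prime]

/-- `N` is `p`-closed, in subgroup language. -/
def PCl (p : ℕ) (N : Subgroup G) : Prop := ∀ S : Subgroup G, IsSyl p S N → S ≤ pCoreOf p N

theorem pCl_of_syl {S N : Subgroup G} (hS : IsSyl p S N) (h : N ≤ normalizer (S : Set G)) :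
    PCl p N := fun R hR => by
  obtain ⟨k, hk, hkS⟩ := hR.exists_conj_eq hS
  rw [mem_normalizer_iff_map.1 (h hk)] at hkS
  exact hkS ▸ le_pCoreOf hS.isPGroup hS.le h

theorem PCl.le_pCoreOf {N R : Subgroup G} (h : PCl p N) (hR : IsPGroup p R) (hRN : R ≤ N) :
    R ≤ pCoreOf p N := by
  have hS := IsSyl.of_sylow_sub (default : Sylow p ↥N)
  obtain ⟨k, hk, hle⟩ := hS.exists_conj_le hR hRN
  intro x hx
  have h1 := h _ hS (hle (conj_mem_map (g := k) hx))
  simpa [mul_assoc] using conj_mem_of_mem_normalizer (inv_mem (le_normalizer_pCoreOf N hk)) h1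

theorem PCl.isSyl_pCoreOf {N : Subgroup G} (h : PCl p N) : IsSyl p (pCoreOf p N) N := by
  have hS := IsSyl.of_sylow_sub (default : Sylow p ↥N)
  rw [← hS.eq_of_le (isPGroup_pCoreOf N) (LocalEven62.pCoreOf_le N) (h _ hS)]
  exact hS

theorem isPClosed_iff_pCl {N : Subgroup G} : IsPClosed p ↥N ↔ PCl p N := by
  constructor
  · intro h
    have hP := h (default : Sylow p ↥N)
    refine pCl_of_syl (IsSyl.of_sylow_sub (default : Sylow p ↥N)) ?_
    exact le_normalizer_of_conj_mem fun k hk x hx => by
      obtain ⟨y, hy, rfl⟩ := hx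
      exact ⟨⟨k, hk⟩ * y * ⟨k, hk⟩⁻¹, hP.conj_mem y hy _, rfl⟩
  · intro h P
    have hS := IsSyl.of_sylow_sub P
    have he : (P : Subgroup ↥N) = pCore p ↥N := by
      rw [← subgroupOf_pCoreOf (p := p) N, ← hS.eq_of_le (isPGroup_pCoreOf N)
        (LocalEven62.pCoreOf_le N) (h _ hS), subgroupOf,
        comap_map_eq_self_of_injective N.subtype_injective]
    rw [he]; infer_instance

theorem isPClosed_iff_top : IsPClosed p G ↔ PCl p (⊤ : Subgroup G) := by
  constructor
  · intro h
    refine pCl_of_syl (IsSyl.of_sylow (default : Sylow p G)) ?_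
    haveI := h (default : Sylow p G)
    exact le_normalizer_top _
  · intro h P
    have hP := IsSyl.of_sylow P
    have he : (P : Subgroup G) = pCoreOf p ⊤ :=
      hP.eq_of_le (isPGroup_pCoreOf ⊤) le_top (h _ hP)
    exact normal_of_le_normalizer (he ▸ le_normalizer_pCoreOf ⊤)

theorem PCl.mono {N X : Subgroup G} (hX : PCl p X) (hNX : N ≤ X) : PCl p N := fun S hS =>
  (le_inf (hX.le_pCoreOf hS.isPGroup (hS.le.trans hNX)) hS.le).trans
    (LocalEven62.le_pCoreOf (isPGroup_pCoreOf X).to_inf_left inf_le_right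
      (le_normalizer_inf (hNX.trans (le_normalizer_pCoreOf X)) Subgroup.le_normalizer))

/-- A subgroup without `p'`-elements outside a normal `p`-closed subgroup. -/
theorem pCore_le_pCoreOf_normal {N : Subgroup G} [N.Normal] : pCoreOf p N ≤ pCore p G := by
  rw [← pCoreOf_top]
  exact le_pCoreOf (isPGroup_pCoreOf N) le_top
    ((le_normalizer_top N).trans (normalizer_le_normalizer_pCoreOf N))

theorem pCore_le_syl {S : Subgroup G} (hS : IsSyl p S ⊤) : pCore p G ≤ S := by
  rw [← pCoreOf_top]
  exact hS.normal_le (isPGroup_pCoreOf ⊤) le_top (le_normalizer_pCoreOf ⊤)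

theorem not_pCl_of_irreducible (h : IsPIrreducible p G) : ¬ PCl p (⊤ : Subgroup G) :=
  fun hc => h.1 (isPClosed_iff_top.2 hc)

theorem pResidual_le_of_irreducible (h : IsPIrreducible p G) {N : Subgroup G} (hN : N.Normal)
    (hc : ¬ PCl p N) : pResidual p G ≤ N :=
  h.2 N hN fun h' => hc (isPClosed_iff_pCl.1 h')

/-! ### Quotients by `p`-groups -/

variable {K : Type*} [Group K] [Finite K]

theorem isPClosed_iff_of_surjective (f : G →* K) (hf : Function.Surjective f)
    (hk : IsPGroup p f.ker) : IsPClosed p G ↔ IsPClosed p K := by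
  have hker : ∀ P : Sylow p G, f.ker ≤ (P : Subgroup G) := fun P =>
    (Thompson.le_pCore f.normal_ker hk).trans (Thompson.pCore_le_sylow P)
  constructor
  · intro h Q
    obtain ⟨k, rfl⟩ := MulAction.exists_smul_eq K ((default : Sylow p G).mapSurjective hf) Q
    haveI : (((default : Sylow p G).mapSurjective hf : Sylow p K) : Subgroup K).Normal := by
      rw [Sylow.coe_mapSurjective]
      exact (h default).map f hf
    rw [Sylow.smul_eq_of_normal]
    infer_instance
  · intro h P
    have hP := h (P.mapSurjective hf)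
    rw [Sylow.coe_mapSurjective] at hP
    rw [← comap_map_eq_self (hker P)]
    exact hP.comap f

theorem isPClosed_map_iff (f : G →* K) (hk : IsPGroup p f.ker) (N : Subgroup G) :
    IsPClosed p ↥N ↔ IsPClosed p ↥(N.map f) := by
  refine isPClosed_iff_of_surjective (f.subgroupMap N) (MonoidHom.subgroupMap_surjective f N) ?_
  refine (hk.comap_subtype (K := N)).to_le fun x hx => ?_
  exact congrArg Subtype.val (show f.subgroupMap N x = 1 from hx)

theorem pResidual_le_iff_of_surjective (f : G →* K) (hf : Function.Surjective f)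
    (hk : IsPGroup p f.ker) {N : Subgroup G} [N.Normal] :
    pResidual p G ≤ N ↔ pResidual p K ≤ N.map f := by
  rw [← Transfer.map_pResidual_of_surjective f hf]
  refine ⟨fun h => map_mono h, fun h => Transfer.pResidual_le_iff.2 fun x hx => ?_⟩
  have h1 : x ∈ (N.map f).comap f := h ⟨x, Transfer.mem_pResidual_of_coprime hx, rfl⟩
  rw [comap_map_eq, sup_comm] at h1
  refine coprime_mem_of_mem_sup (le_normalizer_top N) (fun y hy hyp => ?_) h1 hx
  rw [Transfer.eq_one_of_coprime_of_mem hk hy hyp]
  exact one_mem _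

theorem isPIrreducible_iff_of_surjective (f : G →* K) (hf : Function.Surjective f)
    (hk : IsPGroup p f.ker) :
    (IsPIrreducible p G ↔ IsPIrreducible p K) ∧
      (IsStronglyPIrreducible p G ↔ IsStronglyPIrreducible p K) := by
  have hcl := isPClosed_iff_of_surjective f hf hk
  have hcore : ∀ X : Subgroup G, X ≤ pCore p G ↔ X.map f ≤ pCore p K := by
    intro X
    refine ⟨fun h => (map_mono h).trans (Thompson.map_pCore_le_of_surjective f hf), fun h => ?_⟩
    exact (map_le_iff_le_comap.1 h).trans (Thompson.le_pCore inferInstance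
      (Thompson.isPGroup_pCore.comap_of_ker_isPGroup f hk))
  have hcomm : ∀ N : Subgroup G, ⁅N, (⊤ : Subgroup G)⁆.map f = ⁅N.map f, (⊤ : Subgroup K)⁆ := by
    intro N
    rw [map_commutator, map_top_of_surjective f hf]
  constructor
  · constructor
    · rintro ⟨h1, h2⟩
      refine ⟨fun h => h1 (hcl.2 h), fun M hM hMc => ?_⟩
      haveI := hM
      have he := map_comap_eq_self_of_surjective hf M
      rw [← he]
      refine (pResidual_le_iff_of_surjective f hf hk).1 (h2 _ inferInstance fun h => hMc ?_)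
      rw [isPClosed_map_iff f hk, he] at h
      exact h
    · rintro ⟨h1, h2⟩
      refine ⟨fun h => h1 (hcl.1 h), fun N hN hNc => ?_⟩
      haveI := hN
      exact (pResidual_le_iff_of_surjective f hf hk).2
        (h2 _ (hN.map f hf) fun h => hNc ((isPClosed_map_iff f hk N).2 h))
  · constructor
    · rintro ⟨h1, h2⟩
      refine ⟨fun h => h1 (hcl.2 h), fun M hM hMc => ?_⟩
      haveI := hM
      have he := map_comap_eq_self_of_surjective hf M
      rw [← he]
      refine (pResidual_le_iff_of_surjective f hf hk).1 (h2 _ inferInstance fun h => hMc ?_)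
      rw [hcore, hcomm, he] at h
      exact h
    · rintro ⟨h1, h2⟩
      refine ⟨fun h => h1 (hcl.1 h), fun N hN hNc => ?_⟩
      haveI := hN
      exact (pResidual_le_iff_of_surjective f hf hk).2
        (h2 _ (hN.map f hf) fun h => hNc ((hcore _).2 (by rw [hcomm]; exact h)))

/-! ### Subgroups of index prime to `p` -/

/-- A supplement, containing a Sylow subgroup of the normal `D`, contains a Sylow subgroup. -/
theorem not_dvd_index_of_sup_eq_top {X D S : Subgroup G} [D.Normal] (hS : IsSyl p S D) (hSX : S ≤ X)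
    (h : X ⊔ D = ⊤) : ¬ p ∣ X.index := by
  have h1 := Solvable.card_sup_mul_card_inf X D
  rw [h, Subgroup.card_top, ← X.card_mul_index] at h1
  have h2 := Solvable.card_mul_relIndex (inf_le_right : X ⊓ D ≤ D)
  rw [inf_relIndex_right] at h2
  have h3 : X.index = X.relIndex D := by
    rw [← h2] at h1
    have h4 : Nat.card X * (Nat.card (X ⊓ D : Subgroup G) * X.index) =
        Nat.card X * (Nat.card (X ⊓ D : Subgroup G) * X.relIndex D) := by
      rw [← h1]; ring
    exact Nat.eq_of_mul_eq_mul_left Nat.card_pos (Nat.eq_of_mul_eq_mul_left Nat.card_pos h4)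
  rw [h3]
  exact fun hd => hS.not_dvd (hd.trans (relIndex_dvd_of_le_left D hSX))

theorem exists_sylow_le_of_not_dvd_index {X : Subgroup G} (h : ¬ p ∣ X.index) :
    ∃ S : Subgroup G, IsSyl p S ⊤ ∧ S ≤ X := by
  obtain ⟨hle, hp', hd⟩ := IsSyl.of_sylow_sub (default : Sylow p ↥X)
  refine ⟨_, ⟨le_top, hp', fun hdvd => ?_⟩, hle⟩
  rw [relIndex_top_right, ← relIndex_mul_index hle] at hdvd
  rcases (Fact.out : p.Prime).dvd_mul.1 hdvd with h' | h'
  · exact hd h'
  · exact h h'

/-! ### `Y`-minimal groups -/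

theorem isCoatom_map_conj {M : Subgroup G} (hM : IsCoatom M) (g : G) :
    IsCoatom (M.map (MulAut.conj g).toMonoidHom) := by
  rw [show M.map (MulAut.conj g).toMonoidHom = M.comap (MulAut.conj g).symm.toMonoidHom from
    M.map_equiv_eq_comap_symm' (MulAut.conj g)]
  exact (isCoatom_comap (MulAut.conj g).symm).2 hM

theorem minimalOver_le {Y M X : Subgroup G} (h : IsMinimalOver Y) (hM : IsCoatom M) (hYM : Y ≤ M)
    (hYX : Y ≤ X) (hX : X ≠ ⊤) : X ≤ M := by
  obtain ⟨X', hX', hle⟩ := (eq_top_or_exists_le_coatom X).resolve_left hX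
  rwa [h.2.unique ⟨hM, hYM⟩ ⟨hX', hYX.trans hle⟩]

theorem not_normal_le {Y M N : Subgroup G} (h : IsMinimalOver Y) (hM : IsCoatom M) (hN : N.Normal)
    (hYN : Y ≤ N) (hNM : N ≤ M) : False := by
  refine hM.1 (top_le_iff.1 ?_)
  rw [← h.1]
  haveI := hN
  exact (normalClosure_le_normal hYN).trans hNM

theorem normalizer_eq_self_of_minimal {Y M : Subgroup G} (h : IsMinimalOver Y) (hM : IsCoatom M)
    (hYM : Y ≤ M) : normalizer (M : Set G) = M := by
  by_contra hne
  exact not_normal_le h hM (normalizer_eq_top_iff.1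
    (hM.2 _ (lt_of_le_of_ne Subgroup.le_normalizer (Ne.symm hne)))) hYM le_rfl

theorem mem_of_conj_le_of_minimal {Y M : Subgroup G} (h : IsMinimalOver Y) (hM : IsCoatom M)
    (hYM : Y ≤ M) {g : G} (hg : Y.map (MulAut.conj g).toMonoidHom ≤ M) : g ∈ M := by
  have h1 := h.2.unique ⟨isCoatom_map_conj hM g⁻¹, map_conj_le_iff.1 hg⟩ ⟨hM, hYM⟩
  rw [← mem_normalizer_iff_map, normalizer_eq_self_of_minimal h hM hYM] at h1
  simpa using inv_mem h1

/-- A normal subgroup inside the maximal subgroup of a `T`-minimal group with `Y ≤ T`. -/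
theorem pCl_of_normal_le {Y M T N : Subgroup G} (h : IsMinimalOver Y) (hM : IsCoatom M)
    (hT : IsSyl p T ⊤) (hTM : T ≤ M) (hYT : Y ≤ T) [N.Normal] (hNM : N ≤ M) : PCl p N := by
  have hS := hT.inf_normal (N := N) le_top (le_normalizer_top N)
  have hsup := hS.le_sup le_top (le_normalizer_top N)
  rw [top_inf_eq] at hsup
  refine pCl_of_syl hS ?_
  by_cases htop : normalizer ((T ⊓ N : Subgroup G) : Set G) = ⊤
  · rw [htop]; exact le_top
  · exfalso
    have h1 := minimalOver_le h hM (hYT.trans hTM)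
      (hYT.trans (le_normalizer_inf Subgroup.le_normalizer (le_normalizer_top N))) htop
    exact hM.1 (top_le_iff.1 (hsup ▸ sup_le h1 hNM))

end Cfsg.Agent.LocalEven62
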