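import Cfsg.Agent.LocalEven62.Action

/-!
Weakly closed subgroups, large subgroups and the weak closure.
-/

set_option autoImplicit false

namespace Cfsg.Agent.LocalEven62

open Subgroup
open scoped commutatorElement

variable {G : Type*} [Group G] [Finite G] {p : ℕ} [Fact p.Prime]

theorem commutator_le_of_mutual {A B : Subgroup G} (hA : A ≤ normalizer (B : Set G))
    (hB : B ≤ normalizer (A : Set G)) : ⁅A, B⁆ ≤ A ⊓ B :=
  le_inf (le_normalizer_iff_commutator_le_left.1 hB) (le_normalizer_iff_commutator_le_right.1 hA)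

/-- A weakly closed subgroup is the only conjugate of itself in any `p`-group containing it. -/
theorem wc_eq {Q : Subgroup G} (h : IsWeaklyClosedSubgroup p Q) {R : Subgroup G}
    (hR : IsPGroup p R) (hQR : Q ≤ R) {g : G} (hg : Q.map (MulAut.conj g).toMonoidHom ≤ R) :
    Q.map (MulAut.conj g).toMonoidHom = Q := by
  obtain ⟨T, hQT, hT⟩ := h
  obtain ⟨k, -, hk⟩ := (IsSyl.of_sylow T).exists_conj_le hR le_top
  have h1 := hT k ((map_mono hQR).trans hk)
  have h2 := hT (k * g) (by rw [← map_conj_mul]; exact (map_mono hg).trans hk)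
  rw [← mem_normalizer_iff_map] at h1 h2 ⊢
  simpa using mul_mem (inv_mem h1) h2

theorem wc_normalizer_le {Q R : Subgroup G} (h : IsWeaklyClosedSubgroup p Q) (hR : IsPGroup p R)
    (hQR : Q ≤ R) : normalizer (R : Set G) ≤ normalizer (Q : Set G) := fun n hn =>
  mem_normalizer_iff_map.2 (wc_eq h hR hQR (g := n)
    (le_of_le_of_eq (map_mono hQR) (mem_normalizer_iff_map.1 hn)))

theorem wc_le_normalizer {Q R : Subgroup G} (h : IsWeaklyClosedSubgroup p Q) (hR : IsPGroup p R)
    (hQR : Q ≤ R) : R ≤ normalizer (Q : Set G) :=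
  le_normalizer.trans (wc_normalizer_le h hR hQR)

theorem wc_isPGroup {Q : Subgroup G} (h : IsWeaklyClosedSubgroup p Q) : IsPGroup p Q := by
  obtain ⟨T, hQT, -⟩ := h
  exact T.isPGroup'.to_le hQT

/-- A `p`-group normalized by the weakly closed `Q` normalizes `Q`. -/
theorem wc_normalized {Q R : Subgroup G} (h : IsWeaklyClosedSubgroup p Q) (hR : IsPGroup p R)
    (hQR : Q ≤ normalizer (R : Set G)) : R ≤ normalizer (Q : Set G) :=
  le_sup_right.trans (wc_le_normalizer h (isPGroup_sup (wc_isPGroup h) hR hQR) le_sup_left)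

/-- Criterion for weak closure via a Sylow subgroup of `N(Q)`. -/
theorem wc_of_sylow {Q : Subgroup G} (T : Sylow p G) (hQT : Q ≤ (T : Subgroup G))
    (hTQ : (T : Subgroup G) ≤ normalizer (Q : Set G))
    (hN : normalizer ((T : Subgroup G) : Set G) ≤ normalizer (Q : Set G))
    (hconj : ∀ g : G, Q.map (MulAut.conj g).toMonoidHom ≤ (T : Subgroup G) →
      (T : Subgroup G) ≤ normalizer ((Q.map (MulAut.conj g).toMonoidHom : Subgroup G) : Set G)) :
    IsWeaklyClosedSubgroup p Q := by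
  refine ⟨T, hQT, fun g hg => ?_⟩
  set T' : Subgroup G := (T : Subgroup G).map (MulAut.conj g⁻¹).toMonoidHom
  have h1 : IsSyl p (T : Subgroup G) (normalizer (Q : Set G)) := IsSyl.sylow_of_le T hTQ
  have h2 : T' ≤ normalizer (Q : Set G) := by
    refine le_normalizer_of_conj_mem fun t ht q hq => ?_
    rw [mem_map_conj, inv_inv] at ht
    have := conj_mem_of_mem_normalizer (hconj g hg ht) (conj_mem_map (g := g) hq)
    rw [mem_map_conj] at this
    simpa [mul_assoc] using this
  obtain ⟨n, hn, hnT⟩ := h1.exists_conj_le (T.isPGroup'.map _) h2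
  rw [map_conj_mul] at hnT
  have h3 : n * g⁻¹ ∈ normalizer ((T : Subgroup G) : Set G) :=
    mem_normalizer_iff_map.2 (eq_of_le_of_card_ge hnT (card_map_conj _ _).ge)
  rw [← mem_normalizer_iff_map]
  simpa [mul_assoc] using mul_mem (inv_mem (hN h3)) hn

theorem wc_of_normalizer_le {Q : Subgroup G} (hQ : IsPGroup p Q)
    (h : ∀ R : Subgroup G, IsPGroup p R → Q ≤ R →
      normalizer (R : Set G) ≤ normalizer (Q : Set G)) : IsWeaklyClosedSubgroup p Q := by
  obtain ⟨T, hT⟩ := hQ.exists_le_sylow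
  refine wc_of_sylow T hT (le_normalizer.trans (h _ T.isPGroup' hT)) (h _ T.isPGroup' hT) ?_
  intro g hg
  have h' := h ((T : Subgroup G).map (MulAut.conj g⁻¹).toMonoidHom) (T.isPGroup'.map _)
    (map_conj_le_iff.1 hg)
  refine le_normalizer_of_conj_mem fun t ht y hy => ?_
  rw [mem_map_conj] at hy ⊢
  have h1 : g⁻¹ * t * g ∈ (T : Subgroup G).map (MulAut.conj g⁻¹).toMonoidHom := by
    rw [mem_map_conj]; simpa [mul_assoc] using ht
  have := conj_mem_of_mem_normalizer (le_normalizer.trans h' h1) hy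
  simpa [mul_assoc] using this

/-- From "mutually normalizing conjugates are equal" to normality in all `p`-overgroups. -/
theorem normalizer_le_of_mutual {Q : Subgroup G}
    (h : ∀ g : G, ⁅Q, Q.map (MulAut.conj g).toMonoidHom⁆ ≤ Q ⊓ Q.map (MulAut.conj g).toMonoidHom →
      Q.map (MulAut.conj g).toMonoidHom = Q)
    {R : Subgroup G} (hR : IsPGroup p R) (hQR : Q ≤ R) :
    normalizer (R : Set G) ≤ normalizer (Q : Set G) := by
  have hR1 : R ≤ normalizer (Q : Set G) := by
    set R1 : Subgroup G := R ⊓ normalizer (Q : Set G) with hR1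
    by_contra hno
    have hlt : R1 < R := lt_of_le_of_ne inf_le_left fun he => hno (he.symm.le.trans inf_le_right)
    obtain ⟨r, hrR, hr1, hrN, -⟩ := exists_not_mem_commutator_mem
      (P := (⊥ : Subgroup G)) (IsPGroup.of_bot) hR bot_le bot_le hlt
    have hQr : Q.map (MulAut.conj r).toMonoidHom ≤ R1 :=
      le_of_le_of_eq (map_mono (le_inf hQR le_normalizer)) (mem_normalizer_iff_map.1 hrN)
    have hQ' : R1 ≤ normalizer ((Q.map (MulAut.conj r).toMonoidHom : Subgroup G) : Set G) := by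
      refine le_normalizer_of_conj_mem fun x hx y hy => ?_
      rw [mem_map_conj] at hy ⊢
      have h1 : r⁻¹ * x * r ∈ R1 := by
        have := conj_mem_of_mem_normalizer (inv_mem hrN) hx
        simpa using this
      have := conj_mem_of_mem_normalizer h1.2 hy
      simpa [mul_assoc] using this
    exact hr1 ⟨hrR, mem_normalizer_iff_map.2 (h r (commutator_le_of_mutual
      ((le_inf hQR le_normalizer).trans hQ') (hQr.trans inf_le_right)))⟩
  intro n hn
  have hQn : Q.map (MulAut.conj n).toMonoidHom ≤ R :=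
    le_of_le_of_eq (map_mono hQR) (mem_normalizer_iff_map.1 hn)
  refine mem_normalizer_iff_map.2 (h n (commutator_le_of_mutual ?_ (hQn.trans hR1)))
  refine le_normalizer_of_conj_mem fun x hx y hy => ?_
  rw [mem_map_conj] at hy ⊢
  have h1 : n⁻¹ * x * n ∈ R := by
    have := conj_mem_of_mem_normalizer (inv_mem hn) (hQR hx)
    simpa using this
  have := conj_mem_of_mem_normalizer (hR1 h1) hy
  simpa [mul_assoc] using this

theorem wc_mutual {Q : Subgroup G} (h : IsWeaklyClosedSubgroup p Q) {g : G}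
    (hg : ⁅Q, Q.map (MulAut.conj g).toMonoidHom⁆ ≤ Q ⊓ Q.map (MulAut.conj g).toMonoidHom) :
    Q.map (MulAut.conj g).toMonoidHom = Q :=
  wc_eq h (isPGroup_sup (wc_isPGroup h) ((wc_isPGroup h).map _)
    (le_normalizer_iff_commutator_le_right.2 (hg.trans inf_le_right))) le_sup_left le_sup_right

/-- Weak closure is inherited by overgroups of `Q`. -/
theorem wc_exists_mem {Q K : Subgroup G} (h : IsWeaklyClosedSubgroup p Q) (hQK : Q ≤ K) {g : G}
    (hg : Q.map (MulAut.conj g).toMonoidHom ≤ K) :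
    ∃ k ∈ K, Q.map (MulAut.conj g).toMonoidHom = Q.map (MulAut.conj k).toMonoidHom := by
  obtain ⟨P, hP⟩ := ((wc_isPGroup h).of_equiv (Subgroup.subgroupOfEquivOfLe hQK).symm).exists_le_sylow
  have hS := IsSyl.of_sylow_sub P
  have hQS : Q ≤ (P : Subgroup ↥K).map K.subtype := fun q hq => ⟨⟨q, hQK hq⟩, hP hq, rfl⟩
  obtain ⟨k, hkK, hk⟩ := hS.exists_conj_le ((wc_isPGroup h).map _) hg
  rw [map_conj_mul] at hk
  refine ⟨k⁻¹, inv_mem hkK, ?_⟩
  have h1 := wc_eq h hS.isPGroup hQS hk
  conv_rhs => rw [← h1]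
  rw [map_conj_mul, inv_mul_cancel_left]

theorem wc_exists_sylow {Q K : Subgroup G} (h : IsWeaklyClosedSubgroup p Q) (hQK : Q ≤ K) :
    ∃ S : Subgroup G, IsSyl p S K ∧ Q ≤ S ∧ S ≤ normalizer (Q : Set G) := by
  obtain ⟨P, hP⟩ := ((wc_isPGroup h).of_equiv (Subgroup.subgroupOfEquivOfLe hQK).symm).exists_le_sylow
  have hS := IsSyl.of_sylow_sub P
  have hQS : Q ≤ (P : Subgroup ↥K).map K.subtype := fun q hq => ⟨⟨q, hQK hq⟩, hP hq, rfl⟩
  exact ⟨_, hS, hQS, wc_le_normalizer h hS.isPGroup hQS⟩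

theorem wc_subgroupOf {Q K : Subgroup G} (h : IsWeaklyClosedSubgroup p Q) (hQK : Q ≤ K) :
    IsWeaklyClosedSubgroup p (Q.subgroupOf K) := by
  obtain ⟨P, hP⟩ := ((wc_isPGroup h).of_equiv (Subgroup.subgroupOfEquivOfLe hQK).symm).exists_le_sylow
  refine ⟨P, hP, fun g hg => ?_⟩
  have h1 : Q.map (MulAut.conj (g : G)).toMonoidHom ≤ (P : Subgroup ↥K).map K.subtype := by
    rintro y ⟨q, hq, rfl⟩
    exact ⟨g * ⟨q, hQK hq⟩ * g⁻¹, hg (conj_mem_map (H := Q.subgroupOf K) (show _ from hq)), rfl⟩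
  have h2 := wc_eq h (P.isPGroup'.map _) (fun q hq => ⟨⟨q, hQK hq⟩, hP hq, rfl⟩) h1
  ext y
  rw [mem_map_conj, mem_subgroupOf, mem_subgroupOf]
  conv_rhs => rw [← h2]
  rw [mem_map_conj]
  simp

theorem wc_map_quotient {Q : Subgroup G} (h : IsWeaklyClosedSubgroup p Q) (N : Subgroup G)
    [N.Normal] : IsWeaklyClosedSubgroup p (Q.map (QuotientGroup.mk' N)) := by
  obtain ⟨T, hQT, hT⟩ := h
  refine ⟨T.mapSurjective (QuotientGroup.mk'_surjective N), ?_, ?_⟩
  · rw [Sylow.coe_mapSurjective]; exact map_mono hQT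
  intro g hg
  obtain ⟨g, rfl⟩ := QuotientGroup.mk'_surjective N g
  have hmap : (Q.map (QuotientGroup.mk' N)).map
      (MulAut.conj (QuotientGroup.mk' N g)).toMonoidHom =
      (Q.map (MulAut.conj g).toMonoidHom).map (QuotientGroup.mk' N) := by
    rw [map_map, map_map]
    congr 1
  rw [hmap, Sylow.coe_mapSurjective, map_le_iff_le_comap, comap_map_eq, QuotientGroup.ker_mk'] at hg
  rw [hmap]
  obtain ⟨k, hk, hgk⟩ := wc_exists_mem ⟨T, hQT, hT⟩ (hQT.trans le_sup_left) hg
  rw [hgk]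
  obtain ⟨t, ht, n, hn, rfl⟩ := (mem_sup_of_normal_right (t := N)).1 hk
  have h1 : t ∈ normalizer (Q : Set G) := wc_le_normalizer ⟨T, hQT, hT⟩ T.isPGroup' hQT ht
  have h2 : (QuotientGroup.mk' N).comp (MulAut.conj (t * n)).toMonoidHom
      = (QuotientGroup.mk' N).comp (MulAut.conj t).toMonoidHom := by
    ext x
    have hn1 : (QuotientGroup.mk' N) n = 1 := (QuotientGroup.eq_one_iff n).2 hn
    show (QuotientGroup.mk' N) (t * n * x * (t * n)⁻¹) = (QuotientGroup.mk' N) (t * x * t⁻¹)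
    simp only [map_mul, map_inv, hn1, mul_one]
  rw [map_map, h2, ← map_map, mem_normalizer_iff_map.1 h1]

/-! ### The weak closure -/

theorem le_weakClosure {Q L : Subgroup G} {g : G} (h : Q.map (MulAut.conj g).toMonoidHom ≤ L) :
    Q.map (MulAut.conj g).toMonoidHom ≤ weakClosure Q L :=
  le_iSup (fun g : {g : G // Q.map (MulAut.conj g).toMonoidHom ≤ L} =>
    Q.map (MulAut.conj (g : G)).toMonoidHom) ⟨g, h⟩

theorem weakClosure_le_iff {Q L M : Subgroup G} : weakClosure Q L ≤ M ↔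
    ∀ g : G, Q.map (MulAut.conj g).toMonoidHom ≤ L → Q.map (MulAut.conj g).toMonoidHom ≤ M := by
  rw [weakClosure, iSup_le_iff]
  exact ⟨fun h g hg => h ⟨g, hg⟩, fun h g => h g.1 g.2⟩

theorem weakClosure_le (Q L : Subgroup G) : weakClosure Q L ≤ L :=
  weakClosure_le_iff.2 fun _ h => h

theorem self_le_weakClosure {Q L : Subgroup G} (h : Q ≤ L) : Q ≤ weakClosure Q L := by
  have h1 := le_weakClosure (Q := Q) (L := L) (g := 1) (by rwa [map_conj_one])
  rwa [map_conj_one] at h1

theorem weakClosure_mono {Q L M : Subgroup G} (h : L ≤ M) : weakClosure Q L ≤ weakClosure Q M :=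
  weakClosure_le_iff.2 fun _ hg => le_weakClosure (hg.trans h)

theorem normalizer_le_normalizer_weakClosure (Q L : Subgroup G) :
    normalizer (L : Set G) ≤ normalizer ((weakClosure Q L : Subgroup G) : Set G) := by
  intro n hn
  refine mem_normalizer_of_conj_mem fun x hx => ?_
  have h : weakClosure Q L ≤ (weakClosure Q L).map (MulAut.conj n⁻¹).toMonoidHom := by
    rw [weakClosure_le_iff]
    intro g hg
    rw [← map_conj_le_iff, map_conj_mul]
    refine le_weakClosure ?_
    rw [← map_conj_mul]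
    exact le_of_le_of_eq (map_mono hg) (mem_normalizer_iff_map.1 hn)
  have := h hx
  rw [mem_map_conj] at this
  simpa using this

theorem le_normalizer_weakClosure (Q L : Subgroup G) :
    L ≤ normalizer ((weakClosure Q L : Subgroup G) : Set G) :=
  le_normalizer.trans (normalizer_le_normalizer_weakClosure Q L)

/-- In an overgroup of a weakly closed `Q` the weak closure is generated by the internal conjugates. -/
theorem weakClosure_eq_iSup {Q K : Subgroup G} (h : IsWeaklyClosedSubgroup p Q) (hQK : Q ≤ K) :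
    weakClosure Q K = ⨆ k : ↥K, Q.map (MulAut.conj (k : G)).toMonoidHom := by
  refine le_antisymm (weakClosure_le_iff.2 fun g hg => ?_) (iSup_le fun k => le_weakClosure ?_)
  · obtain ⟨k, hk, he⟩ := wc_exists_mem h hQK hg
    rw [he]
    exact le_iSup (fun k : ↥K => Q.map (MulAut.conj (k : G)).toMonoidHom) ⟨k, hk⟩
  · exact le_of_le_of_eq (map_mono hQK) (mem_normalizer_iff_map.1 (le_normalizer k.2))

theorem weakClosure_eq_self_of_le_normalizer {Q L : Subgroup G} (h : IsWeaklyClosedSubgroup p Q)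
    (hQL : Q ≤ L) (hL : L ≤ normalizer (Q : Set G)) : weakClosure Q L = Q := by
  refine le_antisymm ?_ (self_le_weakClosure hQL)
  rw [weakClosure_eq_iSup h hQL]
  exact iSup_le fun k => (mem_normalizer_iff_map.1 (hL k.2)).le

/-! ### Large subgroups -/

theorem large_conj {Q : Subgroup G} (h : IsLarge Q) (g : G) :
    IsLarge (Q.map (MulAut.conj g).toMonoidHom) := by
  have hc : ∀ u, u ∈ centralizer ((Q.map (MulAut.conj g).toMonoidHom : Subgroup G) : Set G) →
      g⁻¹ * u * g ∈ centralizer (Q : Set G) := fun u hu => by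
    refine Subgroup.mem_centralizer_iff.2 fun q hq => ?_
    have := Subgroup.mem_centralizer_iff.1 hu _ (conj_mem_map (g := g) hq)
    calc q * (g⁻¹ * u * g) = g⁻¹ * ((g * q * g⁻¹) * u) * g := by group
      _ = g⁻¹ * (u * (g * q * g⁻¹)) * g := by rw [this]
      _ = _ := by group
  refine ⟨fun u hu => mem_map_conj.2 (h.1 (hc u hu)), fun U hU hU1 n hn => ?_⟩
  have hU' : U.map (MulAut.conj g⁻¹).toMonoidHom ≤ centralizer (Q : Set G) := by
    rintro y ⟨u, hu, rfl⟩
    simpa using hc u (hU hu)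
  have h1 := h.2 _ hU' (by rwa [Ne, map_eq_bot_iff_of_injective _ (MulAut.conj g⁻¹).injective])
    (x := g⁻¹ * n * g) (mem_normalizer_iff_map.2 (by
      rw [map_conj_mul, mul_inv_cancel_right, ← map_conj_mul,
        mem_normalizer_iff_map.1 hn]))
  rw [mem_normalizer_iff_map] at h1 ⊢
  conv_rhs => rw [← h1]
  rw [map_conj_mul, map_conj_mul, ← mul_assoc, ← mul_assoc, mul_inv_cancel, one_mul]

theorem centralizer_le_normalizer' (U : Subgroup G) :
    Subgroup.centralizer (U : Set G) ≤ Subgroup.normalizer (U : Set G) := fun c hc =>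
  mem_normalizer_of_conj_mem fun u hu => by
    rw [(mem_centralizer_iff_commute.1 hc u hu).eq, mul_inv_cancel_right]
    exact hu

theorem large_centralizer_le_normalizer {Q : Subgroup G} (h : IsLarge Q) {U : Subgroup G}
    (hU : U ≤ Subgroup.centralizer (Q : Set G)) (hU1 : U ≠ ⊥) :
    Subgroup.centralizer (U : Set G) ≤ Subgroup.normalizer (Q : Set G) :=
  (centralizer_le_normalizer' U).trans (h.2 U hU hU1)

theorem large_weaklyClosed {Q : Subgroup G} (hQp : IsPGroup p Q) (hQ1 : Q ≠ ⊥)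
    (h : IsLarge Q) : IsWeaklyClosedSubgroup p Q := by
  set N : Subgroup G := Subgroup.normalizer (Q : Set G)
  obtain ⟨P, hP⟩ := (hQp.of_equiv
    (Subgroup.subgroupOfEquivOfLe (le_normalizer : Q ≤ N)).symm).exists_le_sylow
  set S : Subgroup G := (P : Subgroup ↥N).map N.subtype
  have hS := IsSyl.of_sylow_sub P
  have hQS : Q ≤ S := fun q hq =>
    ⟨⟨q, (le_normalizer : Q ≤ N) hq⟩, hP (show (⟨q, (le_normalizer : Q ≤ N) hq⟩ : ↥N) ∈ Q.subgroupOf N from hq), rfl⟩
  have hS1 : S ≠ ⊥ := fun h' => hQ1 (le_bot_iff.1 (h' ▸ hQS))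
  set U : Subgroup G := S ⊓ Subgroup.centralizer (S : Set G)
  have hU1 : U ≠ ⊥ := inf_centralizer_ne_bot hS.isPGroup hS.isPGroup le_normalizer hS1
  have hUQ : U ≤ Subgroup.centralizer (Q : Set G) :=
    inf_le_right.trans (Subgroup.centralizer_le hQS)
  have hNS : Subgroup.normalizer (S : Set G) ≤ N :=
    (le_normalizer_inf le_rfl (normalizer_le_normalizer_centralizer S)).trans (h.2 U hUQ hU1)
  obtain ⟨T, hT⟩ := hS.isPGroup.exists_le_sylow
  have hST : S = (T : Subgroup G) := by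
    by_contra hne
    obtain ⟨r, hrT, hrS, hrN, -⟩ := exists_not_mem_commutator_mem (P := (⊥ : Subgroup G))
      (IsPGroup.of_bot) T.isPGroup' bot_le bot_le (lt_of_le_of_ne hT hne)
    have h1 : S = (T : Subgroup G) ⊓ N :=
      hS.eq_of_le T.isPGroup'.to_inf_left inf_le_right (le_inf hT hS.le)
    exact hrS (h1.symm.le (Subgroup.mem_inf.2 ⟨hrT, hNS hrN⟩))
  refine wc_of_sylow T (hST ▸ hQS) (hST ▸ hS.le) (hST ▸ hNS) fun g hg => ?_
  rw [← hST] at hg ⊢
  refine (le_normalizer_of_conj_mem ?_).trans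
    ((large_conj h g).2 U (inf_le_right.trans (Subgroup.centralizer_le hg)) hU1)
  exact fun s hs u hu => conj_mem_of_mem_normalizer
    (le_normalizer_inf le_rfl (normalizer_le_normalizer_centralizer S) (le_normalizer hs)) hu

/-- The centralizer of a nontrivial `p`-group normalized by a large subgroup normalizes it. -/
theorem large_centralizer_le {Q Y : Subgroup G} (h : IsLarge Q) (hQp : IsPGroup p Q)
    (hYp : IsPGroup p Y) (hY1 : Y ≠ ⊥) (hQY : Q ≤ Subgroup.normalizer (Y : Set G)) :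
    Subgroup.centralizer (Y : Set G) ≤ Subgroup.normalizer (Q : Set G) :=
  (Subgroup.centralizer_le inf_le_left).trans
    (large_centralizer_le_normalizer h inf_le_right (inf_centralizer_ne_bot hQp hYp hQY hY1))

/-- A group with a normal self-centralizing `p`-subgroup has characteristic `p`. -/
theorem charP_of_selfCentralizing {Q X : Subgroup G} (hQp : IsPGroup p Q) (hQX : Q ≤ X)
    (hXQ : X ≤ Subgroup.normalizer (Q : Set G)) (hC : Subgroup.centralizer (Q : Set G) ≤ Q) :
    CharP p X := fun x hx =>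
  le_pCoreOf hQp hQX hXQ (hC (mem_centralizer_iff_commute.2 fun q hq =>
    mem_centralizer_iff_commute.1 hx.2 q (le_pCoreOf hQp hQX hXQ hq)))

/-- The main lemma on overgroups of a weakly closed self-centralizing subgroup. -/
theorem selfCentralizing_overgroup {Q L X : Subgroup G} (hwc : IsWeaklyClosedSubgroup p Q)
    (hCQ : Subgroup.centralizer (Q : Set G) ≤ Q) (hQL : Q ≤ L) (hQX : Q ≤ X) (hX : CharP p X)
    (hCX : Subgroup.centralizer ((pCoreOf p L : Subgroup G) : Set G) ≤ X) :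
    ⁅Q, Subgroup.centralizer ((pCoreOf p L : Subgroup G) : Set G)⁆ ≤ Q ⊓ pCoreOf p L ∧
      IsPGroup p ↥(Subgroup.centralizer ((pCoreOf p L : Subgroup G) : Set G)) ∧ CharP p L := by
  have hQp := wc_isPGroup hwc
  set P : Subgroup G := pCoreOf p L with hPdef
  set C : Subgroup G := Subgroup.centralizer (P : Set G) with hCdef
  set R : Subgroup G := pCoreOf p X with hRdef
  have hRp : IsPGroup p R := isPGroup_pCoreOf X
  have hXR : X ≤ Subgroup.normalizer (R : Set G) := le_normalizer_pCoreOf X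
  have hLC : L ≤ Subgroup.normalizer (C : Set G) :=
    (le_normalizer_pCoreOf L).trans (normalizer_le_normalizer_centralizer P)
  have hRQ : R ≤ Subgroup.normalizer (Q : Set G) := wc_normalized hwc hRp (hQX.trans hXR)
  have hQR : ∀ q ∈ Q, ∀ r ∈ R, ⁅q, r⁆ ∈ Q ⊓ R := fun q hq r hr =>
    commutator_le_of_mutual (hQX.trans hXR) hRQ (commutator_mem_commutator hq hr)
  have hnorm : ∀ {M : Subgroup G}, Q ≤ Subgroup.normalizer (M : Set G) → IsPGroup p ↥(⁅M, Q⁆) →
      M ≤ Subgroup.normalizer (Q : Set G) := by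
    intro M _ hMp m hm
    have hp' : IsPGroup p (Q ⊔ ⁅M, Q⁆ : Subgroup G) :=
      isPGroup_sup hQp hMp (normalizer_commutator_ge_right M Q)
    refine mem_normalizer_iff_map.2 (wc_eq hwc hp' le_sup_left ?_)
    rintro y ⟨q, hq, rfl⟩
    have : (MulAut.conj m).toMonoidHom q = ⁅m, q⁆ * q := by
      simp [commutatorElement_def]
    rw [this]
    exact mul_mem ((le_sup_right : ⁅M, Q⁆ ≤ Q ⊔ ⁅M, Q⁆) (commutator_mem_commutator hm hq))
      ((le_sup_left : Q ≤ Q ⊔ ⁅M, Q⁆) hq)
  -- Step 1: `C_L(P)` is a `p`-group.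
  set K : Subgroup G := L ⊓ C with hKdef
  have hLK : L ≤ Subgroup.normalizer (K : Set G) := le_normalizer_inf le_normalizer hLC
  have hKX : K ≤ X := inf_le_right.trans hCX
  have hRK : K ≤ Subgroup.normalizer ((R ⊓ K : Subgroup G) : Set G) :=
    le_normalizer_inf (hKX.trans hXR) le_normalizer
  have hKcore : pCoreOf p K ≤ P :=
    le_pCoreOf (isPGroup_pCoreOf K) ((pCoreOf_le K).trans inf_le_left)
      (hLK.trans (normalizer_le_normalizer_pCoreOf K))
  have hRKP : R ⊓ K ≤ P :=
    (le_pCoreOf hRp.to_inf_left inf_le_right hRK).trans hKcore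
  have hQK : Q ≤ Subgroup.normalizer (K : Set G) := hQL.trans hLK
  set V : Subgroup G := R ⊓ L with hVdef
  have hQV : Q ≤ Subgroup.normalizer (V : Set G) :=
    le_normalizer_inf (hQX.trans hXR) (hQL.trans le_normalizer)
  have hQstab : Q ≤ stab R V := fun q hq =>
    ⟨hQV hq, fun r hr => ⟨(hQR q hq r hr).2, hQL (hQR q hq r hr).1⟩⟩
  have hKstab : ⁅K, Q⁆ ≤ stab R V :=
    commutator_le_of_le_normalizer hQstab (le_normalizer_stab (hKX.trans hXR)
      (le_normalizer_inf (hKX.trans hXR) (inf_le_left.trans le_normalizer)))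
  have hD0K : ⁅K, Q⁆ ≤ K := le_normalizer_iff_commutator_le_left.1 hQK
  have hD0 : IsPGroup p ↥(⁅K, Q⁆) := isPGroup_of_coprime_eq_one fun x hxD hx => by
    have hxK := hD0K hxD
    have hxV : ∀ v ∈ V, Commute x v := commute_step hx hRp.to_inf_left
      (fun b (hb : b ∈ R ⊓ K) => mem_centralizer_iff_commute.1 hxK.2 b (hRKP hb))
      (fun v hv => Subgroup.mem_inf.2 ⟨by
          rw [commutatorElement_def]
          exact mul_mem (conj_mem_of_mem_normalizer (hXR (hKX hxK)) hv.1) (inv_mem hv.1),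
        by
          rw [commutatorElement_def, mul_assoc, mul_assoc, ← mul_assoc v]
          exact mul_mem hxK (conj_mem_of_mem_normalizer (hLK hv.2) (inv_mem hxK))⟩)
    exact hX.eq_one (hKX hxK) hx
      (commute_step hx hRp.to_inf_left hxV fun r hr => (hKstab hxD).2 r hr)
  have hKQ : K ≤ Subgroup.normalizer (Q : Set G) := hnorm hQK hD0
  have hQKP : Q ⊓ K ≤ P :=
    (le_pCoreOf hQp.to_inf_left inf_le_right (le_normalizer_inf hKQ le_normalizer)).trans hKcore
  have hKp : IsPGroup p K := isPGroup_of_coprime_eq_one fun x hxK hx => by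
    refine Transfer.eq_one_of_coprime_of_mem hQp (hCQ (mem_centralizer_iff_commute.2 ?_)) hx
    refine commute_step hx hQp.to_inf_left
      (fun b (hb : b ∈ Q ⊓ K) => mem_centralizer_iff_commute.1 hxK.2 b (hQKP hb)) fun q hq => ?_
    exact commutator_le_of_mutual hQK hKQ
      (commutator_comm K Q ▸ commutator_mem_commutator hxK hq)
  have hKP : K ≤ P := le_pCoreOf hKp inf_le_left hLK
  have hLchar : CharP p L := hKP
  -- Step 2: `C` is a `p`-group.
  set U1 : Subgroup G := R ⊓ C with hU1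
  have hQC : Q ≤ Subgroup.normalizer (C : Set G) := hQL.trans hLC
  have hCR : C ≤ Subgroup.normalizer (R : Set G) := hCX.trans hXR
  have hCU1 : C ≤ Subgroup.normalizer (U1 : Set G) := le_normalizer_inf hCR le_normalizer
  have hQU1 : Q ≤ Subgroup.normalizer (U1 : Set G) := le_normalizer_inf (hQX.trans hXR) hQC
  set V2 : Subgroup G := (R ⊓ Q) ⊔ U1 with hV2
  have hQV2 : Q ≤ Subgroup.normalizer (V2 : Set G) :=
    le_normalizer_sup (le_normalizer_inf (hQX.trans hXR) le_normalizer) hQU1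
  have hcu : ∀ c ∈ C, ∀ u ∈ R ⊓ Q, ⁅c, u⁆ ∈ U1 := fun c hc u hu => Subgroup.mem_inf.2 ⟨by
      rw [commutatorElement_def]
      exact mul_mem (conj_mem_of_mem_normalizer (hCR hc) hu.1) (inv_mem hu.1),
    by
      rw [commutatorElement_def, mul_assoc, mul_assoc, ← mul_assoc u]
      exact mul_mem hc (conj_mem_of_mem_normalizer (hQC hu.2) (inv_mem hc))⟩
  have hCV2 : C ≤ Subgroup.normalizer (V2 : Set G) := fun c hc => by
    refine mem_normalizer_of_map_le ?_
    rw [hV2, Subgroup.map_sup, sup_le_iff]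
    refine ⟨?_, le_sup_of_le_right (mem_normalizer_iff_map.1 (hCU1 hc)).le⟩
    rintro y ⟨u, hu, rfl⟩
    have : (MulAut.conj c).toMonoidHom u = ⁅c, u⁆ * u := by simp [commutatorElement_def]
    rw [this]
    exact mul_mem ((le_sup_right : U1 ≤ (R ⊓ Q) ⊔ U1) (hcu c hc u hu))
      ((le_sup_left : R ⊓ Q ≤ (R ⊓ Q) ⊔ U1) hu)
  set U3 : Subgroup G := U1 ⊓ P with hU3
  have hQU3 : Q ≤ Subgroup.normalizer (U3 : Set G) :=
    le_normalizer_inf hQU1 (hQL.trans (le_normalizer_pCoreOf L))
  have hCU3 : C ≤ Subgroup.normalizer (U3 : Set G) := fun c hc =>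
    mem_normalizer_of_conj_mem fun u hu => by
      rw [(mem_centralizer_iff_commute.1 hc u hu.2).eq, mul_inv_cancel_right]
      exact hu
  have hD1 : ⁅C, Q⁆ ≤ stab R V2 := commutator_le_of_le_normalizer
    (fun q hq => ⟨hQV2 hq, fun r hr => (le_sup_left : R ⊓ Q ≤ V2)
      ⟨(hQR q hq r hr).2, (hQR q hq r hr).1⟩⟩) (le_normalizer_stab hCR hCV2)
  have hD2 : ⁅C, Q⁆ ≤ stab U1 U3 := commutator_le_of_le_normalizer (fun q hq => ⟨hQU3 hq,
    fun u hu => by
      have h1 : ⁅q, u⁆ ∈ U1 := by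
        rw [commutatorElement_def]
        exact mul_mem (conj_mem_of_mem_normalizer (hQU1 hq) hu) (inv_mem hu)
      exact ⟨h1, hKP ⟨hQL (hQR q hq u hu.1).1, h1.2⟩⟩⟩) (le_normalizer_stab hCU1 hCU3)
  have hDC : ⁅C, Q⁆ ≤ C := le_normalizer_iff_commutator_le_left.1 hQC
  have hD : IsPGroup p ↥(⁅C, Q⁆) := isPGroup_of_coprime_eq_one fun x hxD hx => by
    have hxC := hDC hxD
    have hx1 : ∀ u ∈ U1, Commute x u := commute_step hx hRp.to_inf_left.to_inf_left
      (fun b (hb : b ∈ U1 ⊓ P) => mem_centralizer_iff_commute.1 hxC b hb.2)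
      (fun u hu => (hD2 hxD).2 u hu)
    have hx2 : ∀ v ∈ R ⊓ Q, Commute x v :=
      commute_step hx hRp.to_inf_left hx1 fun v hv => hcu x hxC v hv
    have hV2le : V2 ≤ Subgroup.centralizer ({x} : Set G) :=
      sup_le (fun v hv => Subgroup.mem_centralizer_singleton_iff.2 (hx2 v hv).symm.eq)
        (fun u hu => Subgroup.mem_centralizer_singleton_iff.2 (hx1 u hu).symm.eq)
    exact hX.eq_one (hCX hxC) hx (commute_step hx
      (hRp.to_le (sup_le inf_le_left inf_le_left : V2 ≤ R))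
      (fun v hv => (Subgroup.mem_centralizer_singleton_iff.1 (hV2le hv)).symm)
      fun r hr => (hD1 hxD).2 r hr)
  have hCQ' : C ≤ Subgroup.normalizer (Q : Set G) := hnorm hQC hD
  have hcomm : ⁅Q, C⁆ ≤ Q ⊓ P := by
    refine le_inf ?_ ?_
    · exact (commutator_le_of_mutual hQC hCQ').trans inf_le_left
    · exact ((commutator_le_of_mutual hQC hCQ').trans (inf_le_inf_right _ hQL)).trans hKP
  refine ⟨hcomm, isPGroup_of_coprime_eq_one fun x hxC hx => ?_, hLchar⟩
  refine Transfer.eq_one_of_coprime_of_mem hQp (hCQ (mem_centralizer_iff_commute.2 ?_)) hx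
  refine commute_step hx (isPGroup_pCoreOf L) (fun b hb => mem_centralizer_iff_commute.1 hxC b hb)
    fun q hq => ?_
  have h1 : ⁅x, q⁆ ∈ ⁅Q, C⁆ := commutator_comm C Q ▸ commutator_mem_commutator hxC hq
  exact (hcomm h1).2

end Cfsg.Agent.LocalEven62
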