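import Cfsg.Agent.LocalEven62.PReduced
import Cfsg.Agent.LocalEven62.WeakClosed
import Cfsg.Agent.Lib.Solvable.Basic

/-!
Properties of `Y_L`: monotonicity, `Y = Ω₁(Z(C_T(Y)))`, and behaviour towards subnormal subgroups.
-/

set_option autoImplicit false

namespace Cfsg.Agent.LocalEven62

open Subgroup
open scoped commutatorElement

variable {G : Type*} [Group G] [Finite G] {p : ℕ} [Fact p.Prime]

/-- `Y_L` as an abbreviation. -/
abbrev yOf (p : ℕ) (L : Subgroup G) : Subgroup G := largestPReducedOf p L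

theorem pRed_yOf (L : Subgroup G) : PRed p (yOf p L) L := (largestPReducedOf_spec L).1

theorem le_yOf {V L : Subgroup G} (h : PRed p V L) : V ≤ yOf p L := (largestPReducedOf_spec L).2 V h

theorem closure_le_yOf {T R L V : Subgroup G} (hL : CharP p L) (hT : IsSyl p T L) (hTR : T ≤ R)
    (hRL : R ≤ L) (hV : PRed p V R) :
    (⨆ g : ↥L, V.map (MulAut.conj (g : G)).toMonoidHom) ≤ yOf p L :=
  le_yOf (pRed_closure hL hT hTR hRL hV)

theorem le_closure_self (L V : Subgroup G) :
    V ≤ ⨆ g : ↥L, V.map (MulAut.conj (g : G)).toMonoidHom :=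
  fun v hv => le_iSup (fun g : ↥L => V.map (MulAut.conj (g : G)).toMonoidHom) 1 ⟨v, hv, by simp⟩

theorem pRed_le_yOf_of_le {T R L V : Subgroup G} (hL : CharP p L) (hT : IsSyl p T L) (hTR : T ≤ R)
    (hRL : R ≤ L) (hV : PRed p V R) : V ≤ yOf p L :=
  (le_closure_self L V).trans (closure_le_yOf hL hT hTR hRL hV)

theorem yOf_mono {T R L : Subgroup G} (hL : CharP p L) (hT : IsSyl p T L) (hTR : T ≤ R)
    (hRL : R ≤ L) : yOf p R ≤ yOf p L :=
  pRed_le_yOf_of_le hL hT hTR hRL (pRed_yOf R)

theorem omZ_le_yOf {T L : Subgroup G} (hL : CharP p L) (hT : IsSyl p T L) :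
    omZ p T ≤ yOf p L :=
  pRed_le_yOf_of_le hL hT le_rfl hT.le (pRed_omZ hT.isPGroup)

theorem IsSyl.pCoreOf_le {T L : Subgroup G} (hT : IsSyl p T L) : pCoreOf p L ≤ T :=
  hT.normal_le (isPGroup_pCoreOf L) (LocalEven62.pCoreOf_le L) (le_normalizer_pCoreOf L)

theorem yOf_le_syl {T L : Subgroup G} (hT : IsSyl p T L) : yOf p L ≤ T :=
  (pRed_yOf L).le_pCoreOf.trans hT.pCoreOf_le

theorem yOf_le_omZ_pCoreOf (L : Subgroup G) : yOf p L ≤ omZ p (pCoreOf p L) := fun y hy =>
  mem_omZ.2 ⟨(pRed_yOf L).le_pCoreOf hy, mem_centralizer_iff_commute.2 fun a ha =>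
    ((pRed_yOf L).commute_of_mem ha hy).symm, (pRed_yOf L).elAb.2 y hy⟩

theorem omZ_structure {T L : Subgroup G} (hL : CharP p L) (hT : IsSyl p T L) (TL : Subgroup G)
    (hTL : TL = T ⊓ centralizer (yOf p L : Set G)) :
    (L ⊓ normalizer (TL : Set G)) ⊔ (L ⊓ centralizer (yOf p L : Set G)) = L ∧
      pCoreOf p (L ⊓ normalizer (TL : Set G)) = TL ∧ yOf p L = omZ p TL := by
  set Y := yOf p L
  have hY := pRed_yOf (p := p) L
  set C : Subgroup G := L ⊓ centralizer (Y : Set G)
  have hLC : L ≤ normalizer (C : Set G) := le_normalizer_inf Subgroup.le_normalizer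
    (hY.le_normalizer.trans (normalizer_le_normalizer_centralizer Y))
  have hTLC : IsSyl p TL C := by
    have := hT.inf_normal (N := C) inf_le_left hLC
    rwa [← inf_assoc, inf_eq_left.2 hT.le, ← hTL] at this
  set R : Subgroup G := L ⊓ normalizer (TL : Set G)
  have hsup : R ⊔ C = L := hTLC.le_sup inf_le_left hLC
  have hTR : T ≤ R := by
    refine le_inf hT.le ?_
    rw [hTL]
    exact le_normalizer_inf Subgroup.le_normalizer
      ((hT.le.trans hY.le_normalizer).trans (normalizer_le_normalizer_centralizer Y))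
  have hTR' : IsSyl p T R := hT.of_le hTR inf_le_left
  have hYTL : Y ≤ TL := hTL ▸ le_inf (yOf_le_syl hT)
    (fun y hy => mem_centralizer_iff_commute.2 fun z hz => elAb_commute hY.elAb hy hz)
  -- normal subgroups of `R` acting as `p`-groups on `Y` centralize `Y`
  have key : ∀ N : Subgroup G, N ≤ R → R ≤ normalizer (N : Set G) →
      (∀ x ∈ N, Nat.Coprime (orderOf x) p → x ∈ centralizer (Y : Set G)) →
        N ≤ centralizer (Y : Set G) := by
    intro N hNR hRN hNC
    have h1 : N ≤ L := hNR.trans inf_le_left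
    have hL' : L ≤ normalizer ((N ⊔ C : Subgroup G) : Set G) := by
      rw [← hsup]
      exact sup_le (le_normalizer_sup hRN ((inf_le_left : R ≤ L).trans hLC))
        ((le_sup_right : C ≤ N ⊔ C).trans Subgroup.le_normalizer)
    exact le_sup_left.trans (hY.red _ (sup_le h1 inf_le_left) hL' fun x hx hxp =>
      (coprime_mem_of_mem_sup (C := C) (h1.trans hLC)
        (fun y hy hyp => Subgroup.mem_inf.2 ⟨h1 hy, hNC y hy hyp⟩) hx hxp).2)
  refine ⟨hsup, le_antisymm ?_ ?_, le_antisymm ?_ ?_⟩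
  · conv_rhs => rw [hTL]
    exact le_inf hTR'.pCoreOf_le (key _ (LocalEven62.pCoreOf_le R) (le_normalizer_pCoreOf R)
      fun x hx hxp => by
        rw [Transfer.eq_one_of_coprime_of_mem (isPGroup_pCoreOf R) hx hxp]; exact one_mem _)
  · exact le_pCoreOf hTLC.isPGroup (le_inf (hTLC.le.trans inf_le_left) Subgroup.le_normalizer)
      inf_le_right
  · exact fun y hy => mem_omZ.2 ⟨hYTL hy, mem_centralizer_iff_commute.2 fun z hz =>
      (mem_centralizer_iff_commute.1 (hTLC.le hz).2 y hy).symm, hY.elAb.2 y hy⟩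
  · have hV : PRed p (omZ p TL) R := by
      refine ⟨(omZ_le TL).trans (le_inf (hTLC.le.trans inf_le_left) Subgroup.le_normalizer),
        (inf_le_right : R ≤ normalizer (TL : Set G)).trans (normalizer_le_normalizer_omZ TL),
        elAb_omZ TL, fun N hNR hRN hNC => ?_⟩
      have hNY := key N hNR hRN fun x hx hxp => centralizer_le
        (fun y hy => mem_omZ.2 ⟨hYTL hy, mem_centralizer_iff_commute.2 fun z hz =>
          (mem_centralizer_iff_commute.1 (hTLC.le hz).2 y hy).symm, hY.elAb.2 y hy⟩)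
        (hNC x hx hxp)
      rw [← (hTR'.inf_normal hNR hRN).sup_resOf]
      refine sup_le (fun x hx => ?_) (resOf_le_iff.2 hNC)
      exact le_centralizer_iff.1 (omZ_le_centralizer TL)
        (hTL.symm.le (Subgroup.mem_inf.2 ⟨hx.1, hNY hx.2⟩))
    exact pRed_le_yOf_of_le hL hT hTR inf_le_left hV

/-- A subnormal subgroup of `M` acting as a `p`-group on a `p`-reduced `V` centralizes it. -/
theorem PRed.red_isSubnormal {V M N : Subgroup G} (h : PRed p V M) (hNM : N ≤ M)
    (hN : (N.subgroupOf M).IsSubnormal)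
    (hNC : ∀ x ∈ N, Nat.Coprime (orderOf x) p → x ∈ centralizer (V : Set G)) :
    N ≤ centralizer (V : Set G) := by
  have hc : ∀ x : ↥M, x ∈ centralizer ((V.subgroupOf M : Subgroup ↥M) : Set ↥M) ↔
      (x : G) ∈ centralizer (V : Set G) := by
    intro x
    rw [mem_centralizer_iff_commute, mem_centralizer_iff_commute]
    exact ⟨fun h' v hv => congrArg Subtype.val (h' ⟨v, h.le hv⟩ hv),
      fun h' v hv => Subtype.ext (h' v.1 hv)⟩
  obtain ⟨-, -, hC, hcore⟩ := (pRed_subgroupOf_iff h.le).2 h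
  have hp : IsPGroup p ((N.subgroupOf M).map
      (QuotientGroup.mk' (centralizer ((V.subgroupOf M : Subgroup ↥M) : Set ↥M)))) := by
    rintro ⟨-, x, hx, rfl⟩
    obtain ⟨k, hk⟩ := exists_pow_mem_of_coprime_mem
      (le_normalizer_top (centralizer ((V.subgroupOf M : Subgroup ↥M) : Set ↥M)))
      (fun y (hy : y ∈ N.subgroupOf M) hyp => (hc y).2 (hNC y hy (by rwa [orderOf_coe]))) hx
    exact ⟨k, Subtype.ext (by
      simpa using (QuotientGroup.eq_one_iff
        (N := centralizer ((V.subgroupOf M : Subgroup ↥M) : Set ↥M)) _).2 hk)⟩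
  have hle := Thompson.le_pCore_of_isSubnormal (hN.map (QuotientGroup.mk'_surjective _)) hp
  rw [hcore, le_bot_iff, Subgroup.map_eq_bot_iff, QuotientGroup.ker_mk'] at hle
  exact fun x hx => (hc ⟨x, hNM hx⟩).1 (hle hx)

/-- The `p`-core normalizes `O^p` of every subnormal subgroup. -/
theorem pCore_le_normalizer_resOf {K : Subgroup G} (hK : K.IsSubnormal) :
    resOf p (K ⊔ pCore p G) = resOf p K ∧
      pCore p G ≤ normalizer ((resOf p K : Subgroup G) : Set G) := by
  set O := pCore p G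
  set X : Subgroup G := K ⊔ O
  have hi : ∃ k, K.relIndex X = p ^ k := by
    obtain ⟨n, hn⟩ := IsPGroup.iff_card.1 (Thompson.isPGroup_pCore (p := p) (G := G))
    have h1 : Nat.card X * Nat.card (K ⊓ O : Subgroup G) = Nat.card K * p ^ n := by
      rw [← hn]; exact Solvable.card_sup_mul_card_inf K O
    have h2 := Solvable.card_mul_relIndex (le_sup_left : K ≤ X)
    have h3 : K.relIndex X ∣ p ^ n := by
      refine ⟨Nat.card (K ⊓ O : Subgroup G), ?_⟩
      refine Nat.eq_of_mul_eq_mul_left (Nat.card_pos (α := K)) ?_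
      rw [← h1, ← h2, mul_assoc]
    obtain ⟨k, -, hk⟩ := (Nat.dvd_prime_pow Fact.out).1 h3
    exact ⟨k, hk⟩
  have h : resOf p X = resOf p K := by
    refine le_antisymm ?_ (resOf_mono le_sup_left)
    have := resOf_le_of_isSubnormal_subgroupOf hK.subgroupOf hi
    exact resOf_le_iff.2 fun x hx hxp => mem_resOf (this (mem_resOf hx hxp)) hxp
  refine ⟨h, ?_⟩
  rw [← h]
  exact (le_sup_right : O ≤ X).trans
    (Subgroup.le_normalizer.trans (normalizer_le_normalizer_resOf X))

/-- Coprime action on an abelian `p`-group commuting with a `p`-group of operators. -/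
theorem commute_of_AxB_abelian {U P : Subgroup G} (hU : IsPGroup p U)
    (hab : ∀ a ∈ U, ∀ b ∈ U, Commute a b) (hP : IsPGroup p P) (hPU : P ≤ normalizer (U : Set G))
    {x : G} (hx : Nat.Coprime (orderOf x) p) (hxU : x ∈ normalizer (U : Set G))
    (hxP : ∀ y ∈ P, ∀ u ∈ U, Commute ⁅x, y⁆ u)
    (h : ∀ u ∈ U, (∀ y ∈ P, Commute y u) → Commute x u) : ∀ u ∈ U, Commute x u := by
  have hmem : ∀ v ∈ U, ⁅x, v⁆ ∈ U := fun v hv => by
    rw [commutatorElement_def]
    exact U.mul_mem (conj_mem_of_mem_normalizer hxU hv) (U.inv_mem hv)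
  let f : ↥U →* ↥U :=
    { toFun := fun v => ⟨⁅x, (v : G)⁆, hmem v v.2⟩
      map_one' := by ext; simp
      map_mul' := fun a b => by
        ext
        show ⁅x, (a : G) * b⁆ = ⁅x, (a : G)⁆ * ⁅x, (b : G)⁆
        have h1 := (hab _ (hmem b b.2) a a.2).eq
        calc ⁅x, (a : G) * b⁆ = ⁅x, (a : G)⁆ * ((a : G) * ⁅x, (b : G)⁆ * (a : G)⁻¹) := by
              simp only [commutatorElement_def]; group
          _ = _ := by rw [← h1, mul_inv_cancel_right] }
  set W : Subgroup G := f.range.map U.subtype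
  have hWmem : ∀ v ∈ U, ⁅x, v⁆ ∈ W := fun v hv => ⟨f ⟨v, hv⟩, ⟨⟨v, hv⟩, rfl⟩, rfl⟩
  by_contra hno
  push Not at hno
  obtain ⟨u₀, hu₀, hu₀'⟩ := hno
  have hW1 : W ≠ ⊥ := fun h' => hu₀'
    (commutatorElement_eq_one_iff_mul_comm.1 (Subgroup.mem_bot.1 (h' ▸ hWmem u₀ hu₀)))
  have hPW : P ≤ normalizer (W : Set G) := by
    refine le_normalizer_of_conj_mem fun y hy w hw => ?_
    obtain ⟨-, ⟨v, rfl⟩, rfl⟩ := hw
    have hv' : y * (v : G) * y⁻¹ ∈ U := conj_mem_of_mem_normalizer (hPU hy) v.2
    have hxv : x * (y * (v : G) * y⁻¹) * x⁻¹ = y * (x * v * x⁻¹) * y⁻¹ := by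
      have hm : y * (x * (v : G) * x⁻¹) * y⁻¹ ∈ U :=
        conj_mem_of_mem_normalizer (hPU hy) (conj_mem_of_mem_normalizer hxU v.2)
      calc x * (y * (v : G) * y⁻¹) * x⁻¹
          = ⁅x, y⁆ * (y * (x * v * x⁻¹) * y⁻¹) * ⁅x, y⁆⁻¹ := by
            simp only [commutatorElement_def]; group
        _ = _ := by rw [(hxP y hy _ hm).eq, mul_inv_cancel_right]
    show y * ⁅x, (v : G)⁆ * y⁻¹ ∈ W
    have he : y * ⁅x, (v : G)⁆ * y⁻¹ = ⁅x, y * (v : G) * y⁻¹⁆ := by
      simp only [commutatorElement_def]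
      rw [hxv]
      group
    rw [he]
    exact hWmem _ hv'
  obtain ⟨w, hwW, hw1, -, hwP⟩ :=
    exists_fixed hP (hU.to_le (map_subtype_le f.range)) hPW hW1
  obtain ⟨-, ⟨v, rfl⟩, rfl⟩ := hwW
  refine hw1 ?_
  show ⁅x, (v : G)⁆ = 1
  have hxw : Commute x ⁅x, (v : G)⁆ := h _ (hmem v v.2) hwP
  rw [commutatorElement_eq_one_iff_mul_comm]
  obtain ⟨k, hk⟩ := hU ⟨_, hmem v v.2⟩
  exact fix_of_stab hx ⟨k, congrArg Subtype.val hk⟩ hxw
    (show x * (v : G) * x⁻¹ = (x * (v : G) * x⁻¹ * (v : G)⁻¹) * v by group)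

/-- For `L` normalized by `M` and `V` `p`-reduced in `M`: `V ∩ L` is `p`-reduced in `L`, and has the
same centralizer in `L` as `V`. -/
theorem PRed.inf_normal {V L M : Subgroup G} (hV : PRed p V M) (hLM : L ≤ M)
    (hML : M ≤ normalizer (L : Set G)) :
    PRed p (V ⊓ L) L ∧ L ⊓ centralizer ((V ⊓ L : Subgroup G) : Set G) ≤ centralizer (V : Set G) := by
  have hnL : (L.subgroupOf M).Normal := normal_subgroupOf_of_le_normalizer hML
  have hcomm : ∀ x ∈ L, ∀ v ∈ V, ⁅x, v⁆ ∈ V ⊓ L := fun x hx v hv => by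
    refine Subgroup.mem_inf.2 ⟨?_, ?_⟩
    · rw [commutatorElement_def]
      exact V.mul_mem (conj_mem_of_mem_normalizer (hV.le_normalizer (hLM hx)) hv) (V.inv_mem hv)
    · rw [commutatorElement_def, mul_assoc, mul_assoc, ← mul_assoc v]
      exact L.mul_mem hx (conj_mem_of_mem_normalizer (hML (hV.le hv)) (L.inv_mem hx))
  have hp' : ∀ x ∈ L, Nat.Coprime (orderOf x) p →
      x ∈ centralizer ((V ⊓ L : Subgroup G) : Set G) → x ∈ centralizer (V : Set G) :=
    fun x hx hxp hc => mem_centralizer_iff_commute.2 (commute_step hxp hV.isPGroup.to_inf_left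
      (mem_centralizer_iff_commute.1 hc) (hcomm x hx))
  have hsn : ∀ N : Subgroup G, N ≤ L → L ≤ normalizer (N : Set G) →
      (N.subgroupOf M).IsSubnormal := fun N hNL hLN => by
    refine IsSubnormal.step _ (L.subgroupOf M) (fun x hx => hNL hx) hnL.isSubnormal ?_
    refine normal_subgroupOf_of_le_normalizer fun x hx => mem_normalizer_of_conj_mem fun y hy => ?_
    exact conj_mem_of_mem_normalizer (H := N) (hLN hx) hy
  refine ⟨⟨inf_le_right, le_normalizer_inf (hLM.trans hV.le_normalizer) Subgroup.le_normalizer,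
    ⟨⟨⟨fun a b => Subtype.ext (elAb_commute hV.elAb a.2.1 b.2.1)⟩⟩, fun a ha => hV.elAb.2 a ha.1⟩,
    fun N hNL hLN hNC => (hV.red_isSubnormal (hNL.trans hLM) (hsn N hNL hLN) fun x hx hxp =>
      hp' x (hNL hx) hxp (hNC x hx hxp)).trans (centralizer_le fun v hv => hv.1)⟩, ?_⟩
  exact hV.red_isSubnormal (inf_le_left.trans hLM) (hsn _ inf_le_left (le_normalizer_inf
    Subgroup.le_normalizer ((le_normalizer_inf (hLM.trans hV.le_normalizer) Subgroup.le_normalizer).trans
      (normalizer_le_normalizer_centralizer _)))) fun x hx hxp => hp' x hx.1 hxp hx.2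

/-- A `p`-reduced normal subgroup meets a subnormal subgroup in a `p`-reduced one. -/
theorem PRed.inf_subnormal {V L : Subgroup G} (hV : PRed p V ⊤) (hL : L.IsSubnormal) :
    PRed p (V ⊓ L) L ∧ L ⊓ centralizer ((V ⊓ L : Subgroup G) : Set G) ≤ centralizer (V : Set G) := by
  induction hL with
  | top => rw [inf_top_eq, top_inf_eq]; exact ⟨hV, le_rfl⟩
  | step H K hle _ hN ih =>
    have h := ih.1.inf_normal hle (le_normalizer_of_conj_mem fun k hk x hx =>
      hN.conj_mem ⟨x, hle hx⟩ hx ⟨k, hk⟩)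
    rw [inf_assoc, inf_eq_right.2 hle] at h
    exact ⟨h.1, fun x hx => ih.2 ⟨hle hx.1, h.2 hx⟩⟩

/-- For `L` normalized by `M`: `C_L(Y_L) = C_L(Y_M)`. -/
theorem centralizer_yOf_normal {L M : Subgroup G} (hLM : L ≤ M) (hML : M ≤ normalizer (L : Set G)) :
    L ⊓ centralizer (yOf p L : Set G) = L ⊓ centralizer (yOf p M : Set G) := by
  set YL := yOf p L
  set YM := yOf p M
  have hYL := pRed_yOf (p := p) L
  have hYM := pRed_yOf (p := p) M
  obtain ⟨hV, hVC⟩ := hYM.inf_normal hLM hML
  refine le_antisymm (le_inf inf_le_left ?_) (le_inf inf_le_left ?_)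
  · exact fun x hx => hVC ⟨hx.1, centralizer_le (fun v hv => le_yOf hV hv) hx.2⟩
  · classical
    have hMYL : M ≤ normalizer (YL : Set G) := by
      intro g hg
      have hgL := mem_normalizer_iff_map.1 (hML hg)
      refine mem_normalizer_of_map_le (le_yOf ⟨?_, ?_, ?_, ?_⟩)
      · exact le_of_le_of_eq (map_mono hYL.le) hgL
      · refine le_normalizer_of_conj_mem fun l hl y hy => ?_
        rw [mem_map_conj] at hy ⊢
        have hl' : g⁻¹ * l * g ∈ L := by
          simpa using conj_mem_of_mem_normalizer (inv_mem (hML hg)) hl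
        simpa [mul_assoc] using conj_mem_of_mem_normalizer (hYL.le_normalizer hl') hy
      · refine ⟨⟨⟨fun a b => Subtype.ext ?_⟩⟩, fun a ha => ?_⟩
        · obtain ⟨a', ha', hae⟩ := a.2
          obtain ⟨b', hb', hbe⟩ := b.2
          show (a : G) * b = b * a
          rw [← hae, ← hbe, ← map_mul, ← map_mul, (elAb_commute hYL.elAb ha' hb').eq]
        · obtain ⟨a', ha', rfl⟩ := ha
          rw [← map_pow, hYL.elAb.2 a' ha', map_one]
      · intro N hNL hLN hNC
        have hc : ∀ x, g⁻¹ * x * g ∈ centralizer (YL : Set G) ↔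
            x ∈ centralizer ((YL.map (MulAut.conj g).toMonoidHom : Subgroup G) : Set G) := by
          intro x
          simp only [mem_centralizer_iff_commute]
          constructor
          · rintro h y ⟨v, hv, rfl⟩
            have := (h v hv).eq
            show x * (g * v * g⁻¹) = g * v * g⁻¹ * x
            calc x * (g * v * g⁻¹) = g * ((g⁻¹ * x * g) * v) * g⁻¹ := by group
              _ = g * (v * (g⁻¹ * x * g)) * g⁻¹ := by rw [this]
              _ = _ := by group
          · intro h v hv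
            have := (h _ (conj_mem_map hv)).eq
            show g⁻¹ * x * g * v = v * (g⁻¹ * x * g)
            calc g⁻¹ * x * g * v = g⁻¹ * (x * (g * v * g⁻¹)) * g := by group
              _ = g⁻¹ * (g * v * g⁻¹ * x) * g := by rw [this]
              _ = _ := by group
        have h := hYL.red (N.map (MulAut.conj g⁻¹).toMonoidHom)
          (le_of_le_of_eq (map_mono hNL) (mem_normalizer_iff_map.1 (inv_mem (hML hg))))
          (le_normalizer_of_conj_mem fun l hl y hy => by
            rw [mem_map_conj, inv_inv] at hy ⊢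
            have hl' : g * l * g⁻¹ ∈ L := conj_mem_of_mem_normalizer (hML hg) hl
            simpa [mul_assoc] using conj_mem_of_mem_normalizer (hLN hl') hy)
          fun y hy hyp => by
            rw [mem_map_conj, inv_inv] at hy
            have hco : Nat.Coprime (orderOf (g * y * g⁻¹)) p :=
              coprime_orderOf_map (MulAut.conj g).toMonoidHom hyp
            simpa [mul_assoc] using (hc _).2 (hNC _ hy hco)
        intro n hn
        refine (hc n).1 (h ?_)
        rw [mem_map_conj, inv_inv]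
        simpa [mul_assoc] using hn
    obtain ⟨U, ⟨hUY, hMU, hUC⟩, hUmin⟩ :=
      (Set.toFinite {U : Subgroup G | U ≤ YL ∧ M ≤ normalizer (U : Set G) ∧
        L ⊓ centralizer (U : Set G) ≤ centralizer (YL : Set G)}).exists_minimal
        ⟨YL, le_rfl, hMYL, inf_le_right⟩
    have hUred : PRed p U M := by
      refine ⟨(hUY.trans hYL.le).trans hLM, hMU,
        ⟨⟨⟨fun a b => Subtype.ext (elAb_commute hYL.elAb (hUY a.2) (hUY b.2))⟩⟩,
          fun a ha => hYL.elAb.2 a (hUY ha)⟩, fun N hNM hMN hNC => ?_⟩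
      set U1 : Subgroup G := U ⊓ centralizer (N : Set G)
      have hMU1 : M ≤ normalizer (U1 : Set G) :=
        le_normalizer_inf hMU (hMN.trans (normalizer_le_normalizer_centralizer N))
      have hNL : N ⊓ L ≤ centralizer (U : Set G) :=
        le_trans (hYL.red (N ⊓ L) inf_le_right (le_normalizer_inf (hLM.trans hMN) Subgroup.le_normalizer)
          fun y hy hyp => hUC ⟨hy.2, hNC y hy.1 hyp⟩) (centralizer_le fun v hv => hUY hv)
      obtain ⟨S, hS⟩ : ∃ S, IsSyl p S N := ⟨_, IsSyl.of_sylow_sub (default : Sylow p ↥N)⟩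
      have hU1C : L ⊓ centralizer (U1 : Set G) ≤ centralizer (YL : Set G) := by
        refine hYL.red _ inf_le_left (le_normalizer_inf Subgroup.le_normalizer
          ((hLM.trans hMU1).trans (normalizer_le_normalizer_centralizer U1))) fun x hx hxp => ?_
        refine hUC ⟨hx.1, mem_centralizer_iff_commute.2 (commute_of_AxB_abelian
          (hYL.isPGroup.to_le hUY) (fun a ha b hb => elAb_commute hYL.elAb (hUY ha) (hUY hb))
          hS.isPGroup ((hS.le.trans hNM).trans hMU) hxp (hMU (hLM hx.1)) ?_ ?_)⟩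
        · intro y hy u hu
          refine mem_centralizer_iff_commute.1 (hNL (Subgroup.mem_inf.2 ⟨?_, ?_⟩)) u hu
          · rw [commutatorElement_def]
            exact N.mul_mem (conj_mem_of_mem_normalizer (hMN (hLM hx.1)) (hS.le hy))
              (N.inv_mem (hS.le hy))
          · rw [commutatorElement_def, mul_assoc, mul_assoc, ← mul_assoc y]
            exact L.mul_mem hx.1
              (conj_mem_of_mem_normalizer (hML (hNM (hS.le hy))) (L.inv_mem hx.1))
        · intro u hu hfix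
          refine mem_centralizer_iff_commute.1 hx.2 u (Subgroup.mem_inf.2 ⟨hu, ?_⟩)
          have hN' : N ≤ centralizer ({u} : Set G) := by
            rw [← hS.sup_resOf]
            refine sup_le (fun y hy => mem_centralizer_singleton_iff.2 (hfix y hy).eq)
              (resOf_le_iff.2 fun y hy hyp => mem_centralizer_singleton_iff.2 ?_)
            exact (mem_centralizer_iff_commute.1 (hNC y hy hyp) u hu).eq
          exact mem_centralizer_iff_commute.2 fun n hn =>
            (mem_centralizer_singleton_iff.1 (hN' hn) : Commute n u).symm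
      have hle : U ≤ U1 := hUmin ⟨inf_le_left.trans hUY, hMU1, hU1C⟩ inf_le_left
      exact le_centralizer_iff.1 (hle.trans inf_le_right)
    exact fun x hx => hUC ⟨hx.1, centralizer_le (fun v hv => le_yOf hUred hv) hx.2⟩

/-- For subnormal `L`: `C_L(Y_L) = C_L(Y_G)`. -/
theorem centralizer_yOf_subnormal {L : Subgroup G} (hL : L.IsSubnormal) :
    L ⊓ centralizer (yOf p L : Set G) = L ⊓ centralizer (yOf p (⊤ : Subgroup G) : Set G) := by
  induction hL with
  | top => rfl
  | step H K hle _ hN ih =>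
    rw [centralizer_yOf_normal hle (le_normalizer_of_conj_mem fun k hk x hx =>
      hN.conj_mem ⟨x, hle hx⟩ hx ⟨k, hk⟩), ← inf_eq_left.2 hle, inf_assoc, ih]
    ac_rfl

end Cfsg.Agent.LocalEven62
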