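import Cfsg.Agent.LocalEven62.PReducedMax
import Cfsg.Agent.LocalEven62.MinimalOver
import Cfsg.Agent.S2824

/-!
Existence of members of `𝔐_H` above a member of `𝓛_H` (groups of parabolic characteristic `p`).
-/

set_option autoImplicit false

namespace Cfsg.Agent.LocalEven62

open Subgroup Cfsg

variable {G : Type*} [Group G] {p : ℕ}

theorem mem_charP_iff {X : Subgroup G} :
    X ∈ charPSubgroups p G ↔ pCoreOf p X ≠ ⊥ ∧
      Subgroup.centralizer ((pCoreOf p X : Subgroup G) : Set G) ≤ pCoreOf p X :=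
  and_congr_left' (pCoreOf_eq_bot_iff X).not.symm

theorem charP_of_mem {X : Subgroup G} (h : X ∈ charPSubgroups p G) : CharP p X :=
  inf_le_right.trans (mem_charP_iff.1 h).2

theorem mem_charP_of_parabolic [Finite G] [Fact p.Prime] (hG : IsOfParabolicCharacteristic p G)
    (T : Sylow p G) {X : Subgroup G} (hTX : (T : Subgroup G) ≤ X) (hX : pCoreOf p X ≠ ⊥) :
    X ∈ charPSubgroups p G := by
  refine mem_charP_iff.2 ⟨hX, ?_⟩
  set P := pCoreOf p X
  set N := Subgroup.normalizer (P : Set G)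
  have hXN : X ≤ N := le_normalizer_pCoreOf X
  have hN : CharP p N := charP_iff.2 (hG P (isPGroup_pCoreOf X) hX ⟨T, hTX.trans hXN⟩)
  have hON : pCoreOf p N ≤ (T : Subgroup G) :=
    IsSyl.pCoreOf_le (IsSyl.sylow_of_le T (hTX.trans hXN))
  have hle : pCoreOf p N ≤ P :=
    LocalEven62.le_pCoreOf (isPGroup_pCoreOf N) (hON.trans hTX) (hXN.trans (le_normalizer_pCoreOf N))
  exact fun c hc => hle (hN ⟨centralizer_le_normalizer (P : Set G) hc, Subgroup.centralizer_le hle hc⟩)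

/-- `X` lies above some factor of `L` in the sense of the basic property. -/
def AboveL (p : ℕ) (T : Subgroup G) (L X : Subgroup G) : Prop :=
  X ∈ charPSubgroups p G ∧ T ≤ X ∧ yOf p L ≤ yOf p X ∧
    ∃ Ls : Subgroup G, T ≤ Ls ∧ Ls ≤ X ∧ Ls ∈ charPSubgroups p G ∧ yOf p Ls = yOf p L ∧
      L ⊔ Subgroup.centralizer (yOf p L : Set G) = Ls ⊔ Subgroup.centralizer (yOf p L : Set G)

/-- The image of `D = C_M(Y)` in `M / O_p(M)` lies in the Frattini subgroup when `M` is minimal. -/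
theorem map_le_frattini_of_minimal [Finite G] [Fact p.Prime] {T M D S : Subgroup G}
    (hT : IsSyl p T M) (hDM : D ≤ M) (hMD : M ≤ Subgroup.normalizer (D : Set G))
    (hS : IsSyl p S D) (hSO : S ≤ pCoreOf p M)
    (hmin : ∀ K : Subgroup G, T ≤ K → K ≤ M → K ⊔ D = M → M ≤ K) :
    (D.subgroupOf M).map (QuotientGroup.mk' (pCore p ↥M)) ≤ frattini (↥M ⧸ pCore p ↥M) := by
  set D' := D.subgroupOf M
  haveI hD' : D'.Normal := normal_subgroupOf_of_le_normalizer hMD
  refine le_iInf₂ fun Xq hXq => ?_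
  have hπ : Function.Surjective (QuotientGroup.mk' (pCore p ↥M)) := QuotientGroup.mk'_surjective _
  rw [Subgroup.map_le_iff_le_comap]
  set X' : Subgroup ↥M := Xq.comap (QuotientGroup.mk' (pCore p ↥M))
  have hX' : IsCoatom X' := Subgroup.isCoatom_comap_of_surjective hπ hXq
  by_contra hno
  have htop : X' ⊔ D' = ⊤ := hX'.2 _ (lt_of_le_of_ne le_sup_left fun he =>
    hno ((le_sup_right : D' ≤ X' ⊔ D').trans he.symm.le))
  have hOX : pCore p ↥M ≤ X' := by
    intro x hx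
    show QuotientGroup.mk' (pCore p ↥M) x ∈ Xq
    rw [show QuotientGroup.mk' (pCore p ↥M) x = 1 from (QuotientGroup.eq_one_iff x).2 hx]
    exact Xq.one_mem
  have hS' : IsSyl p (S.subgroupOf M) D' := by
    refine ⟨fun x hx => hS.le hx, hS.isPGroup.comap_of_injective M.subtype M.subtype_injective, ?_⟩
    rw [relIndex_subgroupOf hDM]
    exact hS.not_dvd
  obtain ⟨S₁, hS₁, hS₁X⟩ := exists_sylow_le_of_not_dvd_index
    (not_dvd_index_of_sup_eq_top hS' (fun x hx => hOX (by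
      rw [← subgroupOf_pCoreOf (p := p) M]
      exact hSO hx)) htop)
  have hT' : IsSyl p (T.subgroupOf M) ⊤ := by
    refine ⟨le_top, hT.isPGroup.comap_of_injective M.subtype M.subtype_injective, ?_⟩
    rw [relIndex_top_right]
    exact hT.not_dvd
  obtain ⟨k, -, hk⟩ := hT'.exists_conj_eq hS₁
  set X'' := X'.map (MulAut.conj k).toMonoidHom
  have hX'' : IsCoatom X'' := isCoatom_map_conj hX' k
  have htop'' : X'' ⊔ D' = ⊤ := by
    have h := congrArg (Subgroup.map (MulAut.conj k).toMonoidHom) htop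
    rwa [Subgroup.map_sup, mem_normalizer_iff_map.1 ((le_normalizer_top (L := ⊤) D') (mem_top k)),
      Subgroup.map_top_of_surjective _ (MulAut.conj k).surjective] at h
  have hsup : X''.map M.subtype ⊔ D = M := by
    have h := congrArg (Subgroup.map M.subtype) htop''
    rwa [Subgroup.map_sup, Subgroup.subgroupOf_map_subtype, inf_eq_left.2 hDM,
      ← MonoidHom.range_eq_map, Subgroup.range_subtype] at h
  have hle := hmin (X''.map M.subtype) (fun t ht =>
    ⟨⟨t, hT.le ht⟩, Subgroup.map_mono hS₁X (hk.ge ht), rfl⟩) (Subgroup.map_subtype_le _) hsup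
  refine hX''.1 (eq_top_iff.2 fun x _ => ?_)
  obtain ⟨y, hy, hyx⟩ := hle x.2
  exact M.subtype_injective hyx ▸ hy

theorem exists_frakM [Finite G] [Fact p.Prime] (hG : IsOfParabolicCharacteristic p G)
    (T : Sylow p G) {L : Subgroup G} (hTL : (T : Subgroup G) ≤ L)
    (hL : L ∈ charPSubgroups p G) :
    ∃ M : Subgroup G, IsInFrakM p M ∧ AboveL p (T : Subgroup G) L M := by
  obtain ⟨X, ⟨hX, hTX, hYX, Ls, hTLs, hLsX, hLs, hYLs, hfacLs⟩, hmax⟩ :=
    Set.Finite.exists_maximalFor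
      (fun X : Subgroup G => toLex (Nat.card ↥(yOf p X), Nat.card ↥X))
      {X : Subgroup G | AboveL p (T : Subgroup G) L X} (Set.toFinite _)
      ⟨L, hL, hTL, le_rfl, L, hTL, le_rfl, hL, rfl, rfl⟩
  have hTsyl : ∀ {Z : Subgroup G}, (T : Subgroup G) ≤ Z → IsSyl p (T : Subgroup G) Z :=
    fun h => IsSyl.sylow_of_le T h
  have hT1 : (T : Subgroup G) ≠ ⊥ := fun h =>
    (mem_charP_iff.1 hL).1 (le_bot_iff.1 ((IsSyl.pCoreOf_le (hTsyl hTL)).trans h.le))
  have hYL1 : yOf p L ≠ ⊥ := by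
    intro h
    obtain ⟨r, hr, hr1, hrp, hrT⟩ := exists_fixed T.isPGroup' T.isPGroup' Subgroup.le_normalizer hT1
    refine hr1 (Subgroup.mem_bot.1 (h ▸ omZ_le_yOf (charP_of_mem hL) (hTsyl hTL) (mem_omZ.2
      ⟨hr, mem_centralizer_iff_commute.2 fun y hy => (hrT y hy).symm, hrp⟩)))
  have hne : ∀ {Z : Subgroup G}, yOf p L ≤ yOf p Z → pCoreOf p Z ≠ ⊥ := fun {Z} h hb =>
    hYL1 (le_bot_iff.1 ((h.trans (pRed_yOf Z).le_pCoreOf).trans hb.le))
  -- `X` is maximal in `𝓛`
  have hXmax : ∀ X' ∈ charPSubgroups p G, X ≤ X' → X' = X := by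
    intro X' hX' hle
    have hmono : yOf p X ≤ yOf p X' := yOf_mono (charP_of_mem hX') (hTsyl (hTX.trans hle)) hTX hle
    have hc1 : Nat.card ↥(yOf p X) ≤ Nat.card ↥(yOf p X') :=
      Nat.le_of_dvd Nat.card_pos (Subgroup.card_dvd_of_le hmono)
    have hc2 : Nat.card ↥X ≤ Nat.card ↥X' := Nat.le_of_dvd Nat.card_pos (Subgroup.card_dvd_of_le hle)
    have h := hmax (j := X') ⟨hX', hTX.trans hle, hYX.trans hmono,
      Ls, hTLs, hLsX.trans hle, hLs, hYLs, hfacLs⟩
      (Prod.Lex.toLex_le_toLex.2 (by rcases hc1.lt_or_eq with h | h <;> [exact Or.inl h; exact Or.inr ⟨h, hc2⟩]))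
    have h' := Prod.Lex.toLex_le_toLex.1 h
    refine (Subgroup.eq_of_le_of_card_ge hle ?_).symm
    rcases h' with h' | h'
    · exact absurd hc1 (not_le.2 h')
    · exact h'.2
  set Y := yOf p X
  set C := Subgroup.centralizer (Y : Set G)
  have hY := pRed_yOf (p := p) X
  have hYT : Y ≤ (T : Subgroup G) := yOf_le_syl (hTsyl hTX)
  have hover : ∀ Z : Subgroup G, (T : Subgroup G) ≤ Z → Z ≤ Subgroup.normalizer (Y : Set G) →
      Z ∈ charPSubgroups p G := fun Z hTZ hZN => by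
    refine mem_charP_of_parabolic hG T hTZ fun hb => hYL1 (le_bot_iff.1 (hYX.trans ?_))
    exact (LocalEven62.le_pCoreOf hY.isPGroup (hYT.trans hTZ) hZN).trans hb.le
  have hCX : C ≤ X := le_sup_right.trans (hXmax (X ⊔ C) (hover _ (hTX.trans le_sup_left)
    (sup_le hY.le_normalizer (centralizer_le_normalizer (Y : Set G)))) le_sup_left).le
  set TC : Subgroup G := (T : Subgroup G) ⊓ C
  have hstr := omZ_structure (charP_of_mem hX) (hTsyl hTX) TC rfl
  have hTN : (T : Subgroup G) ≤ Subgroup.normalizer (TC : Set G) :=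
    le_normalizer_inf Subgroup.le_normalizer
      ((hTX.trans hY.le_normalizer).trans (normalizer_le_normalizer_centralizer Y))
  -- `M`
  obtain ⟨M, ⟨hTM, hMN, hMC⟩, hMmin⟩ := exists_minimal_of_wellFoundedLT
    (fun M : Subgroup G => (T : Subgroup G) ≤ M ∧ M ≤ X ⊓ Subgroup.normalizer (TC : Set G) ∧
      M ⊔ C = X)
    ⟨X ⊓ Subgroup.normalizer (TC : Set G), le_inf hTX hTN, le_rfl, by
      refine le_antisymm (sup_le inf_le_left hCX) ?_
      conv_lhs => rw [← hstr.1]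
      exact sup_le_sup_left inf_le_right _⟩
  have hMX : M ≤ X := hMN.trans inf_le_left
  have hMY : M ≤ Subgroup.normalizer (Y : Set G) := hMX.trans hY.le_normalizer
  have hMp : M ∈ charPSubgroups p G := hover M hTM hMY
  have hYM : yOf p M = Y := le_antisymm (yOf_mono (charP_of_mem hX) (hTsyl hTX) hTM hMX)
    (le_yOf (hY.transfer (hYT.trans hTM) hMY (by rw [hMC, sup_of_le_left hCX])))
  -- `L*`
  set CL := Subgroup.centralizer (yOf p L : Set G)
  have hCCL : C ≤ CL := Subgroup.centralizer_le hYX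
  set L₁ := (Ls ⊔ C) ⊓ M
  have hTL₁ : (T : Subgroup G) ≤ L₁ := le_inf (hTLs.trans le_sup_left) hTM
  have hL₁C : L₁ ⊔ C = Ls ⊔ C := by
    refine le_antisymm (sup_le inf_le_left le_sup_right) (sup_le ?_ le_sup_right)
    intro z hz
    have hz1 : z ∈ M ⊔ C := hMC.symm ▸ hLsX hz
    rw [← SetLike.mem_coe, coe_mul_of_left_le_normalizer_right M C
      (hMY.trans (normalizer_le_normalizer_centralizer Y))] at hz1
    obtain ⟨m, hm, c, hc, rfl⟩ := hz1
    refine (L₁ ⊔ C).mul_mem ((le_sup_left : L₁ ≤ L₁ ⊔ C) ⟨?_, hm⟩) ((le_sup_right : C ≤ L₁ ⊔ C) hc)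
    simpa using (Ls ⊔ C).mul_mem ((le_sup_left : Ls ≤ Ls ⊔ C) hz)
      ((le_sup_right : C ≤ Ls ⊔ C) (C.inv_mem hc))
  have hfac : L₁ ⊔ CL = L ⊔ CL := by
    rw [← sup_of_le_right hCCL, ← sup_assoc, hL₁C, sup_assoc, sup_of_le_right hCCL]
    exact hfacLs.symm
  have hL₁p : L₁ ∈ charPSubgroups p G := hover L₁ hTL₁ (inf_le_right.trans hMY)
  obtain ⟨hY2, hf2⟩ := S2824.result T L L₁ hTL hTL₁ (charP_iff.1 (charP_of_mem hL))
    (charP_iff.1 (charP_of_mem hL₁p)) _ rfl hfac _ rfl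
  set L₂ := L₁ ⊓ Subgroup.normalizer
      (((T : Subgroup G) ⊓ Subgroup.centralizer ((largestPReducedOf p L : Subgroup G) : Set G) :
        Subgroup G) : Set G)
  have hTL₂ : (T : Subgroup G) ≤ L₂ := le_inf hTL₁ (le_normalizer_inf Subgroup.le_normalizer
    ((hTL.trans (pRed_yOf L).le_normalizer).trans (normalizer_le_normalizer_centralizer _)))
  have hAbove : AboveL p (T : Subgroup G) L M :=
    ⟨hMp, hTM, hYM.symm ▸ hYX, L₂, hTL₂, inf_le_left.trans inf_le_right,
      hover L₂ hTL₂ (inf_le_left.trans (inf_le_right.trans hMY)), hY2, hf2⟩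
  have hXC : M ⊔ Subgroup.centralizer (yOf p M : Set G) = X := by rw [hYM]; exact hMC
  refine ⟨M, ⟨hMp, ?_, ?_, ?_, ?_, ?_⟩, hAbove⟩
  · show M ⊔ Subgroup.centralizer (yOf p M : Set G) ∈ maxCharPSubgroups p G
    rw [hXC]; exact ⟨hX, hXmax⟩
  · intro X₂ hX₂ hMX₂
    show X₂ = M ⊔ Subgroup.centralizer (yOf p M : Set G)
    rw [hXC]
    have hTX₂ := hTM.trans hMX₂
    have hmono : Y ≤ yOf p X₂ := hYM ▸ yOf_mono (charP_of_mem hX₂.1) (hTsyl hTX₂) hTM hMX₂
    have hcard := Nat.le_of_dvd Nat.card_pos (Subgroup.card_dvd_of_le hmono)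
    have hY₂ : yOf p X₂ = Y := by
      refine (Subgroup.eq_of_le_of_card_ge hmono ?_).symm
      by_contra hlt
      have h := hmax (j := X₂) ⟨hX₂.1, hTX₂, hYX.trans hmono, hAbove.2.2.2.imp
        fun _ h => ⟨h.1, h.2.1.trans hMX₂, h.2.2⟩⟩ (Prod.Lex.toLex_le_toLex.2 (Or.inl (not_le.1 hlt)))
      rcases Prod.Lex.toLex_le_toLex.1 h with h' | h'
      · exact absurd hcard (not_le.2 h')
      · exact hlt h'.1.le
    have hNX₂ : X₂ ≤ Subgroup.normalizer (Y : Set G) := hY₂ ▸ (pRed_yOf X₂).le_normalizer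
    have hU := hover (X₂ ⊔ X) (hTX.trans le_sup_right) (sup_le hNX₂ hY.le_normalizer)
    exact (hX₂.2 _ hU le_sup_left).symm.trans (hXmax _ hU le_sup_right)
  · show yOf p M = yOf p (M ⊔ Subgroup.centralizer (yOf p M : Set G))
    rw [hXC, hYM]
  · show IsPClosed p ↥(M ⊓ Subgroup.centralizer (yOf p M : Set G))
    rw [isPClosed_iff_pCl, hYM]
    have hS : IsSyl p ((T : Subgroup G) ⊓ (M ⊓ C)) (M ⊓ C) := (hTsyl hTM).inf_normal inf_le_left
      (le_normalizer_inf Subgroup.le_normalizer (hMY.trans (normalizer_le_normalizer_centralizer Y)))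
    have he : (T : Subgroup G) ⊓ (M ⊓ C) = TC := by
      rw [← inf_assoc, inf_eq_left.2 hTM]
    exact pCl_of_syl hS (he.symm ▸ inf_le_left.trans (hMN.trans inf_le_right))
  · show ((M ⊓ Subgroup.centralizer (yOf p M : Set G)).subgroupOf M).map _ ≤ _
    rw [hYM]
    have hMnC := le_normalizer_inf (Subgroup.le_normalizer : M ≤ _)
      (hMY.trans (normalizer_le_normalizer_centralizer Y))
    have hS : IsSyl p ((T : Subgroup G) ⊓ (M ⊓ C)) (M ⊓ C) :=
      (hTsyl hTM).inf_normal inf_le_left hMnC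
    have he : (T : Subgroup G) ⊓ (M ⊓ C) = TC := by
      rw [← inf_assoc, inf_eq_left.2 hTM]
    refine map_le_frattini_of_minimal (hTsyl hTM) inf_le_left hMnC hS ?_ fun K hTK hKM hK => ?_
    · rw [he]
      exact LocalEven62.le_pCoreOf (T.isPGroup'.to_le inf_le_left) (inf_le_left.trans hTM)
        (hMN.trans inf_le_right)
    · refine hMmin ⟨hTK, hKM.trans hMN, le_antisymm (sup_le (hKM.trans hMX) hCX) ?_⟩ hKM
      rw [← hMC]
      exact sup_le (hK.ge.trans (sup_le_sup_left inf_le_right _)) le_sup_right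

end Cfsg.Agent.LocalEven62
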