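import Cfsg.Agent.LocalEven62.PReduced
import Cfsg.Agent.LocalEven62.Avg

/-!
Kieler's lemma.
-/

set_option autoImplicit false

namespace Cfsg.Agent.LocalEven62

open Subgroup
open scoped commutatorElement

variable {G : Type*} [Group G] [Finite G] {p : ℕ} [Fact p.Prime]

theorem isMulCommutative_omZ (T : Subgroup G) : IsMulCommutative (omZ p T) := (elAb_omZ T).1

theorem isPGroup_omZ (T : Subgroup G) : IsPGroup p (omZ p T) :=
  isPGroup_of_isElementaryAbelian (elAb_omZ T)

theorem mem_centralizer_omZ_of_mem {T : Subgroup G} {x : G} (hx : x ∈ T) :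
    x ∈ centralizer ((omZ p T : Subgroup G) : Set G) :=
  le_centralizer_iff.1 (omZ_le_centralizer T) hx

/-- `Ω₁(Z(T))` lies in `Ω₁(Z(O_p(M)))` when `M` has characteristic `p`. -/
theorem omZ_le_omZ_pCoreOf {T M : Subgroup G} (hM : CharP p M) (hT : IsSyl p T M) :
    omZ p T ≤ omZ p (pCoreOf p M) := fun a ha => by
  have hO : pCoreOf p M ≤ T :=
    hT.normal_le (isPGroup_pCoreOf M) (LocalEven62.pCoreOf_le M) (le_normalizer_pCoreOf M)
  have hc : a ∈ centralizer ((pCoreOf p M : Subgroup G) : Set G) :=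
    centralizer_le hO (omZ_le_centralizer T ha)
  exact mem_omZ.2 ⟨hM ⟨hT.le (omZ_le T ha), hc⟩, hc, (mem_omZ.1 ha).2.2⟩

/-- Kieler's lemma for a normal subgroup. -/
theorem kieler_normal {T L M : Subgroup G} (hM : CharP p M) (hT : IsSyl p T M) (hLM : L ≤ M)
    (hML : M ≤ normalizer (L : Set G)) :
    L ⊓ centralizer ((omZ p T : Subgroup G) : Set G) =
      L ⊓ centralizer ((omZ p (T ⊓ L) : Subgroup G) : Set G) := by
  have hTL : IsSyl p (T ⊓ L) L := hT.inf_normal hLM hML
  have hTn : T ≤ normalizer ((T ⊓ L : Subgroup G) : Set G) :=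
    le_normalizer_inf Subgroup.le_normalizer (hT.le.trans hML)
  set A : Subgroup G := omZ p T
  set B : Subgroup G := omZ p (T ⊓ L)
  have hTB : T ≤ normalizer (B : Set G) := hTn.trans (normalizer_le_normalizer_omZ _)
  refine le_antisymm (le_inf inf_le_left fun x hx => ?_) (le_inf inf_le_left fun x hx => ?_)
  · -- `C_L(A) ≤ C(B)`
    set K : Subgroup G := L ⊓ centralizer (A : Set G)
    have hTK : T ⊓ L ≤ K := le_inf inf_le_right fun t ht => mem_centralizer_omZ_of_mem ht.1
    have hSyl : IsSyl p (T ⊓ L) K := hTL.of_le hTK inf_le_left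
    have hL := hM.of_normal hLM hML
    set Z : Subgroup G := omZ p (pCoreOf p L)
    have hMZ : M ≤ normalizer (Z : Set G) :=
      (hML.trans (normalizer_le_normalizer_pCoreOf L)).trans (normalizer_le_normalizer_omZ _)
    have hKZ : K ≤ normalizer (Z : Set G) := (inf_le_left.trans hLM).trans hMZ
    have hTK' : T ≤ normalizer (K : Set G) := le_normalizer_inf (hT.le.trans hML) fun t ht =>
      Subgroup.le_normalizer (mem_centralizer_omZ_of_mem ht)
    have hBZ : B ≤ Z ⊓ centralizer ((T ⊓ L : Subgroup G) : Set G) := fun b hb =>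
      Subgroup.mem_inf.2 ⟨omZ_le_omZ_pCoreOf hL hTL hb, omZ_le_centralizer _ hb⟩
    have hOT : pCoreOf p L ≤ T ⊓ L :=
      hTL.normal_le (isPGroup_pCoreOf L) (LocalEven62.pCoreOf_le L) (le_normalizer_pCoreOf L)
    obtain ⟨φ, hφ, hmul, hD, hequ⟩ := exists_avg (S := T ⊓ L) (isMulCommutative_omZ _) hKZ
    -- the kernel of `φ` on `B` is trivial
    let B0 : Subgroup G :=
      { carrier := {b | b ∈ B ∧ φ b = 1}
        one_mem' := ⟨one_mem _, by
          have h1 := hmul 1 (hBZ B.one_mem) 1 (hBZ B.one_mem)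
          rw [mul_one] at h1
          exact mul_eq_left.1 h1.symm⟩
        mul_mem' := fun {a b} ⟨ha, ha'⟩ ⟨hb, hb'⟩ =>
          ⟨mul_mem ha hb, by rw [hmul a (hBZ ha) b (hBZ hb), ha', hb', mul_one]⟩
        inv_mem' := fun {a} ⟨ha, ha'⟩ => ⟨inv_mem ha, by
          have h1 := hmul a (hBZ ha) a⁻¹ (hBZ (inv_mem ha))
          rw [mul_inv_cancel, ha', one_mul] at h1
          have h2 := hmul 1 (hBZ B.one_mem) 1 (hBZ B.one_mem)
          rw [mul_one] at h2
          rw [← h1]
          exact mul_eq_left.1 h2.symm⟩ }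
    have hB0 : B0 = ⊥ := by
      by_contra hne
      have hTB0 : T ≤ normalizer (B0 : Set G) := le_normalizer_of_conj_mem fun t ht b hb =>
        ⟨conj_mem_of_mem_normalizer (hTB ht) hb.1, by
          rw [hequ t (hTK' ht) (hTn ht) (hMZ (hT.le ht)) b (hBZ hb.1), hb.2, mul_one,
            mul_inv_cancel]⟩
      obtain ⟨a, haB0, ha1, hap, haT⟩ := exists_fixed hT.isPGroup
        ((isPGroup_omZ (T ⊓ L)).to_le (fun b (hb : b ∈ B0) => hb.1)) hTB0 hne
      have haA : a ∈ A := mem_omZ.2 ⟨(omZ_le _ haB0.1).1,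
        mem_centralizer_iff_commute.2 fun y hy => (haT y hy).symm, hap⟩
      have h1 := hD ⊥ a (hBZ haB0.1) fun k hk => by
        rw [Subgroup.mem_bot, commutatorElement_eq_one_iff_mul_comm]
        exact (mem_centralizer_iff_commute.1 hk.2 a haA).eq
      rw [Subgroup.mem_bot, haB0.2, mul_one, inv_eq_one] at h1
      exact ha1 (Subgroup.mem_bot.1 (mem_of_pow_mem (M := ⊥) ⟨1, by rw [pow_one]; exact hap⟩
        hSyl.not_dvd (Subgroup.mem_bot.2 h1)))
    -- so `φ` embeds `B` into its fixed points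
    have himg : ∀ b ∈ B, φ b ∈ B ⊓ centralizer (K : Set G) := fun b hb => by
      have h1 := hφ b (hBZ hb)
      refine Subgroup.mem_inf.2 ⟨mem_omZ.2 ⟨hOT (omZ_le _ h1.1), ?_, (mem_omZ.1 h1.1).2.2⟩, h1.2⟩
      exact centralizer_le hTK h1.2
    have hcard : Nat.card B ≤ Nat.card (B ⊓ centralizer (K : Set G) : Subgroup G) := by
      refine Nat.card_le_card_of_injective (fun b : ↥B => (⟨φ b, himg b b.2⟩ :
        (B ⊓ centralizer (K : Set G) : Subgroup G))) fun a b hab => ?_
      have hab' : φ (a : G) = φ (b : G) := congrArg Subtype.val hab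
      have h1 := hmul ((a : G) * (b : G)⁻¹) (hBZ (B.mul_mem a.2 (B.inv_mem b.2))) b (hBZ b.2)
      rw [inv_mul_cancel_right, hab'] at h1
      have h2 : (a : G) * (b : G)⁻¹ ∈ B0 :=
        ⟨B.mul_mem a.2 (B.inv_mem b.2), mul_eq_right.1 h1.symm⟩
      rw [hB0, Subgroup.mem_bot, mul_inv_eq_one] at h2
      exact Subtype.ext h2
    have hle := eq_of_le_of_card_ge inf_le_left hcard
    exact le_centralizer_iff.1 (hle.symm.le.trans inf_le_right) hx
  · -- `C_L(B) ≤ C(A)`
    set K : Subgroup G := L ⊓ centralizer (B : Set G)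
    have hTK : T ⊓ L ≤ K := le_inf inf_le_right fun t ht => mem_centralizer_omZ_of_mem ht
    have hSyl : IsSyl p (T ⊓ L) K := hTL.of_le hTK inf_le_left
    set Z : Subgroup G := omZ p (pCoreOf p M)
    have hMZ : M ≤ normalizer (Z : Set G) :=
      (le_normalizer_pCoreOf M).trans (normalizer_le_normalizer_omZ _)
    have hKZ : K ≤ normalizer (Z : Set G) := (inf_le_left.trans hLM).trans hMZ
    have hTK' : T ≤ normalizer (K : Set G) :=
      le_normalizer_inf (hT.le.trans hML) (hTB.trans (normalizer_le_normalizer_centralizer B))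
    have hOT : pCoreOf p M ≤ T :=
      hT.normal_le (isPGroup_pCoreOf M) (LocalEven62.pCoreOf_le M) (le_normalizer_pCoreOf M)
    obtain ⟨φ, hφ, -, hD, hequ⟩ := exists_avg (S := T ⊓ L) (isMulCommutative_omZ _) hKZ
    refine mem_centralizer_iff_commute.2 fun a ha => ?_
    have haZ : a ∈ Z ⊓ centralizer ((T ⊓ L : Subgroup G) : Set G) := Subgroup.mem_inf.2
      ⟨omZ_le_omZ_pCoreOf hM hT ha, centralizer_le (fun t ht => ht.1) (omZ_le_centralizer T ha)⟩
    have hd := hD (Z ⊓ L) a haZ fun k hk => Subgroup.mem_inf.2 ⟨by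
        rw [commutatorElement_def]
        exact Z.mul_mem (conj_mem_of_mem_normalizer (hKZ hk) haZ.1) (Z.inv_mem haZ.1),
      by
        rw [commutatorElement_def, mul_assoc, mul_assoc, ← mul_assoc a]
        exact L.mul_mem hk.1
          (conj_mem_of_mem_normalizer (hML (hT.le (omZ_le T ha))) (L.inv_mem hk.1))⟩
    have hfix : φ a ∈ centralizer (T : Set G) := mem_centralizer_iff_commute.2 fun t ht => by
      have h1 := hequ t (hTK' ht) (hTn ht) (hMZ (hT.le ht)) a haZ
      rw [(mem_centralizer_iff_commute.1 (omZ_le_centralizer T ha) t ht).symm.eq,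
        mul_inv_cancel_right] at h1
      exact ((eq_mul_inv_iff_mul_eq.1 h1) : φ a * t = t * φ a)
    have hdT : (a ^ (T ⊓ L).relIndex K)⁻¹ * φ a ∈ centralizer (T : Set G) :=
      (centralizer (T : Set G)).mul_mem
        ((centralizer (T : Set G)).inv_mem (pow_mem (omZ_le_centralizer T ha) _)) hfix
    have hdB : (a ^ (T ⊓ L).relIndex K)⁻¹ * φ a ∈ B :=
      mem_omZ.2 ⟨⟨hOT (omZ_le _ hd.1), hd.2⟩, centralizer_le (fun t ht => ht.1) hdT,
        (mem_omZ.1 hd.1).2.2⟩
    have hpow : a ^ (T ⊓ L).relIndex K ∈ centralizer (K : Set G) := by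
      have h1 : (a ^ (T ⊓ L).relIndex K)⁻¹ * φ a ∈ centralizer (K : Set G) :=
        le_centralizer_iff.1 inf_le_right hdB
      have h2 := (centralizer (K : Set G)).mul_mem (hφ a haZ).2
        ((centralizer (K : Set G)).inv_mem h1)
      rwa [mul_inv_rev, inv_inv, mul_inv_cancel_left] at h2
    exact (mem_centralizer_iff_commute.1 (mem_of_pow_mem ⟨1, by
      rw [pow_one]; exact (mem_omZ.1 ha).2.2⟩ hSyl.not_dvd hpow) x hx).symm

/-- Kieler's lemma. -/
theorem kieler_subnormal (hG : CharP p (⊤ : Subgroup G)) (T : Sylow p G) {L : Subgroup G}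
    (hL : L.IsSubnormal) :
    L ⊓ centralizer ((omZ p (T : Subgroup G) : Subgroup G) : Set G) =
      L ⊓ centralizer ((omZ p ((T : Subgroup G) ⊓ L) : Subgroup G) : Set G) := by
  induction hL with
  | top => rw [inf_top_eq]
  | step H K hle hK hN ih =>
    have h := kieler_normal (hG.of_isSubnormal hK) (IsSyl.inf_subnormal T hK) hle
      (le_normalizer_of_conj_mem fun k hk x hx => hN.conj_mem ⟨x, hle hx⟩ hx ⟨k, hk⟩)
    rw [inf_assoc, inf_eq_right.2 hle] at h
    rw [← h, ← inf_eq_left.2 hle, inf_assoc, ih, ← inf_assoc]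

end Cfsg.Agent.LocalEven62
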