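import Cfsg.Agent.LocalEven62.Kieler

/-!
Kieler's lemma for groups of local characteristic `p`.
-/

set_option autoImplicit false

namespace Cfsg.Agent.LocalEven62

open Subgroup

variable {G : Type*} [Group G] [Finite G] {p : ℕ} [Fact p.Prime]

/-- All `p`-locals of the subgroup `M` have characteristic `p`. -/
def LocCharP (p : ℕ) (M : Subgroup G) : Prop :=
  ∀ P : Subgroup G, IsPGroup p P → P ≠ ⊥ → P ≤ M → CharP p (M ⊓ normalizer (P : Set G))

theorem locCharP_top (h : IsOfLocalCharacteristic p G) : LocCharP p (⊤ : Subgroup G) :=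
  fun P hP hP1 _ => by
    rw [top_inf_eq, charP_iff]
    exact h.2 P hP hP1

theorem LocCharP.of_normal {L M : Subgroup G} (hM : LocCharP p M) (hLM : L ≤ M)
    (hML : M ≤ normalizer (L : Set G)) : LocCharP p L := fun P hP hP1 hPL =>
  (hM P hP hP1 (hPL.trans hLM)).of_normal (inf_le_inf_right _ hLM)
    (le_normalizer_inf (inf_le_left.trans hML) (inf_le_right.trans Subgroup.le_normalizer))

theorem omZ_ne_bot {T : Subgroup G} (hT : IsPGroup p T) (h : T ≠ ⊥) : omZ p T ≠ ⊥ := by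
  obtain ⟨r, hr, hr1, hrp, hrT⟩ := exists_fixed hT hT Subgroup.le_normalizer h
  exact fun hbot => hr1 (Subgroup.mem_bot.1 (hbot ▸ mem_omZ.2
    ⟨hr, mem_centralizer_iff_commute.2 fun y hy => (hrT y hy).symm, hrp⟩))

theorem kieler_local_normal {T L M : Subgroup G} (hM : LocCharP p M) (hT : IsSyl p T M)
    (hLM : L ≤ M) (hML : M ≤ normalizer (L : Set G)) (hne : T ⊓ L ≠ ⊥) :
    L ⊓ centralizer ((omZ p T : Subgroup G) : Set G) =
      L ⊓ centralizer ((omZ p (T ⊓ L) : Subgroup G) : Set G) := by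
  have hTL : IsSyl p (T ⊓ L) L := hT.inf_normal hLM hML
  have hTn : T ≤ normalizer ((T ⊓ L : Subgroup G) : Set G) :=
    le_normalizer_inf Subgroup.le_normalizer (hT.le.trans hML)
  have hT1 : T ≠ ⊥ := fun h => hne (le_bot_iff.1 (inf_le_left.trans h.le))
  have key : ∀ X : Subgroup G, IsPGroup p X → X ≠ ⊥ → X ≤ M → T ≤ normalizer (X : Set G) →
      ∀ x, x ∈ L ⊓ centralizer (X : Set G) →
        (x ∈ centralizer ((omZ p T : Subgroup G) : Set G) ↔
          x ∈ centralizer ((omZ p (T ⊓ L) : Subgroup G) : Set G)) := by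
    intro X hXp hX1 hXM hTX x hx
    set M1 : Subgroup G := M ⊓ normalizer (X : Set G)
    have hTM1 : T ≤ M1 := le_inf hT.le hTX
    have h := kieler_normal (hM X hXp hX1 hXM) (hT.of_le hTM1 inf_le_left)
      (inf_le_right : L ⊓ M1 ≤ M1) (le_normalizer_inf (inf_le_left.trans hML) Subgroup.le_normalizer)
    have he : T ⊓ (L ⊓ M1) = T ⊓ L := le_antisymm (inf_le_inf_left _ inf_le_left)
      (le_inf inf_le_left (le_inf inf_le_right (inf_le_left.trans hTM1)))
    rw [he] at h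
    have hxM1 : x ∈ L ⊓ M1 := Subgroup.mem_inf.2 ⟨hx.1, Subgroup.mem_inf.2 ⟨hLM hx.1, ?_⟩⟩
    · exact ⟨fun h' => (h.le ⟨hxM1, h'⟩).2, fun h' => (h.ge ⟨hxM1, h'⟩).2⟩
    · refine mem_normalizer_of_conj_mem fun a ha => ?_
      rw [(mem_centralizer_iff_commute.1 hx.2 a ha).eq, mul_inv_cancel_right]
      exact ha
  refine le_antisymm (fun x hx => ⟨hx.1, ?_⟩) (fun x hx => ⟨hx.1, ?_⟩)
  · exact (key _ (isPGroup_omZ _) (omZ_ne_bot hTL.isPGroup hne) ((omZ_le _).trans (hTL.le.trans hLM))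
      (hTn.trans (normalizer_le_normalizer_omZ _)) x hx).2 hx.2
  · exact (key _ (isPGroup_omZ T) (omZ_ne_bot hT.isPGroup hT1) ((omZ_le T).trans hT.le)
      (Subgroup.le_normalizer.trans (normalizer_le_normalizer_omZ T)) x hx).1 hx.2

theorem kieler_local (hG : IsOfLocalCharacteristic p G) (T : Sylow p G) {L : Subgroup G}
    (hL : L.IsSubnormal) (hne : (T : Subgroup G) ⊓ L ≠ ⊥) :
    L ⊓ centralizer ((omZ p (T : Subgroup G) : Subgroup G) : Set G) =
      L ⊓ centralizer ((omZ p ((T : Subgroup G) ⊓ L) : Subgroup G) : Set G) := by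
  suffices h : ∀ L : Subgroup G, L.IsSubnormal → LocCharP p L ∧ ((T : Subgroup G) ⊓ L ≠ ⊥ →
      L ⊓ centralizer ((omZ p (T : Subgroup G) : Subgroup G) : Set G) =
        L ⊓ centralizer ((omZ p ((T : Subgroup G) ⊓ L) : Subgroup G) : Set G)) from (h L hL).2 hne
  intro L hL
  induction hL with
  | top => exact ⟨locCharP_top hG, fun _ => by rw [inf_top_eq]⟩
  | step H K hle hK hN ih =>
    have hn : K ≤ normalizer (H : Set G) :=
      le_normalizer_of_conj_mem fun k hk x hx => hN.conj_mem ⟨x, hle hx⟩ hx ⟨k, hk⟩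
    refine ⟨ih.1.of_normal hle hn, fun hH => ?_⟩
    have h := kieler_local_normal ih.1 (IsSyl.inf_subnormal T hK) hle hn
      (by rwa [inf_assoc, inf_eq_right.2 hle])
    rw [inf_assoc, inf_eq_right.2 hle] at h
    rw [← h, ← inf_eq_left.2 hle, inf_assoc,
      ih.2 (fun hbot => hH (le_bot_iff.1 ((inf_le_inf_left _ hle).trans hbot.le))), ← inf_assoc]

end Cfsg.Agent.LocalEven62
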