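import Cfsg.Agent.LocalEven62.Action

/-!
`p`-reduced normal subgroups and `Y_L`, in subgroup language.
-/

set_option autoImplicit false

namespace Cfsg.Agent.LocalEven62

open Subgroup
open scoped commutatorElement

variable {G : Type*} [Group G] [Finite G] {p : ℕ} [Fact p.Prime]

/-- Elements of order prime to `p` of a group with `p`-group quotient. -/
theorem mem_of_pow_prime_pow_mem {C : Subgroup G} {x : G} (hx : Nat.Coprime (orderOf x) p) {k : ℕ}
    (h : x ^ p ^ k ∈ C) : x ∈ C := by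
  obtain ⟨m, hm⟩ := exists_pow_eq_self_of_coprime (n := p ^ k) (x := x) (hx.pow_right k).symm
  rw [← hm]
  exact pow_mem h m

theorem exists_pow_mem_of_coprime_mem {C N : Subgroup G} (hC : N ≤ normalizer (C : Set G))
    (h : ∀ x ∈ N, Nat.Coprime (orderOf x) p → x ∈ C) {x : G} (hx : x ∈ N) :
    ∃ k : ℕ, x ^ p ^ k ∈ C := by
  haveI : (C.subgroupOf N).Normal := normal_subgroupOf_of_le_normalizer hC
  have hle : pResidual p ↥N ≤ C.subgroupOf N := Transfer.pResidual_le_iff.2 fun g hg =>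
    h g.1 g.2 (by rwa [orderOf_coe])
  obtain ⟨k, hk⟩ := Transfer.isPGroup_quotient_of_pResidual_le hle (QuotientGroup.mk ⟨x, hx⟩)
  rw [← QuotientGroup.mk_pow, QuotientGroup.eq_one_iff] at hk
  exact ⟨k, hk⟩

theorem isPGroup_of_isElementaryAbelian {V : Subgroup G} (hV : IsElementaryAbelian p V) :
    IsPGroup p V := fun v => ⟨1, Subtype.ext (by simpa using hV.2 v.1 v.2)⟩

theorem elAb_commute {V : Subgroup G} (hV : IsElementaryAbelian p V) {a b : G} (ha : a ∈ V)
    (hb : b ∈ V) : Commute a b :=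
  congrArg Subtype.val (hV.1.is_comm.comm (⟨a, ha⟩ : ↥V) ⟨b, hb⟩)

/-- The elements of exponent `p` of a commutative subgroup. -/
def expSub (p : ℕ) (A : Subgroup G) (hA : ∀ a ∈ A, ∀ b ∈ A, Commute a b) : Subgroup G where
  carrier := {y | y ∈ A ∧ y ^ p = 1}
  one_mem' := ⟨one_mem _, one_pow p⟩
  inv_mem' := fun {a} ⟨ha, ha'⟩ => ⟨inv_mem ha, by rw [inv_pow, ha', inv_one]⟩
  mul_mem' := fun {a b} ⟨ha, ha'⟩ ⟨hb, hb'⟩ => ⟨mul_mem ha hb, by
    rw [(hA a ha b hb).mul_pow, ha', hb', one_mul]⟩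

theorem elAb_of_le_expSub {A W : Subgroup G} (hA : ∀ a ∈ A, ∀ b ∈ A, Commute a b)
    (h : W ≤ expSub p A hA) : IsElementaryAbelian p W :=
  ⟨⟨⟨fun a b => Subtype.ext (hA a.1 (h a.2).1 b.1 (h b.2).1)⟩⟩, fun a ha => (h ha).2⟩

/-- `V` is a `p`-reduced normal subgroup of `L`, in subgroup language. -/
structure PRed (p : ℕ) (V L : Subgroup G) : Prop where
  le : V ≤ L
  le_normalizer : L ≤ normalizer (V : Set G)
  elAb : IsElementaryAbelian p V
  red : ∀ N : Subgroup G, N ≤ L → L ≤ normalizer (N : Set G) →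
    (∀ x ∈ N, Nat.Coprime (orderOf x) p → x ∈ centralizer (V : Set G)) →
      N ≤ centralizer (V : Set G)

theorem isPReducedNormal_iff {V : Subgroup G} :
    IsPReducedNormal p V ↔ PRed p V ⊤ := by
  constructor
  · rintro ⟨hn, hel, hC, hcore⟩
    refine ⟨le_top, le_normalizer_top V, hel, fun N _ hN hNC => ?_⟩
    haveI := normal_of_le_normalizer hN
    have hp : IsPGroup p (N.map (QuotientGroup.mk' (centralizer (V : Set G)))) := by
      rintro ⟨-, x, hx, rfl⟩
      obtain ⟨k, hk⟩ := exists_pow_mem_of_coprime_mem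
        (le_normalizer_top (centralizer (V : Set G))) hNC hx
      exact ⟨k, Subtype.ext (by
        simpa using (QuotientGroup.eq_one_iff (N := centralizer (V : Set G)) _).2 hk)⟩
    have hle := Thompson.le_pCore
      (Subgroup.Normal.map inferInstance _ (QuotientGroup.mk'_surjective _)) hp
    rw [hcore, le_bot_iff, Subgroup.map_eq_bot_iff, QuotientGroup.ker_mk'] at hle
    exact hle
  · rintro ⟨-, hn, hel, hred⟩
    haveI := normal_of_le_normalizer hn
    haveI hC : (centralizer (V : Set G)).Normal :=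
      normal_of_le_normalizer (hn.trans (normalizer_le_normalizer_centralizer V))
    refine ⟨inferInstance, hel, hC, ?_⟩
    set N := (pCore p (G ⧸ centralizer (V : Set G))).comap (QuotientGroup.mk' (centralizer (V : Set G)))
    have h := hred N le_top (le_normalizer_top N) fun x hx hxp =>
      (QuotientGroup.eq_one_iff (N := centralizer (V : Set G)) x).1
        (Transfer.eq_one_of_coprime_of_mem Thompson.isPGroup_pCore hx
          (coprime_orderOf_map (QuotientGroup.mk' (centralizer (V : Set G))) hxp))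
    rw [eq_bot_iff]
    intro z hz
    obtain ⟨x, rfl⟩ := QuotientGroup.mk'_surjective _ z
    exact Subgroup.mem_bot.2 ((QuotientGroup.eq_one_iff x).2 (h hz))

theorem pRed_subgroupOf_iff {V L : Subgroup G} (hVL : V ≤ L) :
    IsPReducedNormal p (V.subgroupOf L) ↔ PRed p V L := by
  rw [isPReducedNormal_iff]
  have hc : ∀ x : ↥L, x ∈ centralizer ((V.subgroupOf L : Subgroup ↥L) : Set ↥L) ↔
      (x : G) ∈ centralizer (V : Set G) := by
    intro x
    rw [mem_centralizer_iff_commute, mem_centralizer_iff_commute]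
    exact ⟨fun h v hv => congrArg Subtype.val (h ⟨v, hVL hv⟩ hv),
      fun h v hv => Subtype.ext (h v.1 hv)⟩
  constructor
  · rintro ⟨-, hn, hel, hred⟩
    haveI := normal_of_le_normalizer hn
    refine ⟨hVL, le_normalizer_of_conj_mem fun k hk x hx =>
      Normal.conj_mem (H := V.subgroupOf L) inferInstance ⟨x, hVL hx⟩ hx ⟨k, hk⟩,
      ⟨⟨⟨fun a b => Subtype.ext (show (a : G) * b = b * a from
        congrArg Subtype.val
        (elAb_commute hel (a := (⟨a.1, hVL a.2⟩ : ↥L)) (b := ⟨b.1, hVL b.2⟩) a.2 b.2).eq)⟩⟩,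
        fun a ha => congrArg Subtype.val (hel.2 ⟨a, hVL ha⟩ ha)⟩, fun N hNL hLN hNC => ?_⟩
    haveI := normal_subgroupOf_of_le_normalizer hLN
    have h := hred (N.subgroupOf L) le_top (le_normalizer_top _) fun x hx hxp =>
      (hc x).2 (hNC x hx (by rwa [orderOf_coe]))
    exact fun x hx => (hc ⟨x, hNL hx⟩).1 (h hx)
  · rintro ⟨-, hn, hel, hred⟩
    haveI := normal_subgroupOf_of_le_normalizer hn
    refine ⟨le_top, le_normalizer_top _,
      ⟨⟨⟨fun a b => Subtype.ext (Subtype.ext (elAb_commute hel a.2 b.2).eq)⟩⟩,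
        fun a ha => Subtype.ext (hel.2 a.1 ha)⟩, fun N _ hLN hNC => ?_⟩
    haveI := normal_of_le_normalizer hLN
    have h := hred (N.map L.subtype) (map_subtype_le N)
      (le_normalizer_of_conj_mem fun k hk x hx => by
        obtain ⟨y, hy, rfl⟩ := hx
        exact ⟨⟨k, hk⟩ * y * ⟨k, hk⟩⁻¹, Normal.conj_mem inferInstance y hy _, rfl⟩)
      fun x hx hxp => by
        obtain ⟨y, hy, rfl⟩ := hx
        exact (hc y).1 (hNC y hy ((coprime_orderOf_mk y.2).2 hxp))
    exact fun x hx => (hc x).2 (h ⟨x, hx, rfl⟩)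

theorem PRed.isPGroup {V L : Subgroup G} (h : PRed p V L) : IsPGroup p V :=
  isPGroup_of_isElementaryAbelian h.elAb

theorem PRed.le_pCoreOf {V L : Subgroup G} (h : PRed p V L) : V ≤ pCoreOf p L :=
  LocalEven62.le_pCoreOf h.isPGroup h.le h.le_normalizer

theorem PRed.pCoreOf_le_centralizer {V L : Subgroup G} (h : PRed p V L) :
    pCoreOf p L ≤ centralizer (V : Set G) :=
  h.red _ (pCoreOf_le L) (le_normalizer_pCoreOf L) fun x hx hxp => by
    rw [Transfer.eq_one_of_coprime_of_mem (isPGroup_pCoreOf L) hx hxp]; exact one_mem _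

theorem PRed.commute_of_mem {V L : Subgroup G} (h : PRed p V L) {a v : G} (ha : a ∈ pCoreOf p L)
    (hv : v ∈ V) : Commute a v :=
  mem_centralizer_iff_commute.1 (h.pCoreOf_le_centralizer ha) v hv

theorem pRed_bot (L : Subgroup G) : PRed p (⊥ : Subgroup G) L :=
  ⟨bot_le, le_normalizer_top _, ⟨⟨⟨fun a b => Subsingleton.elim _ _⟩⟩,
    fun a ha => by rw [Subgroup.mem_bot.1 ha, one_pow]⟩, fun _ _ _ _ x _ =>
      mem_centralizer_iff_commute.2 fun v hv => by
        rw [Subgroup.mem_bot.1 hv]; exact Commute.one_right x⟩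

theorem pRed_sSup {L : Subgroup G} {S : Set (Subgroup G)} (hS : ∀ V ∈ S, PRed p V L) :
    PRed p (sSup S) L := by
  have hle : sSup S ≤ pCoreOf p L := sSup_le fun V hV => (hS V hV).le_pCoreOf
  have hA : ∀ a ∈ sSup S, ∀ b ∈ sSup S, Commute a b := fun a ha b hb =>
    (mem_centralizer_iff_commute.1 ((sSup_le fun V hV => le_centralizer_iff.1
      ((hS V hV).pCoreOf_le_centralizer.trans' (le_refl _))) hb) a (hle ha)).symm
  refine ⟨hle.trans (LocalEven62.pCoreOf_le L), fun l hl => mem_normalizer_of_map_le ?_,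
    elAb_of_le_expSub hA (sSup_le fun V hV v hv => ⟨le_sSup hV hv, (hS V hV).elAb.2 v hv⟩), ?_⟩
  · rw [map_le_iff_le_comap]
    refine sSup_le fun V hV => ?_
    rw [← map_le_iff_le_comap, mem_normalizer_iff_map.1 ((hS V hV).le_normalizer hl)]
    exact le_sSup hV
  · intro N hNL hLN hNC
    rw [le_centralizer_iff]
    exact sSup_le fun V hV => le_centralizer_iff.1 ((hS V hV).red N hNL hLN fun x hx hxp =>
      centralizer_le (fun v hv => le_sSup hV hv) (hNC x hx hxp))

/-- `Y_L` is the largest `p`-reduced normal subgroup of `L`. -/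
theorem largestPReducedOf_spec (L : Subgroup G) :
    PRed p (largestPReducedOf p L) L ∧ ∀ V, PRed p V L → V ≤ largestPReducedOf p L := by
  have heq : largestPReducedOf p L = sSup {V | PRed p V L} := by
    refine le_antisymm ?_ (sSup_le fun V hV => ?_)
    · rw [largestPReducedOf, map_le_iff_le_comap, largestPReduced]
      refine sSup_le fun W hW => ?_
      rw [← map_le_iff_le_comap]
      refine le_sSup ?_
      show PRed p (W.map L.subtype) L
      rw [← pRed_subgroupOf_iff (map_subtype_le W), subgroupOf,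
        comap_map_eq_self_of_injective L.subtype_injective]
      exact hW
    · calc V = (V.subgroupOf L).map L.subtype := by
            rw [subgroupOf_map_subtype, inf_eq_left.2 hV.le]
        _ ≤ _ := map_mono (le_sSup (show V.subgroupOf L ∈ {W | IsPReducedNormal p W} from
            (pRed_subgroupOf_iff hV.le).2 hV))
  rw [heq]
  exact ⟨pRed_sSup fun V hV => hV, fun V hV => le_sSup hV⟩

theorem largestPReduced_eq : largestPReduced p G = largestPReducedOf p (⊤ : Subgroup G) := by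
  refine le_antisymm (sSup_le fun V hV =>
    (largestPReducedOf_spec ⊤).2 V (isPReducedNormal_iff.1 hV)) ?_
  exact le_sSup (isPReducedNormal_iff.2 (largestPReducedOf_spec ⊤).1)

/-! ### `Ω₁(Z(T))` -/

/-- `Ω₁(Z(T))`. -/
abbrev omZ (p : ℕ) (T : Subgroup G) : Subgroup G :=
  omegaOne p (T ⊓ centralizer (T : Set G))

theorem omZ_eq (T : Subgroup G) :
    omZ p T = expSub p (T ⊓ centralizer (T : Set G))
      (fun _ ha b hb => mem_centralizer_iff_commute.1 ha.2 b hb.1) :=
  le_antisymm ((closure_le _).2 fun _ hy => hy) fun _ hy => subset_closure hy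

theorem mem_omZ {T : Subgroup G} {x : G} :
    x ∈ omZ p T ↔ x ∈ T ∧ x ∈ centralizer (T : Set G) ∧ x ^ p = 1 := by
  rw [omZ_eq]
  exact ⟨fun h => ⟨h.1.1, h.1.2, h.2⟩, fun h => ⟨⟨h.1, h.2.1⟩, h.2.2⟩⟩

theorem omZ_le (T : Subgroup G) : omZ p T ≤ T := fun _ hx => (mem_omZ.1 hx).1

theorem omZ_le_centralizer (T : Subgroup G) : omZ p T ≤ centralizer (T : Set G) :=
  fun _ hx => (mem_omZ.1 hx).2.1

theorem elAb_omZ (T : Subgroup G) : IsElementaryAbelian p (omZ p T) :=
  elAb_of_le_expSub _ (omZ_eq T).le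

theorem normalizer_le_normalizer_omZ (T : Subgroup G) :
    normalizer (T : Set G) ≤ normalizer ((omZ p T : Subgroup G) : Set G) := fun g hg =>
  mem_normalizer_of_conj_mem fun x hx => by
    obtain ⟨h1, h2, h3⟩ := mem_omZ.1 hx
    exact mem_omZ.2 ⟨conj_mem_of_mem_normalizer hg h1,
      conj_mem_of_mem_normalizer (normalizer_le_normalizer_centralizer T hg) h2,
      by rw [conj_pow, h3, mul_one, mul_inv_cancel]⟩

theorem pRed_omZ {T : Subgroup G} (hT : IsPGroup p T) : PRed p (omZ p T) T :=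
  ⟨omZ_le T, Subgroup.le_normalizer.trans (normalizer_le_normalizer_omZ T), elAb_omZ T,
    fun _ hN _ _ => hN.trans (le_centralizer_iff.1 (omZ_le_centralizer T))⟩

/-! ### Closures and transfer -/

/-- The closure in `L` of a `p`-reduced normal subgroup of an overgroup `R` of a Sylow subgroup. -/
theorem pRed_closure {T R L V : Subgroup G} (hL : CharP p L) (hT : IsSyl p T L) (hTR : T ≤ R)
    (hRL : R ≤ L) (hV : PRed p V R) :
    PRed p (⨆ g : ↥L, V.map (MulAut.conj (g : G)).toMonoidHom) L := by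
  set O : Subgroup G := pCoreOf p L
  have hOT : O ≤ T :=
    hT.normal_le (isPGroup_pCoreOf L) (pCoreOf_le L) (le_normalizer_pCoreOf L)
  have hOR : O ≤ pCoreOf p R := le_pCoreOf (isPGroup_pCoreOf L) (hOT.trans hTR)
    (hRL.trans (le_normalizer_pCoreOf L))
  have hVO : V ≤ O ⊓ centralizer (O : Set G) := by
    have h1 : V ≤ centralizer (O : Set G) :=
      le_centralizer_iff.1 (hOR.trans hV.pCoreOf_le_centralizer)
    exact fun v hv => Subgroup.mem_inf.2 ⟨hL ⟨hRL (hV.le hv), h1 hv⟩, h1 hv⟩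
  set U : Subgroup G := O ⊓ centralizer (O : Set G)
  have hA : ∀ a ∈ U, ∀ b ∈ U, Commute a b := fun a ha b hb =>
    mem_centralizer_iff_commute.1 ha.2 b hb.1
  have hLU : L ≤ normalizer (U : Set G) := le_normalizer_inf (le_normalizer_pCoreOf L)
    ((le_normalizer_pCoreOf L).trans (normalizer_le_normalizer_centralizer O))
  have hW : (⨆ g : ↥L, V.map (MulAut.conj (g : G)).toMonoidHom) ≤ expSub p U hA :=
    iSup_le fun g => by
      rintro y ⟨v, hv, rfl⟩
      exact ⟨conj_mem_of_mem_normalizer (hLU g.2) (hVO hv), by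
        rw [← map_pow, hV.elAb.2 v hv, map_one]⟩
  refine ⟨fun x hx => pCoreOf_le L (hW hx).1.1, fun l hl => mem_normalizer_of_map_le ?_,
    elAb_of_le_expSub hA hW, fun N hNL hLN hNC => ?_⟩
  · rw [Subgroup.map_iSup, iSup_le_iff]
    intro g
    rw [map_conj_mul]
    exact le_iSup (fun g : ↥L => V.map (MulAut.conj (g : G)).toMonoidHom) ⟨l * g, mul_mem hl g.2⟩
  · have hNV : N ≤ centralizer (V : Set G) := by
      have h := (hT.inf_normal hNL hLN).sup_resOf
      rw [← h]
      refine sup_le ?_ (resOf_le_iff.2 fun x hx hxp => ?_)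
      · refine le_trans (le_inf (inf_le_left.trans hTR) inf_le_right)
          (hV.red (R ⊓ N) inf_le_left (le_normalizer_inf Subgroup.le_normalizer (hRL.trans hLN))
            fun x hx hxp => ?_)
        exact centralizer_le (fun v hv => le_iSup (fun g : ↥L =>
          V.map (MulAut.conj (g : G)).toMonoidHom) 1 ⟨v, hv, by simp⟩) (hNC x hx.2 hxp)
      · exact centralizer_le (fun v hv => le_iSup (fun g : ↥L =>
          V.map (MulAut.conj (g : G)).toMonoidHom) 1 ⟨v, hv, by simp⟩) (hNC x hx hxp)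
    rw [le_centralizer_iff]
    refine iSup_le fun g => ?_
    rintro y ⟨v, hv, rfl⟩
    refine mem_centralizer_iff_commute.2 fun n hn => ?_
    have h1 : (g : G)⁻¹ * n * g ∈ N := by
      simpa using conj_mem_of_mem_normalizer (inv_mem (hLN g.2)) hn
    have h2 := (mem_centralizer_iff_commute.1 (hNV h1) v hv).eq
    show (g : G) * v * (g : G)⁻¹ * n = n * ((g : G) * v * (g : G)⁻¹)
    calc (g : G) * v * (g : G)⁻¹ * n = g * (v * ((g : G)⁻¹ * n * g)) * (g : G)⁻¹ := by group
      _ = g * (((g : G)⁻¹ * n * g) * v) * (g : G)⁻¹ := by rw [h2]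
      _ = _ := by group

/-- Elements of order prime to `p` in `N ⊔ C` when those of `N` lie in `C`. -/
theorem coprime_mem_of_mem_sup {N C : Subgroup G} (hNnC : N ≤ normalizer (C : Set G))
    (hNC : ∀ x ∈ N, Nat.Coprime (orderOf x) p → x ∈ C) {x : G} (hx : x ∈ N ⊔ C)
    (hxp : Nat.Coprime (orderOf x) p) : x ∈ C := by
  rw [← SetLike.mem_coe, coe_mul_of_left_le_normalizer_right N C hNnC] at hx
  obtain ⟨n, hn, c, hc, rfl⟩ := hx
  obtain ⟨k, hk⟩ := exists_pow_mem_of_coprime_mem hNnC hNC hn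
  refine mem_of_pow_prime_pow_mem hxp (k := k) ?_
  have hj : ∀ j : ℕ, (n ^ j)⁻¹ * (n * c) ^ j ∈ C := by
    intro j
    induction j with
    | zero => simp [C.one_mem]
    | succ j ih =>
      have : (n ^ (j + 1))⁻¹ * (n * c) ^ (j + 1)
          = (n⁻¹ * ((n ^ j)⁻¹ * (n * c) ^ j) * n⁻¹⁻¹) * c := by
        rw [pow_succ n, pow_succ]; group
      rw [this]
      exact C.mul_mem (conj_mem_of_mem_normalizer (inv_mem (hNnC hn)) ih) hc
  simpa using C.mul_mem hk (hj (p ^ k))

/-- Transfer of a `p`-reduced subgroup along `L · C(V) = M · C(V)`. -/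
theorem PRed.transfer {V L M : Subgroup G} (hV : PRed p V M) (hVL : V ≤ L)
    (hLV : L ≤ normalizer (V : Set G))
    (h : L ⊔ centralizer (V : Set G) = M ⊔ centralizer (V : Set G)) : PRed p V L := by
  set C : Subgroup G := centralizer (V : Set G)
  refine ⟨hVL, hLV, hV.elAb, fun N hNL hLN hNC => ?_⟩
  have hNnC : N ≤ normalizer (C : Set G) :=
    hNL.trans (hLV.trans (normalizer_le_normalizer_centralizer V))
  have hLC : L ≤ normalizer ((N ⊔ C : Subgroup G) : Set G) :=
    le_normalizer_sup hLN (hLV.trans (normalizer_le_normalizer_centralizer V))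
  have hMN : M ≤ normalizer ((N ⊔ C : Subgroup G) : Set G) :=
    (le_sup_left.trans h.symm.le).trans
      (sup_le hLC ((le_sup_right : C ≤ N ⊔ C).trans Subgroup.le_normalizer))
  have h' : M ⊓ (N ⊔ C) ≤ C := hV.red _ inf_le_left
    (le_normalizer_inf Subgroup.le_normalizer hMN) fun x hx hxp =>
      coprime_mem_of_mem_sup hNnC hNC (Subgroup.mem_inf.1 hx).2 hxp
  intro n hn
  have h1 : n ∈ C ⊔ M := by
    rw [sup_comm, ← h]
    exact (le_sup_left : L ≤ L ⊔ C) (hNL hn)
  rw [← SetLike.mem_coe, coe_mul_of_right_le_normalizer_left C M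
    (hV.le_normalizer.trans (normalizer_le_normalizer_centralizer V))] at h1
  obtain ⟨c, hc, m, hm, rfl⟩ := h1
  refine C.mul_mem hc (h' (Subgroup.mem_inf.2 ⟨hm, ?_⟩))
  simpa using (N ⊔ C).mul_mem ((le_sup_right : C ≤ N ⊔ C) (C.inv_mem hc))
    ((le_sup_left : N ≤ N ⊔ C) hn)

end Cfsg.Agent.LocalEven62
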