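import Cfsg.Agent.LocalEven62.Action

/-!
Subnormal subgroups: subgroups of `p`-groups, intersections.
-/

set_option autoImplicit false

namespace Cfsg.Agent.LocalEven62

open Subgroup

variable {G : Type*} [Group G] [Finite G] {p : ℕ} [Fact p.Prime]

theorem isSubnormal_of_isPGroup_aux (hG : IsPGroup p G) :
    ∀ (n : ℕ) (H : Subgroup G), H.index = n → H.IsSubnormal := by
  intro n
  induction n using Nat.strong_induction_on with
  | _ n ih =>
    intro H hn
    by_cases hH : H = ⊤
    · subst hH; exact IsSubnormal.top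
    have hlt := PGroup.lt_normalizer hG hH
    refine IsSubnormal.step H _ hlt.le (ih _ ?_ _ rfl)
      (normal_subgroupOf_of_le_normalizer le_rfl)
    rw [← hn]
    exact index_strictAnti hlt

theorem isSubnormal_of_isPGroup (hG : IsPGroup p G) (H : Subgroup G) : H.IsSubnormal :=
  isSubnormal_of_isPGroup_aux hG _ H rfl

theorem isSubnormal_of_pResidual_le {H : Subgroup G} (h : pResidual p G ≤ H) : H.IsSubnormal := by
  have h1 := (isSubnormal_of_isPGroup Transfer.isPGroup_quotient_pResidual
    (H.map (QuotientGroup.mk' (pResidual p G)))).comap (QuotientGroup.mk' (pResidual p G))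
  rwa [comap_map_eq_self (by rwa [QuotientGroup.ker_mk'])] at h1

theorem subnormalClosure_mem (A : Subgroup G) :
    A ≤ subnormalClosure A ∧ (subnormalClosure A).IsSubnormal ∧
      ∀ K : Subgroup G, A ≤ K → K.IsSubnormal → subnormalClosure A ≤ K := by
  have hle : ∀ K : Subgroup G, A ≤ K → K.IsSubnormal → subnormalClosure A ≤ K :=
    fun K h1 h2 => sInf_le ⟨h1, h2⟩
  obtain ⟨K, hK, hmin⟩ := (Set.toFinite {K : Subgroup G | A ≤ K ∧ K.IsSubnormal}).exists_minimal
    ⟨⊤, le_top, IsSubnormal.top⟩
  have he : subnormalClosure A = K := by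
    refine le_antisymm (hle K hK.1 hK.2) (le_sInf fun L hL => ?_)
    exact (hmin (show A ≤ K ⊓ L ∧ (K ⊓ L).IsSubnormal from ⟨le_inf hK.1 hL.1, hK.2.inf hL.2⟩)
      inf_le_left).trans inf_le_right
  exact ⟨he ▸ hK.1, he ▸ hK.2, hle⟩

end Cfsg.Agent.LocalEven62
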