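import Cfsg.Agent.LocalEven62.Basic
import Cfsg.Agent.Lib.PGroup.Basic
import Cfsg.Agent.Lib.Transfer.Tate
import Cfsg.Agent.S1952
import Mathlib.GroupTheory.Transfer

/-!
Yoshida's transfer argument: a nontrivial contribution to a transfer forces a `Z_p ≀ Z_p` quotient.
-/

set_option autoImplicit false

namespace Cfsg.Agent.LocalEven62

open Subgroup MulAction
open scoped commutatorElement

section Ext

variable {T : Type*} [Group T] {A : Type*} [CommGroup A]

open Classical in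
/-- A homomorphism on a subgroup, extended by `1`. -/
noncomputable def extOne {Q : Subgroup T} (θ : Q →* A) (a : T) : A :=
  if h : a ∈ Q then θ ⟨a, h⟩ else 1

theorem extOne_of_mem {Q : Subgroup T} (θ : Q →* A) {a : T} (h : a ∈ Q) :
    extOne θ a = θ ⟨a, h⟩ := dif_pos h

theorem mem_of_extOne_ne_one {Q : Subgroup T} {θ : Q →* A} {a : T} (h : extOne θ a ≠ 1) : a ∈ Q := by
  by_contra hn
  exact h (dif_neg hn)

theorem extOne_conj {Q : Subgroup T} (θ : Q →* A) {a h : T} (hh : h ∈ Q) :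
    extOne θ (h⁻¹ * a * h) = extOne θ a := by
  by_cases ha : a ∈ Q
  · rw [extOne_of_mem θ ha, extOne_of_mem θ (Q.mul_mem (Q.mul_mem (Q.inv_mem hh) ha) hh),
      show (⟨h⁻¹ * a * h, _⟩ : ↥Q) = ⟨h, hh⟩⁻¹ * ⟨a, ha⟩ * ⟨h, hh⟩ from Subtype.ext rfl,
      map_mul, map_mul, map_inv, mul_comm _ (θ ⟨a, ha⟩), inv_mul_cancel_right]
  · have hb : h⁻¹ * a * h ∉ Q := fun hb => ha (by
      simpa [mul_assoc] using Q.mul_mem (Q.mul_mem hh hb) (Q.inv_mem hh))
    rw [extOne, dif_neg hb, extOne, dif_neg ha]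

theorem extOne_rep {Q : Subgroup T} (θ : Q →* A) (z : T) {g g' : T}
    (h : (g : T ⧸ Q) = g') : extOne θ (g⁻¹ * z * g) = extOne θ (g'⁻¹ * z * g') := by
  have h1 : g⁻¹ * g' ∈ Q := QuotientGroup.eq.1 h
  rw [← extOne_conj θ h1 (a := g⁻¹ * z * g)]
  congr 1
  group

/-- The transfer of `θ` at `z` only sees the fixed cosets of `z` if higher powers contribute trivially. -/
theorem transfer_eq_prod_extOne {p : ℕ} [Fact p.Prime] [Finite T] {Q : Subgroup T} [Fintype (T ⧸ Q)]
    (θ : Q →* A) (z : T) (hz : ∃ n, z ^ p ^ n = 1)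
    (hyp : ∀ (a : T) (j : ℕ), 1 ≤ j → extOne θ (a⁻¹ * z ^ p ^ j * a) = 1) :
    MonoidHom.transfer θ z = ∏ q : T ⧸ Q, extOne θ (q.out⁻¹ * z * q.out) := by
  classical
  letI : Fintype (Quotient (orbitRel (zpowers z) (T ⧸ Q))) := Fintype.ofFinite _
  rw [MonoidHom.transfer_eq_prod_quotient_orbitRel_zpowers_quot,
    ← Finset.prod_fiberwise Finset.univ (Quotient.mk'' : T ⧸ Q → Quotient (orbitRel (zpowers z) (T ⧸ Q)))]
  refine Finset.prod_congr rfl fun ω _ => ?_
  have hfib : ∀ q : T ⧸ Q, Quotient.mk'' q = ω → z • q = q → ω.out = q := by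
    intro q hq hzq
    obtain ⟨e, he⟩ := Quotient.exact' ((Quotient.out_eq' ω).trans hq.symm)
    rw [← he]
    show (e : T) • q = q
    exact (zpowers_le.2 (mem_stabilizer_iff.2 hzq) : zpowers z ≤ stabilizer T q) e.2
  have hfix : ∀ q : T ⧸ Q, extOne θ (q.out⁻¹ * z * q.out) ≠ 1 → z • q = q := by
    intro q hne
    have h1 := mem_of_extOne_ne_one hne
    conv_rhs => rw [← QuotientGroup.out_eq' q]
    conv_lhs => rw [← QuotientGroup.out_eq' q]
    refine QuotientGroup.eq.2 ?_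
    simpa [mul_assoc] using Q.inv_mem h1
  by_cases hk : Function.minimalPeriod (z • ·) ω.out = 1
  · have hzω : z • ω.out = ω.out := Function.minimalPeriod_eq_one_iff_isFixedPt.1 hk
    rw [Finset.prod_eq_single ω.out]
    · have h1 : ω.out.out⁻¹ * z * ω.out.out ∈ Q := by
        have h := QuotientGroup.out_conj_pow_minimalPeriod_mem Q z ω.out
        rwa [hk, pow_one] at h
      rw [extOne_of_mem θ h1]
      congr 1
      exact Subtype.ext (by simp [hk])
    · intro q hq hne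
      by_contra h
      exact hne (hfib q (Finset.mem_filter.1 hq).2 (hfix q h)).symm
    · intro h
      exact absurd (Finset.mem_filter.2 ⟨Finset.mem_univ ω.out, Quotient.out_eq' ω⟩) h
  · rw [Finset.prod_eq_one]
    · obtain ⟨n, hn⟩ := hz
      obtain ⟨j, -, hj⟩ := (Nat.dvd_prime_pow Fact.out).1
        (pow_smul_eq_iff_minimalPeriod_dvd.1 (show z ^ p ^ n • ω.out = ω.out by rw [hn, one_smul]))
      have hj1 : 1 ≤ j := by
        rcases j with _ | j
        · exact absurd (hj.trans (pow_zero p)) hk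
        · omega
      rw [← hyp ω.out.out j hj1, extOne_of_mem θ (by
        have h := QuotientGroup.out_conj_pow_minimalPeriod_mem Q z ω.out
        rwa [hj] at h)]
      congr 1
      exact Subtype.ext (by simp [hj])
    · intro q hq
      by_contra h
      have hzq := hfix q h
      rw [hfib q (Finset.mem_filter.1 hq).2 hzq] at hk
      exact hk (Function.minimalPeriod_eq_one_iff_isFixedPt.2 hzq)

/-- Yoshida: a nontrivial contribution from a proper subgroup of a `p`-group gives `Z_p ≀ Z_p`. -/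
theorem wreath_of_extOne {p : ℕ} [Fact p.Prime] [Finite T] (hT : IsPGroup p T) {Q : Subgroup T}
    [Fintype (T ⧸ Q)] (hQ : Q ≠ ⊤) (θ : Q →* A) (hA : ∀ a : A, a ^ p = 1) (x : T)
    (hyp : ∀ (a : T) (j : ℕ), 1 ≤ j → extOne θ (a⁻¹ * x ^ p ^ j * a) = 1)
    (hne : ∏ q : T ⧸ Q, extOne θ (q.out⁻¹ * x * q.out) ≠ 1) :
    ∃ (P : Sylow p (Equiv.Perm (Fin (p ^ 2))))
      (f : T →* ↥(P : Subgroup (Equiv.Perm (Fin (p ^ 2))))), Function.Surjective f := by
  classical
  have hp : p.Prime := Fact.out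
  obtain ⟨R, hQR, hRn, hidx⟩ := PGroup.exists_le_index_eq_prime hT hQ
  haveI := hRn
  set θ' : Q.subgroupOf R →* A := θ.comp (subgroupOfEquivOfLe hQR).toMonoidHom
  have hθ' : ∀ w : ↥R, extOne θ' w = extOne θ (w : T) := fun w => by
    by_cases h : (w : T) ∈ Q
    · rw [extOne_of_mem θ h, extOne_of_mem θ' (mem_subgroupOf.2 h)]
      rfl
    · rw [extOne, dif_neg (fun h' => h (mem_subgroupOf.1 h')), extOne, dif_neg h]
  letI : Fintype (↥R ⧸ Q.subgroupOf R) := Fintype.ofFinite _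
  letI : Fintype (T ⧸ R) := Fintype.ofFinite _
  obtain ⟨χ, hχdef⟩ : ∃ χ : ↥R →* A, χ = MonoidHom.transfer θ' := ⟨_, rfl⟩
  -- `x` lies in `R`
  have hxR : x ∈ R := by
    obtain ⟨q, -, hq⟩ := Finset.exists_ne_one_of_prod_ne_one hne
    have := hRn.conj_mem _ (hQR (mem_of_extOne_ne_one hq)) q.out
    simpa [mul_assoc] using this
  have hxa : ∀ a : T, a⁻¹ * x * a ∈ R := fun a => by simpa using hRn.conj_mem x hxR a⁻¹
  have hχ : ∀ a : T, χ ⟨a⁻¹ * x * a, hxa a⟩ = ∏ b : ↥R ⧸ Q.subgroupOf R,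
      extOne θ ((a * (b.out : T))⁻¹ * x * (a * (b.out : T))) := by
    intro a
    obtain ⟨n, hn⟩ := hT (a⁻¹ * x * a)
    rw [hχdef, transfer_eq_prod_extOne (p := p) θ' _ ⟨n, Subtype.ext (by simpa using hn)⟩ (fun b j hj => by
      rw [hθ', ← hyp (a * (b : T)) j hj]
      congr 1
      have hc : (a⁻¹ * x * a) ^ p ^ j = a⁻¹ * x ^ p ^ j * a := by
        simpa using (conj_pow (i := p ^ j) (a := a⁻¹) (b := x))
      simp only [Subgroup.coe_mul, Subgroup.coe_inv, Subgroup.coe_pow, hc]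
      group)]
    refine Finset.prod_congr rfl fun b _ => ?_
    rw [hθ']
    congr 1
    simp only [Subgroup.coe_mul, Subgroup.coe_inv]
    group
  -- coset representatives `y ^ i`
  obtain ⟨y, hy⟩ : ∃ y, y ∉ R := by
    by_contra hno
    simp only [not_exists, not_not] at hno
    rw [(eq_top_iff' R).2 hno, index_top] at hidx
    exact hp.one_lt.ne hidx
  have hord : orderOf (QuotientGroup.mk' R y) = p := orderOf_eq_prime (by
      rw [← map_pow]
      refine (QuotientGroup.eq_one_iff _).2 ?_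
      have := Subgroup.pow_index_mem R y
      rwa [hidx] at this)
    (fun h => hy ((QuotientGroup.eq_one_iff y).1 h))
  have hbij : Function.Bijective fun i : Fin p => ((y ^ (i : ℕ) : T) : T ⧸ R) := by
    rw [Fintype.bijective_iff_injective_and_card]
    refine ⟨fun i j h => Fin.ext (pow_injOn_Iio_orderOf (x := QuotientGroup.mk' R y)
      (by rw [hord]; exact i.2) (by rw [hord]; exact j.2) ?_), ?_⟩
    · show QuotientGroup.mk' R y ^ (i : ℕ) = QuotientGroup.mk' R y ^ (j : ℕ)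
      rw [← map_pow, ← map_pow]
      exact h
    · rw [Fintype.card_fin, ← Nat.card_eq_fintype_card, ← Subgroup.index_eq_card, hidx]
  set e := Equiv.ofBijective _ hbij
  have hprod : ∏ i : Fin p, χ ⟨(y ^ (i : ℕ))⁻¹ * x * y ^ (i : ℕ), hxa _⟩ ≠ 1 := by
    set f : T ⧸ R → T := fun c => y ^ ((e.symm c : Fin p) : ℕ)
    have hf : Function.RightInverse f QuotientGroup.mk := fun c => e.apply_symm_apply c
    refine fun h => hne ?_
    rw [← Equiv.prod_comp (quotientEquivProdOfLE' hQR f hf).symm, Fintype.prod_prod_type,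
      ← Equiv.prod_comp e, ← h]
    refine Finset.prod_congr rfl fun i _ => ?_
    rw [hχ]
    refine Finset.prod_congr rfl fun b _ => ?_
    refine extOne_rep θ x ?_
    rw [QuotientGroup.out_eq']
    conv_lhs => rw [← QuotientGroup.out_eq' b]
    show ((f (e i) * (b.out : T) : T) : T ⧸ Q) = _
    simp only [f, e.symm_apply_apply]
  -- the kernel
  let K : Subgroup T :=
    { carrier := {r | r ∈ R ∧ ∀ t : T, extOne (Q := R) χ (t⁻¹ * r * t) = 1}
      one_mem' := ⟨R.one_mem, fun t => by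
        rw [extOne_of_mem χ (by simpa using R.one_mem)]
        convert χ.map_one
        simp⟩
      mul_mem' := fun {a b} ⟨ha, ha'⟩ ⟨hb, hb'⟩ => ⟨R.mul_mem ha hb, fun t => by
        have hat : t⁻¹ * a * t ∈ R := by simpa using hRn.conj_mem a ha t⁻¹
        have hbt : t⁻¹ * b * t ∈ R := by simpa using hRn.conj_mem b hb t⁻¹
        have hab : t⁻¹ * (a * b) * t = (t⁻¹ * a * t) * (t⁻¹ * b * t) := by group
        rw [hab, extOne_of_mem χ (R.mul_mem hat hbt)]
        have h1 := ha' t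
        have h2 := hb' t
        rw [extOne_of_mem χ hat] at h1
        rw [extOne_of_mem χ hbt] at h2
        exact (map_mul χ ⟨_, hat⟩ ⟨_, hbt⟩).trans (by rw [h1, h2, mul_one])⟩
      inv_mem' := fun {a} ⟨ha, ha'⟩ => ⟨R.inv_mem ha, fun t => by
        have hat : t⁻¹ * a * t ∈ R := by simpa using hRn.conj_mem a ha t⁻¹
        have hab : t⁻¹ * a⁻¹ * t = (t⁻¹ * a * t)⁻¹ := by group
        rw [hab, extOne_of_mem χ (R.inv_mem hat)]
        have h1 := ha' t
        rw [extOne_of_mem χ hat] at h1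
        exact (map_inv χ ⟨_, hat⟩).trans (by rw [h1, inv_one])⟩ }
  haveI hKn : K.Normal := ⟨fun r hr g => ⟨hRn.conj_mem r hr.1 g, fun t => by
    rw [← hr.2 (g⁻¹ * t)]
    congr 1
    group⟩⟩
  have hmemK : ∀ r : ↥R, (∀ t : T, χ ⟨t⁻¹ * (r : T) * t, by simpa using hRn.conj_mem _ r.2 t⁻¹⟩ = 1) →
      (r : T) ∈ K := fun r h => ⟨r.2, fun t => by
    rw [extOne_of_mem χ (by simpa using hRn.conj_mem _ r.2 t⁻¹)]; exact h t⟩
  set π := QuotientGroup.mk' K
  have hKR : K ≤ R := fun r hr => hr.1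
  haveI : (R.map π).Normal := hRn.map π (QuotientGroup.mk'_surjective K)
  have hel : Cfsg.IsElementaryAbelian p (R.map π) := by
    refine ⟨⟨⟨fun a b => Subtype.ext ?_⟩⟩, ?_⟩
    · obtain ⟨_, r, hr, rfl⟩ := a
      obtain ⟨_, s, hs, rfl⟩ := b
      refine commutatorElement_eq_one_iff_mul_comm.1 ?_
      rw [← map_commutatorElement]
      refine (QuotientGroup.eq_one_iff _).2 (hmemK ⟨⁅r, s⁆, R.mul_mem (R.mul_mem (R.mul_mem hr hs)
        (R.inv_mem hr)) (R.inv_mem hs)⟩ fun t => ?_)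
      have hrt : t⁻¹ * r * t ∈ R := by simpa using hRn.conj_mem r hr t⁻¹
      have hst : t⁻¹ * s * t ∈ R := by simpa using hRn.conj_mem s hs t⁻¹
      refine (congrArg χ (show _ = ⁅(⟨_, hrt⟩ : ↥R), ⟨_, hst⟩⁆ from Subtype.ext ?_)).trans ?_
      · show t⁻¹ * (r * s * r⁻¹ * s⁻¹) * t =
          t⁻¹ * r * t * (t⁻¹ * s * t) * (t⁻¹ * r * t)⁻¹ * (t⁻¹ * s * t)⁻¹
        group
      · rw [map_commutatorElement, commutatorElement_eq_one_iff_mul_comm]
        exact mul_comm _ _
    · rintro _ ⟨r, hr, rfl⟩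
      rw [← map_pow]
      refine (QuotientGroup.eq_one_iff _).2 (hmemK ⟨r ^ p, R.pow_mem hr p⟩ fun t => ?_)
      have hrt : t⁻¹ * r * t ∈ R := by simpa using hRn.conj_mem r hr t⁻¹
      refine (congrArg χ (show _ = (⟨_, hrt⟩ : ↥R) ^ p from Subtype.ext ?_)).trans ?_
      · show t⁻¹ * r ^ p * t = (t⁻¹ * r * t) ^ p
        simpa using (conj_pow (i := p) (a := t⁻¹) (b := r)).symm
      · rw [map_pow]; exact hA _
  have hyR : π y ∉ R.map π := fun h => hy (by
    rwa [← mem_comap, comap_map_eq_self (by rwa [QuotientGroup.ker_mk'])] at h)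
  obtain ⟨P, f, hf⟩ := S1952.result (hT.to_quotient K) (R.map π) hel
    ((Subgroup.index_map_eq (f := π) (H := R) (QuotientGroup.mk'_surjective K)
      (by rwa [QuotientGroup.ker_mk'])).trans hidx)
    (π x) (π y) ⟨x, hxR, rfl⟩ hyR (by
      intro h
      set l : List ↥R := (List.range p).map (fun i => (⟨(y ^ i)⁻¹ * x * y ^ i, hxa _⟩ : ↥R))
      have h1 : π (l.prod : T) = 1 := by
        rw [← h, Subgroup.val_list_prod, map_list_prod, List.map_map, List.map_map]
        congr 1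
      have h2 := ((QuotientGroup.eq_one_iff _).1 h1).2 1
      rw [extOne_of_mem χ (by rw [inv_one, one_mul, mul_one]; exact l.prod.2)] at h2
      apply hprod
      have h3 : χ l.prod = 1 := by
        rw [← h2]; congr 1; exact Subtype.ext (by simp)
      rw [map_list_prod, List.map_map] at h3
      rw [Fin.prod_univ_eq_prod_range (fun i => χ ⟨(y ^ i)⁻¹ * x * y ^ i, hxa _⟩) p]
      exact h3)
  exact ⟨P, f.comp π, hf.comp (QuotientGroup.mk'_surjective K)⟩

end Ext

end Cfsg.Agent.LocalEven62
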