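import Cfsg.Agent.LocalEven62.Yoshida
import Cfsg.Agent.FusTransfer.Twisted
import Cfsg.Agent.Lib.Fusion.Saturation
import Cfsg.Agent.Lib.Fusion.Closed

/-!
Yoshida's transfer theorem for saturated fusion systems.
-/

set_option autoImplicit false
set_option linter.style.haveILetI false

namespace Cfsg.Agent.LocalEven62.YoshidaFusion

open Cfsg Cfsg.Agent.Fusion Cfsg.Agent.Fus93 Cfsg.Agent.FusTransfer
open scoped commutatorElement IsMulCommutative

universe u v

variable {Ω : Type u} [Group Ω] {S : Subgroup Ω} {F : FusionSystem S} {p : ℕ}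

/-- `ψ` is invariant under the automorphisms of `S` in the system. -/
def IsTopInvariant (F : FusionSystem S) {A : Type v} [CommGroup A] (ψ : S →* A) : Prop :=
  ∀ (f : Ω → Ω) (hf : IsMap F S f) (s : S), ψ ⟨f s, hf.apply_mem s.2⟩ = ψ s

/-- A nontrivial invariant homomorphism on the focal subgroup gives a `Z_p ≀ Z_p` quotient. -/
theorem wreath_of_invariant [Finite S] [hp : Fact p.Prime] (hS : IsPGroup p S) (hF : F.IsSaturated p)
    {A : Type v} [CommGroup A] (hA : ∀ a : A, a ^ p = 1) (ψ : S →* A) (hψ : IsTopInvariant F ψ)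
    {x₀ : S} (hx₀ : (x₀ : Ω) ∈ F.focalSubgroup) (hne : ψ x₀ ≠ 1) :
    ∃ (W : Sylow p (Equiv.Perm (Fin (p ^ 2))))
      (f : S →* ↥(W : Subgroup (Equiv.Perm (Fin (p ^ 2))))), Function.Surjective f := by
  classical
  obtain ⟨X, _, _, hst, hsta, m, hXm, hm⟩ := exists_biset (F := F) p hS hF
  letI rsX : Setoid X := rightSetoid S X
  have hfree : ∀ (t : S) (x : X), ((1, t) : S × S) • x = x → t = 1 := fun t x h => by
    obtain ⟨P, f, hg⟩ := hst x
    exact congrArg Prod.snd (hg.eq_one_of_left (MulAction.mem_stabilizer_iff.2 h) rfl)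
  obtain ⟨crd, hcrd, hcrd'⟩ := exists_crd hfree
  let Y := Quotient rsX
  letI : Fintype Y := Fintype.ofFinite _
  have hcardY : Nat.card Y = m := by
    have h1 : Nat.card X = Nat.card Y * Nat.card S := by
      rw [← Nat.card_prod]
      exact Nat.card_congr
        { toFun := fun x => (Quotient.mk rsX x, crd x)
          invFun := fun q => ((1, q.2) : S × S) • q.1.out
          left_inv := fun x => hcrd x
          right_inv := fun q => Prod.ext (hcrd' q.2 q.1).2 (hcrd' q.2 q.1).1 }
    rw [hXm, mul_comm] at h1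
    exact (Nat.eq_of_mul_eq_mul_right Nat.card_pos h1).symm
  letI actY : MulAction (rightComm S X) Y :=
    { smul := fun g o => Quotient.map (g : Equiv.Perm X) (fun a b h => by
        obtain ⟨t, rfl⟩ := h
        exact ⟨t, (g.2 t a).symm⟩) o
      one_smul := fun o => Quotient.inductionOn o fun _ => rfl
      mul_smul := fun g g' o => Quotient.inductionOn o fun _ => rfl }
  have hsmul : ∀ (g : rightComm S X) (o : Y), g • o = Quotient.mk rsX ((g : Equiv.Perm X) o.out) :=
    fun g o => by
      conv_lhs => rw [← Quotient.out_eq o]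
      rfl
  -- the cocycle
  set c : rightComm S X → Y → A := fun g o => ψ (crd ((g : Equiv.Perm X) o.out))
  have hc : ∀ g g' o, c (g * g') o = c g' o * c g (g' • o) := by
    intro g g' o
    have h : (g : Equiv.Perm X) ((g' : Equiv.Perm X) o.out) =
        ((1, crd ((g' : Equiv.Perm X) o.out) * crd ((g : Equiv.Perm X) (g' • o).out)) : S × S) •
          (g • g' • o).out := by
      conv_lhs => rw [← hcrd ((g' : Equiv.Perm X) o.out), g.2, ← hsmul g' o,
        ← hcrd ((g : Equiv.Perm X) (g' • o).out), ← hsmul g (g' • o), smul_smul]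
      simp
    show ψ _ = ψ _ * ψ _
    rw [← map_mul]
    congr 1
    show crd ((g : Equiv.Perm X) ((g' : Equiv.Perm X) o.out)) = _
    rw [h]
    exact (hcrd' _ _).1
  let V : rightComm S X →* A := MonoidHom.mk' (fun g => ∏ o, c g o) fun g g' => by
    rw [Finset.prod_congr rfl fun o _ => hc g g' o, Finset.prod_mul_distrib, mul_comm]
    congr 1
    exact (MulAction.bijective g').prod_comp fun o => c g o
  set τ : S →* A := V.comp (leftRep S X)
  -- the transfer kills the focal subgroup
  have hτ : ∀ x : S, (x : Ω) ∈ F.focalSubgroup → τ x = 1 := by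
    have hle : F.focalSubgroup ≤ τ.ker.map S.subtype := by
      refine (Subgroup.closure_le _).2 ?_
      rintro y ⟨P, φ, x, hφ, rfl⟩
      have hf := isMap_extFun hφ
      obtain ⟨g, hg⟩ := exists_conj_leftRep hst hsta hf
      have h1 := congrArg V (hg x x.2)
      rw [map_mul, map_mul, mul_comm (V g)] at h1
      have hx : (extFun φ x) = φ x := extFun_of_mem φ x.2
      refine ⟨(⟨(x : Ω), hf.dom_le x.2⟩ : S)⁻¹ * ⟨extFun φ x, hf.apply_mem x.2⟩, ?_, by simp [hx]⟩
      rw [SetLike.mem_coe, MonoidHom.mem_ker, map_mul, map_inv, inv_mul_eq_one]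
      exact mul_right_cancel h1
    intro x hx
    obtain ⟨x', hx', he⟩ := hle hx
    rw [← S.subtype_injective he]
    exact hx'
  letI actS : MulAction S Y := MulAction.compHom Y (leftRep S X)
  set d : S → Y → A := fun a o => c (leftRep S X a) o
  have hd : ∀ a b o, d (a * b) o = d b o * d a (b • o) := fun a b o => by
    simp only [d, map_mul]
    exact hc _ _ o
  -- an element fixing a right orbit
  have hfix : ∀ (a : S) (o : Y), a • o = o → ∃ (P : Subgroup Ω) (f : Ω → Ω) (t : S),
      IsMap F P f ∧ (t : Ω) ∈ P ∧ f t = a ∧ d a o = ψ t⁻¹ ∧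
      MulAction.stabilizer (S × S) o.out ∈ graphs F ∧
      IsGraph F P f (MulAction.stabilizer (S × S) o.out) := by
    intro a o hao
    obtain ⟨P, f, hg⟩ := hst o.out
    have hmk : Quotient.mk rsX ((a, (1 : S)) • o.out) = o := (hsmul _ o).symm.trans hao
    have h1 := hcrd ((a, (1 : S)) • o.out)
    rw [hmk] at h1
    set t := crd ((a, (1 : S)) • o.out)
    have h2 : ((a, t⁻¹) : S × S) • o.out = o.out := by
      rw [show ((a, t⁻¹) : S × S) = ((1, t) : S × S)⁻¹ * (a, 1) by simp, mul_smul, ← h1,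
        inv_smul_smul]
    obtain ⟨h3, h4⟩ := (hg.2 _).1 (MulAction.mem_stabilizer_iff.2 h2)
    exact ⟨P, f, t⁻¹, hg.1, h3, h4, by rw [inv_inv]; rfl, hst o.out, hg⟩
  -- a minimal element
  obtain ⟨x, ⟨hxfoc, hxψ⟩, hxmin⟩ := Set.Finite.exists_minimalFor orderOf
    {x : S | (x : Ω) ∈ F.focalSubgroup ∧ ψ x ≠ 1} (Set.toFinite _) ⟨x₀, hx₀, hne⟩
  have hx1 : x ≠ 1 := fun h => hxψ (by rw [h, map_one])
  have hsmall : ∀ t : S, (t : Ω) ∈ F.focalSubgroup → orderOf t < orderOf x → ψ t = 1 := by
    intro t ht hlt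
    by_contra hne'
    exact absurd (hxmin ⟨ht, hne'⟩ hlt.le) (not_le.2 hlt)
  have hfocn : ∀ a ∈ S, ∀ y ∈ F.focalSubgroup, a * y * a⁻¹ ∈ F.focalSubgroup := by
    intro a ha y hy
    have h1 : ⁅a, y⁆ ∈ F.focalSubgroup :=
      commutator_le_focal (Subgroup.commutator_mem_commutator ha (focal_le hy))
    simpa [commutatorElement_def] using mul_mem h1 hy
  have horder : ∀ j : ℕ, 1 ≤ j → orderOf (x ^ p ^ j) < orderOf x := by
    intro j hj
    obtain ⟨k, hk⟩ := IsPGroup.iff_orderOf.1 hS x
    have hk1 : 1 ≤ k := by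
      rcases k with _ | k
      · exact absurd (orderOf_eq_one_iff.1 (by simpa using hk)) hx1
      · omega
    rw [orderOf_pow, hk]
    refine Nat.div_lt_self (pow_pos hp.out.pos k) ?_
    have h1 : p ∣ Nat.gcd (p ^ k) (p ^ j) :=
      Nat.dvd_gcd (dvd_pow_self p (by omega)) (dvd_pow_self p (by omega))
    exact lt_of_lt_of_le hp.out.one_lt (Nat.le_of_dvd (Nat.gcd_pos_of_pos_left _ (pow_pos hp.out.pos k)) h1)
  -- contributions of higher powers
  have hpow : ∀ (a : S) (j : ℕ) (o : Y), 1 ≤ j → (a⁻¹ * x ^ p ^ j * a) • o = o →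
      d (a⁻¹ * x ^ p ^ j * a) o = 1 := by
    intro a j o hj ho
    obtain ⟨P, f, t, hf, htP, hft, hd', -, -⟩ := hfix _ o ho
    have hin : ((a⁻¹ * x ^ p ^ j * a : S) : Ω) ∈ F.focalSubgroup := by
      have := hfocn (a : Ω)⁻¹ (S.inv_mem a.2) _ (pow_mem hxfoc (p ^ j))
      simpa using this
    have ht : (t : Ω) ∈ F.focalSubgroup := by
      have h1 : (t : Ω)⁻¹ * f t ∈ F.focalSubgroup := focal_gen_mem hf htP
      rw [hft] at h1
      have h2 := mul_mem hin (inv_mem h1)
      rwa [mul_inv_rev, inv_inv, mul_inv_cancel_left] at h2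
    have hord : orderOf t ≤ orderOf (a⁻¹ * x ^ p ^ j * a) := by
      refine Nat.le_of_dvd (orderOf_pos _) (orderOf_dvd_of_pow_eq_one (Subtype.ext ?_))
      refine hf.injOn (P.pow_mem htP _) P.one_mem ?_
      rw [Subgroup.coe_one, hf.map_one, hf.map_pow htP, hft, ← Subgroup.coe_pow, pow_orderOf_eq_one, Subgroup.coe_one]
    have horda : orderOf (a⁻¹ * x ^ p ^ j * a) = orderOf (x ^ p ^ j) := by
      have := (MulAut.conj a⁻¹).orderOf_eq (x ^ p ^ j)
      simpa [MulAut.conj_apply] using this
    rw [hd', map_inv, hsmall t ht (hord.trans_lt (horda ▸ horder j hj)), inv_one]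
  -- extend by one
  set E : Y → S → A := fun o a => if a • o = o then d a o else 1
  have hE : ∀ o a, a • o = o → E o a = d a o := fun o a h => if_pos h
  have hτx : τ x = ∏ o, E o x := by
    show ∏ o, d x o = _
    letI : Fintype (Quotient (MulAction.orbitRel (Subgroup.zpowers x) Y)) := Fintype.ofFinite _
    rw [← Finset.prod_fiberwise Finset.univ
      (Quotient.mk'' : Y → Quotient (MulAction.orbitRel (Subgroup.zpowers x) Y)) (fun o => d x o),
      ← Finset.prod_fiberwise Finset.univ
      (Quotient.mk'' : Y → Quotient (MulAction.orbitRel (Subgroup.zpowers x) Y)) (fun o => E o x)]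
    refine Finset.prod_congr rfl fun ω _ => ?_
    set o := ω.out
    by_cases ho : x • o = o
    · refine Finset.prod_congr rfl fun q hq => ?_
      obtain ⟨⟨e, he'⟩, he⟩ := Quotient.exact' ((Finset.mem_filter.1 hq).2.trans (Quotient.out_eq' ω).symm)
      have heq : e • o = o :=
        (Subgroup.zpowers_le.2 (MulAction.mem_stabilizer_iff.2 ho) : Subgroup.zpowers x ≤ _) he'
      have hqo : q = o := he.symm.trans heq
      rw [hqo, hE o x ho]
    · set n := Function.minimalPeriod (x • ·) o
      have hn : x ^ n • o = o := MulAction.pow_smul_eq_iff_minimalPeriod_dvd.2 dvd_rfl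
      obtain ⟨k, hk⟩ := hS x
      obtain ⟨j, -, hj⟩ := (Nat.dvd_prime_pow hp.out).1
        (MulAction.pow_smul_eq_iff_minimalPeriod_dvd.1 (show x ^ p ^ k • o = o by rw [hk, one_smul]))
      have hj1 : 1 ≤ j := by
        rcases j with _ | j
        · exact absurd (Function.minimalPeriod_eq_one_iff_isFixedPt.1 (hj.trans (pow_zero p))) ho
        · omega
      have hprod : ∀ i : ℕ, d (x ^ i) o = ∏ l ∈ Finset.range i, d x (x ^ l • o) := by
        intro i
        induction i with
        | zero =>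
          rw [pow_zero, Finset.prod_range_zero]
          have h1 := hd 1 1 o
          rw [one_smul, one_mul] at h1
          exact mul_eq_left.1 h1.symm
        | succ i ih => rw [pow_succ', hd, ih, Finset.prod_range_succ]
      have hR : ∏ q ∈ Finset.univ.filter (fun q => Quotient.mk'' q = ω), E q x = 1 := by
        refine Finset.prod_eq_one fun q hq => if_neg fun hxq => ho ?_
        obtain ⟨⟨e, he'⟩, he⟩ := Quotient.exact' ((Finset.mem_filter.1 hq).2.trans (Quotient.out_eq' ω).symm)
        have heq : e • q = q :=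
          (Subgroup.zpowers_le.2 (MulAction.mem_stabilizer_iff.2 hxq) : Subgroup.zpowers x ≤ _) he'
        have hqo : q = o := by
          have he2 : e • o = q := he
          exact (smul_left_cancel e (he2.trans heq.symm)).symm
        rw [hqo] at hxq
        exact hxq
      rw [hR]
      have hdn : d (x ^ n) o = 1 := by
        have := hpow 1 j o hj1 (by simpa [n, hj] using hn)
        simpa [n, hj] using this
      rw [← hdn, hprod]
      refine (Finset.prod_nbij (fun l => x ^ l • o) ?_ ?_ ?_ fun l _ => rfl).symm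
      · intro l _
        refine Finset.mem_filter.2 ⟨Finset.mem_univ _, ?_⟩
        rw [← Quotient.out_eq' ω]
        exact Quotient.sound' ⟨⟨x ^ l, Subgroup.pow_mem _ (Subgroup.mem_zpowers x) l⟩, rfl⟩
      · intro l hl l' hl' he
        have hl0 : ((x • ·)^[l]) o = ((x • ·)^[l']) o := by simpa [smul_iterate] using he
        exact Function.iterate_injOn_Iio_minimalPeriod (Finset.mem_range.1 hl) (Finset.mem_range.1 hl') hl0
      · intro q hq
        obtain ⟨⟨e, he'⟩, he⟩ := Quotient.exact' ((Finset.mem_filter.1 hq).2.trans (Quotient.out_eq' ω).symm)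
        obtain ⟨i, rfl⟩ := Subgroup.mem_zpowers_iff.1 he'
        have hp0 : (0 : ℤ) < n := by rw [show n = p ^ j from hj]; exact_mod_cast pow_pos hp.out.pos j
        refine ⟨(i % n).toNat, Finset.mem_range.2 ?_, ?_⟩
        · have h1 := Int.emod_lt_of_pos i hp0
          have h2 := Int.emod_nonneg i hp0.ne'
          omega
        · show x ^ (i % n).toNat • o = q
          rw [← zpow_natCast x, Int.toNat_of_nonneg (Int.emod_nonneg _ hp0.ne'), ← he,
            MulAction.zpow_smul_mod_minimalPeriod]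
          rfl
  -- the fixed right orbits
  have hfixed : ∀ o, (∀ a : S, a • o = o) → d x o = (ψ x)⁻¹ := by
    intro o ho
    obtain ⟨P, f, t, hf, htP, hft, hd', -, hg⟩ := hfix x o (ho x)
    have hsurj : ∀ y ∈ S, y ∈ P → f y ∈ S := fun y _ hy => hf.apply_mem hy
    have hPS : P = S := by
      haveI : Finite P := finite_of_le hf.dom_le
      refine Subgroup.eq_of_le_of_card_ge hf.dom_le ?_
      have hmem : ∀ a : S, ∃ t : S, (t : Ω) ∈ P ∧ f t = a := fun a => by
        obtain ⟨P', f', t', -, htP', hft', -, -, hg'⟩ := hfix a o (ho a)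
        have h1 : P' = P := (hg'.rproj_eq).symm.trans hg.rproj_eq
        subst h1
        have h2 : ((⟨_, hg'.1.apply_mem htP'⟩, t') : S × S) ∈ MulAction.stabilizer (S × S) o.out :=
          (hg'.2 _).2 ⟨htP', rfl⟩
        obtain ⟨h3, h4⟩ := (hg.2 _).1 h2
        exact ⟨t', h3, h4.trans hft'⟩
      choose sec hsec1 hsec2 using hmem
      refine Nat.card_le_card_of_injective (fun a : S => (⟨(sec a : Ω), hsec1 a⟩ : P)) fun a b h => ?_
      have h1 : (sec a : Ω) = sec b := congrArg (fun z : P => (z : Ω)) h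
      exact Subtype.ext (by rw [← hsec2 a, ← hsec2 b, h1])
    subst hPS
    rw [hd', map_inv, ← hψ f hf t]
    congr 2
    exact Subtype.ext hft
  -- some proper orbit contributes
  obtain ⟨o, hoS, hno⟩ : ∃ o : Y, (∃ a : S, a • o ≠ o) ∧
      ∏ q ∈ Finset.univ.filter (fun q => q ∈ MulAction.orbit S o), E q x ≠ 1 := by
    by_contra hno
    have hall : ∀ o : Y, (∃ a : S, a • o ≠ o) →
        ∏ q ∈ Finset.univ.filter (fun q => q ∈ MulAction.orbit S o), E q x = 1 := fun o ho => by
      by_contra h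
      exact hno ⟨o, ho, h⟩
    set Fx := Finset.univ.filter (fun o : Y => ∀ a : S, a • o = o)
    have h1 : ∏ o, E o x = ∏ o ∈ Fx, E o x := by
      letI : Fintype (Quotient (MulAction.orbitRel S Y)) := Fintype.ofFinite _
      rw [← Finset.prod_fiberwise Finset.univ (Quotient.mk'' : Y → Quotient (MulAction.orbitRel S Y)),
        ← Finset.prod_fiberwise Fx (Quotient.mk'' : Y → Quotient (MulAction.orbitRel S Y))]
      refine Finset.prod_congr rfl fun ω _ => ?_
      obtain ⟨o, rfl⟩ := Quotient.exists_rep ω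
      by_cases ho : ∀ a : S, a • o = o
      · refine Finset.prod_congr ?_ fun _ _ => rfl
        ext q
        simp only [Fx, Finset.mem_filter, Finset.mem_univ, true_and]
        refine ⟨fun hq => ⟨?_, hq⟩, And.right⟩
        obtain ⟨e, rfl⟩ := (MulAction.orbitRel_apply.1 (Quotient.exact' hq) : q ∈ MulAction.orbit S o)
        intro a
        show a • e • o = e • o
        rw [ho e, ho a]
      · have hne' : ∃ a : S, a • o ≠ o := not_forall.1 ho
        have hf0 : Finset.filter (fun q : Y => Quotient.mk'' q =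
            Quotient.mk (MulAction.orbitRel S Y) o) Finset.univ =
            Finset.univ.filter (fun q => q ∈ MulAction.orbit S o) := by
          ext q
          simp only [Finset.mem_filter, Finset.mem_univ, true_and]
          exact ⟨fun hq => MulAction.orbitRel_apply.1 (Quotient.exact' hq),
            fun hq => Quotient.sound' (MulAction.orbitRel_apply.2 hq)⟩
        rw [hf0, hall o hne', Finset.prod_eq_one]
        intro q hq
        exfalso
        simp only [Fx, Finset.mem_filter, Finset.mem_univ, true_and] at hq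
        obtain ⟨e, he⟩ := (MulAction.orbitRel_apply.1 (Quotient.exact' hq.2) : q ∈ MulAction.orbit S o)
        refine ho fun a => ?_
        have h2 : e • o = o := by
          have := hq.1 e⁻¹
          rw [← he, inv_smul_smul] at this
          exact this.symm
        have h3 := hq.1 a
        have hqo : q = o := he.symm.trans h2
        rwa [hqo] at h3
    have h2 : ∏ o ∈ Fx, E o x = (ψ x)⁻¹ ^ Fx.card := by
      rw [← Finset.prod_const]
      refine Finset.prod_congr rfl fun o ho => ?_
      have ho' := (Finset.mem_filter.1 ho).2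
      rw [hE o x (ho' x), hfixed o ho']
    have h3 : Fx.card % p ≠ 0 := by
      have h4 := hS.card_modEq_card_fixedPoints Y
      have h5 : Fx.card = Nat.card (MulAction.fixedPoints S Y) := by
        rw [Nat.card_coe_set_eq, ← Set.ncard_coe_finset]
        congr 1
        ext o
        simp [Fx, MulAction.mem_fixedPoints]
      rw [h5, ← h4, hcardY]
      exact fun h => hm (Nat.dvd_of_mod_eq_zero h)
    have h4 : (ψ x)⁻¹ ^ Fx.card = 1 := by rw [← h2, ← h1, ← hτx]; exact hτ x hxfoc
    have hcop : Nat.Coprime Fx.card p :=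
      (hp.out.coprime_iff_not_dvd.2 fun h => h3 (Nat.mod_eq_zero_of_dvd h)).symm
    exact hxψ (inv_eq_one.1 (orderOf_eq_one_iff.1 (Nat.eq_one_of_dvd_coprimes hcop
      (orderOf_dvd_of_pow_eq_one h4) (orderOf_dvd_of_pow_eq_one (hA _)))))
  set Q : Subgroup S := MulAction.stabilizer S o
  have hQ : Q ≠ ⊤ := fun h => by
    obtain ⟨a, ha⟩ := hoS
    exact ha ((h ▸ Subgroup.mem_top a : a ∈ Q))
  let θ : Q →* A := MonoidHom.mk' (fun a => d a o) fun a b => by
    show d ((a : S) * b) o = _
    rw [hd, MulAction.mem_stabilizer_iff.1 b.2, mul_comm]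
  have hθ : ∀ a : S, extOne θ a = E o a := fun a => by
    by_cases ha : a • o = o
    · rw [extOne_of_mem θ (MulAction.mem_stabilizer_iff.2 ha), hE o a ha]
      rfl
    · rw [extOne, dif_neg fun h => ha (MulAction.mem_stabilizer_iff.1 h)]
      exact (if_neg ha).symm
  letI : Fintype (S ⧸ Q) := Fintype.ofFinite _
  refine wreath_of_extOne (p := p) hS hQ θ hA x (fun a j hj => ?_) ?_
  · rw [hθ]
    by_cases h : (a⁻¹ * x ^ p ^ j * a) • o = o
    · rw [hE _ _ h]; exact hpow a j o hj h
    · exact if_neg h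
  · refine fun h1 => hno (Eq.trans ?_ h1)
    refine (Finset.prod_nbij (fun q : S ⧸ Q => q.out • o) ?_ ?_ ?_ ?_).symm
    · exact fun q _ => Finset.mem_filter.2 ⟨Finset.mem_univ _, MulAction.mem_orbit o q.out⟩
    · intro q _ q' _ he
      rw [← QuotientGroup.out_eq' q, ← QuotientGroup.out_eq' q']
      refine QuotientGroup.eq.2 (MulAction.mem_stabilizer_iff.2 ?_)
      rw [mul_smul, inv_smul_eq_iff]
      exact he.symm
    · intro q hq
      obtain ⟨a, ha⟩ := (Finset.mem_filter.1 hq).2
      refine ⟨(a : S ⧸ Q), Finset.mem_univ _, ?_⟩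
      have h2 : (a : S ⧸ Q).out⁻¹ * a ∈ Q := QuotientGroup.eq.1 (QuotientGroup.out_eq' _)
      rw [MulAction.mem_stabilizer_iff, mul_smul, inv_smul_eq_iff] at h2
      show (a : S ⧸ Q).out • o = q
      rw [← h2]; exact ha
    · intro q _
      rw [hθ]
      set b := q.out
      by_cases h : (b⁻¹ * x * b) • o = o
      · have hx' : x • b • o = b • o := by
          rw [mul_assoc, mul_smul, inv_smul_eq_iff, mul_smul] at h
          exact h
        rw [hE _ _ h, hE _ _ hx']
        have h2 := hd b (b⁻¹ * x * b) o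
        rw [h, show b * (b⁻¹ * x * b) = x * b by group, hd x b o, mul_comm] at h2
        exact (mul_right_cancel h2).symm
      · have hx' : ¬ x • b • o = b • o := fun hx' => h (by
          rw [mul_assoc, mul_smul, mul_smul, hx', inv_smul_smul])
        exact (if_neg h).trans (if_neg hx').symm

/-- Yoshida's theorem. -/
theorem wreath_of_focal_ne [Finite S] [hp : Fact p.Prime] (hS : IsPGroup p S) (hF : F.IsSaturated p)
    (N : FusionSystem (FusionSystem.normalizerIn S S)) (hN : F.IsNormalizerSystem S N)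
    (hne : N.focalSubgroup ≠ F.focalSubgroup) :
    ∃ (W : Sylow p (Equiv.Perm (Fin (p ^ 2))))
      (f : S →* ↥(W : Subgroup (Equiv.Perm (Fin (p ^ 2))))), Function.Surjective f := by
  classical
  haveI := finite_mulAut S
  have hNS : FusionSystem.normalizerIn S S = S := normalizerIn_self S
  have hmapN : ∀ f, IsMap F S f → IsMap N S f := fun f hf => by
    obtain ⟨Q, hQ⟩ := hf.exists_image
    refine (IsNormalizerSystem.isMap_iff hN).2
      ⟨hf, hNS.ge, fun x hx => hNS.ge (hf.apply_mem hx), ?_⟩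
    refine ⟨f, hf.mono (sup_le le_rfl le_rfl), fun x _ => rfl, ?_⟩
    rw [hQ.2]
    exact congrArg _ (Subgroup.eq_of_le_of_card_ge hQ.cod_le hQ.card_eq.le)
  have hsub : N.focalSubgroup ≤ F.focalSubgroup := by
    refine (Subgroup.closure_le _).2 ?_
    rintro y ⟨P, φ, x, hφ, rfl⟩
    have h1 := ((IsNormalizerSystem.isMap_iff hN).1 (isMap_extFun hφ)).1
    have h2 := focal_gen_mem h1 x.2
    rwa [extFun_of_mem φ x.2] at h2
  have hgen : ∀ f, IsMap F S f → ∀ x ∈ S, x⁻¹ * f x ∈ N.focalSubgroup := fun f hf x hx =>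
    focal_gen_mem (hmapN f hf) hx
  have hcomm : ⁅S, S⁆ ≤ N.focalSubgroup := by
    refine le_trans (le_of_eq ?_) (commutator_le_focal (F := N))
    simp only [hNS]
  have hT : ¬ F.hyperfocalSubgroup p ≤ N.focalSubgroup := by
    intro hle
    refine hne (le_antisymm hsub ?_)
    rw [focal_eq hS hF]
    exact sup_le hle hcomm
  set T := (F.hyperfocalSubgroup p).subgroupOf S with hTdef
  haveI hTn : T.Normal :=
    (Subgroup.normal_subgroupOf_iff_le_normalizer hyperfocal_le).mpr hyperfocal_normalizer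
  set M₀ : Subgroup S := ⁅T, (⊤ : Subgroup S)⁆ ⊔ Subgroup.closure
    {y : S | ∃ (t : S) (f : Ω → Ω) (hf : IsMap F S f), t ∈ T ∧ y = t⁻¹ * ⟨f t, hf.apply_mem t.2⟩}
  have hclosed : ∀ f (hf : IsMap F S f), ∀ t ∈ T, (⟨f t, hf.apply_mem t.2⟩ : S) ∈ T := by
    intro f hf t ht
    obtain ⟨φ, hφ, hφf⟩ := id (hf.mono (hyperfocal_le (F := F) (p := p)))
    have h1 := (hyperfocal_stronglyClosed hS hF).2 _ le_rfl φ hφ ⟨(t : Ω), Subgroup.mem_subgroupOf.1 ht⟩
    rw [Subgroup.mem_subgroupOf]
    show f t ∈ _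
    have h2 : φ ⟨(t : Ω), Subgroup.mem_subgroupOf.1 ht⟩ = f t := hφf _
    rw [← h2]
    exact h1
  have hM₀T : M₀ ≤ T := by
    refine sup_le (Subgroup.commutator_le_left _ _) ((Subgroup.closure_le _).2 ?_)
    rintro y ⟨t, f, hf, ht, rfl⟩
    exact T.mul_mem (T.inv_mem ht) (hclosed f hf t ht)
  haveI : M₀.Normal := by
    refine ⟨fun y hy g => ?_⟩
    have h1 : ⁅y, g⁆ ∈ M₀ :=
      Subgroup.mem_sup_left (Subgroup.commutator_mem_commutator (hM₀T hy) (Subgroup.mem_top g))
    have h2 := M₀.mul_mem (M₀.inv_mem h1) hy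
    simpa [commutatorElement_def, mul_assoc] using h2
  have hMfoc : M₀.map S.subtype ≤ N.focalSubgroup := by
    rw [Subgroup.map_sup, sup_le_iff]
    constructor
    · refine le_trans (Subgroup.map_mono (Subgroup.commutator_mono le_top le_rfl)) ?_
      rw [Subgroup.map_commutator, ← MonoidHom.range_eq_map, Subgroup.range_subtype]
      exact hcomm
    · rw [MonoidHom.map_closure]
      refine (Subgroup.closure_le _).2 ?_
      rintro _ ⟨_, ⟨t, f, hf, -, rfl⟩, rfl⟩
      exact hgen f hf t t.2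
  have hTM : ¬ T ≤ M₀ := fun hle => hT fun y hy =>
    hMfoc ⟨⟨y, hyperfocal_le hy⟩, hle (Subgroup.mem_subgroupOf.2 hy), rfl⟩
  obtain ⟨m, hm, μ, hμ⟩ := exists_hyperfocal_extension (T := T) (M := M₀) p hS hF hTdef hM₀T le_sup_left
  haveI := isMulCommutative_tbar (T := T) (M := M₀) le_sup_left
  set B := ↥(tbar T M₀)
  have hBp : IsPGroup p B := (hS.to_quotient M₀).to_subgroup _
  -- average over the automorphisms
  set Aut := F.autGroup S
  set I : Subgroup Aut := (autInducedBy S S).subgroupOf Aut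
  letI : Fintype (Aut ⧸ I) := Fintype.ofFinite _
  have hI : ¬ p ∣ I.index := by
    obtain ⟨-, R, hR⟩ := fullyAutomized_of_fullyNormalized hS hF fullyNormalized_self
    exact fun h => R.not_dvd_index (by rw [hR]; exact h)
  have hμI : ∀ (α : I) (s : S), μ (((α : Aut) : MulAut S) s) = μ s := by
    intro α s
    obtain ⟨g, hg, hgx⟩ := mem_autInducedBy.1 (Subgroup.mem_subgroupOf.1 α.2)
    have h1 : ((α : Aut) : MulAut S) s = ⟨g, hg⟩ * s * (⟨g, hg⟩ : S)⁻¹ := Subtype.ext (hgx s)
    rw [h1, map_mul, map_mul, map_inv, mul_comm (μ ⟨g, hg⟩), mul_inv_cancel_right]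
  have hrep : ∀ a b : Aut, (a : Aut ⧸ I) = b → ∀ s, μ ((a⁻¹ : Aut).1 s) = μ ((b⁻¹ : Aut).1 s) := by
    intro a b h s
    have h1 : a⁻¹ * b ∈ I := QuotientGroup.eq.1 h
    have h2 := hμI ⟨_, h1⟩ ((b⁻¹ : Aut).1 s)
    rw [← h2]
    show _ = μ (((a⁻¹ * b : Aut) : MulAut S) (((b⁻¹ : Aut) : MulAut S) s))
    rw [← MulAut.mul_apply, ← Subgroup.coe_mul, mul_inv_cancel_right]
  let μ' : S →* B := MonoidHom.mk' (fun s => ∏ c : Aut ⧸ I, μ ((c.out⁻¹ : Aut).1 s))
    fun a b => by simp only [map_mul, Finset.prod_mul_distrib]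
  set Pw : Subgroup B := (powMonoidHom p).range
  set A := B ⧸ Pw
  set ψ : S →* A := (QuotientGroup.mk' Pw).comp μ'
  have hA : ∀ a : A, a ^ p = 1 := by
    intro a
    obtain ⟨a, rfl⟩ := QuotientGroup.mk'_surjective Pw a
    rw [← map_pow]
    exact (QuotientGroup.eq_one_iff _).2 ⟨a, rfl⟩
  have hψinv : IsTopInvariant F ψ := by
    intro f hf s
    obtain ⟨Q, hQ⟩ := hf.exists_image
    obtain rfl : Q = S := Subgroup.eq_of_le_of_card_ge hQ.cod_le hQ.card_eq.le
    obtain ⟨α, hα, he⟩ := hQ.exists_aut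
    set a : Aut := ⟨α, hα⟩
    show QuotientGroup.mk' Pw (μ' _) = _
    have h1 : (⟨f s, hf.apply_mem s.2⟩ : Q) = α s :=
      Subtype.ext ((he s.2).symm.trans (autFun_of_mem α s.2))
    rw [h1]
    show QuotientGroup.mk' Pw (∏ c : Aut ⧸ I, μ ((c.out⁻¹ : Aut).1 (α s))) =
      QuotientGroup.mk' Pw (∏ c : Aut ⧸ I, μ ((c.out⁻¹ : Aut).1 s))
    congr 1
    conv_lhs => rw [← Equiv.prod_comp (MulAction.toPerm a : Equiv.Perm (Aut ⧸ I))]
    refine Finset.prod_congr rfl fun c _ => ?_
    have h2 : ((a • c).out : Aut ⧸ I) = ((a * c.out : Aut) : Aut ⧸ I) := by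
      rw [QuotientGroup.out_eq']
      conv_lhs => rw [← QuotientGroup.out_eq' c]
      rfl
    show μ (((a • c).out⁻¹ : Aut).1 (α s)) = _
    rw [hrep _ _ h2, show α s = (a : MulAut Q) s from rfl, ← MulAut.mul_apply, ← Subgroup.coe_mul]
    congr 3
    group
  have hψT : ∀ t (ht : t ∈ T), μ' t = (⟨QuotientGroup.mk' M₀ t, t, ht, rfl⟩ : B) ^ (m * I.index) := by
    intro t ht
    show ∏ c : Aut ⧸ I, μ ((c.out⁻¹ : Aut).1 t) = _
    rw [pow_mul, Subgroup.index_eq_card, Nat.card_eq_fintype_card, ← Finset.card_univ, ← Finset.prod_const]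
    refine Finset.prod_congr rfl fun c _ => ?_
    set α := (c.out⁻¹ : Aut)
    have hf : IsMap F S (autFun (α : MulAut S)) := ((mem_autGroup (F := F) le_rfl).1 α.2).1
    have hαt : (⟨autFun (α : MulAut S) t, hf.apply_mem t.2⟩ : S) = α.1 t :=
      Subtype.ext (autFun_of_mem _ t.2)
    refine Subtype.ext ?_
    rw [hμ _ (hαt ▸ hclosed _ hf t ht), Subgroup.coe_pow]
    congr 1
    refine (QuotientGroup.eq.2 (Subgroup.mem_sup_right (Subgroup.subset_closure ?_))).symm
    exact ⟨t, _, hf, ht, by rw [hαt]⟩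
  have hB : ∃ b : B, b ∉ Pw := by
    by_contra hno
    simp only [not_exists, not_not] at hno
    have hinj : Function.Injective (powMonoidHom p : B →* B) :=
      Finite.injective_iff_surjective.2 (MonoidHom.range_eq_top.1 (eq_top_iff.2 fun b _ => hno b))
    have hsub' : Subsingleton B := ⟨fun a b => by
      have key : ∀ a : B, a = 1 := fun a => by
        obtain ⟨k, hk⟩ := hBp a
        clear hno
        induction k generalizing a with
        | zero => simpa using hk
        | succ k ih =>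
          refine ih a (hinj ?_)
          simpa [← pow_mul, ← pow_succ] using hk
      rw [key a, key b]⟩
    refine hTM fun t ht => (QuotientGroup.eq_one_iff t).1 ?_
    exact congrArg Subtype.val (Subsingleton.elim (⟨QuotientGroup.mk' M₀ t, t, ht, rfl⟩ : B) 1)
  obtain ⟨⟨_, t, ht, rfl⟩, hb⟩ := hB
  refine wreath_of_invariant hS hF hA ψ hψinv (x₀ := t) (hyperfocal_le_focal ht) fun h1 => hb ?_
  have h2 : μ' t ∈ Pw := (QuotientGroup.eq_one_iff _).1 h1
  rw [hψT t ht] at h2
  set b : B := ⟨QuotientGroup.mk' M₀ t, t, ht, rfl⟩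
  have h3 : ¬ p ∣ m * I.index := fun h => (hp.out.dvd_mul.1 h).elim hm hI
  have hb' := Nat.gcd_eq_gcd_ab p (m * I.index)
  rw [(hp.out.coprime_iff_not_dvd.2 h3 : Nat.gcd p (m * I.index) = 1)] at hb'
  show b ∈ Pw
  rw [← zpow_one b, ← Nat.cast_one, hb', zpow_add, zpow_mul, zpow_mul, zpow_natCast, zpow_natCast]
  exact Pw.mul_mem (Pw.zpow_mem ⟨b, rfl⟩ _) (Pw.zpow_mem h2 _)

end Cfsg.Agent.LocalEven62.YoshidaFusion
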